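import Mathlib

/-!
# Linear automorphisms of prime order `r` different from the characteristic

`fixS T = ker (T - 1)`, `comS T = range (T - 1)`; they are complementary; counting of free orbits:
`orderOf (q : ZMod r)` divides the dimension of every `T`-invariant subspace without fixed vectors.
-/

set_option autoImplicit false

namespace Cfsg.Agent.H955

open Module

section Arith

/-- `r ∣ q ^ n - 1` in terms of the order of `q` modulo `r`. -/
theorem dvd_pow_sub_one_iff {r q n : ℕ} (hq : 0 < q) :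
    r ∣ q ^ n - 1 ↔ orderOf (q : ZMod r) ∣ n := by
  rw [orderOf_dvd_iff_pow_eq_one, ← ZMod.natCast_eq_zero_iff, Nat.cast_sub (Nat.one_le_pow _ _ hq),
    sub_eq_zero, Nat.cast_pow, Nat.cast_one]

theorem pow_eq_one_iff_dvd {r q n : ℕ} :
    (q : ZMod r) ^ n = 1 ↔ orderOf (q : ZMod r) ∣ n := by
  rw [orderOf_dvd_iff_pow_eq_one]

/-- the order of `q` modulo a prime not dividing `q` divides `r - 1`. -/
theorem orderOf_dvd_sub_one {r q : ℕ} [Fact r.Prime] (h : ¬ r ∣ q) :
    orderOf (q : ZMod r) ∣ r - 1 := by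
  rw [orderOf_dvd_iff_pow_eq_one]
  exact ZMod.pow_card_sub_one_eq_one (fun h0 => h ((ZMod.natCast_eq_zero_iff _ _).1 h0))

theorem orderOf_pos_of_not_dvd {r q : ℕ} [hr : Fact r.Prime] (h : ¬ r ∣ q) :
    0 < orderOf (q : ZMod r) := by
  have h1 := orderOf_dvd_sub_one h
  have h2 : 0 < r - 1 := by have := hr.out.two_le; omega
  exact Nat.pos_of_dvd_of_pos h1 h2

/-- If the order `i` of `q` modulo the prime `r` is even then `q ^ (i / 2) = -1`. -/
theorem pow_half_eq_neg_one {r q : ℕ} [hr : Fact r.Prime] (h : ¬ r ∣ q)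
    (he : Even (orderOf (q : ZMod r))) : (q : ZMod r) ^ (orderOf (q : ZMod r) / 2) = -1 := by
  set i := orderOf (q : ZMod r) with hi
  have hpos : 0 < i := orderOf_pos_of_not_dvd h
  obtain ⟨j, hj⟩ := he
  have hj2 : i / 2 = j := by omega
  rw [hj2]
  have h1 : ((q : ZMod r) ^ j) ^ 2 = 1 := by
    rw [← pow_mul, mul_two, ← hj, hi, pow_orderOf_eq_one]
  rw [show (1 : ZMod r) = 1 ^ 2 by simp, sq_eq_sq_iff_eq_or_eq_neg] at h1
  rcases h1 with h2 | h2
  · exfalso
    have := orderOf_dvd_of_pow_eq_one h2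
    rw [← hi] at this
    have := Nat.le_of_dvd (by omega) this
    omega
  · exact h2

theorem two_ne_zero_zmod {r : ℕ} [hr : Fact r.Prime] (h2 : 2 < r) : (2 : ZMod r) ≠ 0 := by
  intro h
  have h' : ((2 : ℕ) : ZMod r) = 0 := by exact_mod_cast h
  have := Nat.le_of_dvd (by norm_num) ((ZMod.natCast_eq_zero_iff 2 r).1 h')
  omega

theorem one_ne_neg_one_zmod {r : ℕ} [hr : Fact r.Prime] (h2 : 2 < r) : (1 : ZMod r) ≠ -1 := by
  intro h
  apply two_ne_zero_zmod h2
  linear_combination h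

end Arith

section Count

/-- fixed points of an automorphism of prime order `r` on an invariant subset, modulo `r`. -/
theorem card_modEq_fix {S : Type*} [Finite S] (σ : Equiv.Perm S) {r : ℕ} [Fact r.Prime]
    (hσ : σ ^ r = 1) (P : S → Prop) (hP : ∀ v, P v → P (σ v)) :
    Nat.card {v // P v} ≡ Nat.card {v // P v ∧ σ v = v} [MOD r] := by
  classical
  have := Fintype.ofFinite S
  let f : Function.End {v // P v} := fun v => ⟨σ v.1, hP v.1 v.2⟩
  have hpow : ∀ (n : ℕ) (v : {v // P v}), ((f ^ n) v).1 = (σ ^ n) v.1 := by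
    intro n
    induction n with
    | zero => intro v; rfl
    | succ n ih =>
      intro v
      rw [pow_succ, pow_succ]
      change ((f ^ n) (f v)).1 = (σ ^ n) (σ v.1)
      rw [ih]
  have hf : f ^ r ^ 1 = 1 := by
    funext v
    apply Subtype.ext
    rw [pow_one, hpow, hσ]
    rfl
  have h := Equiv.Perm.card_fixedPoints_modEq (f := f) (p := r) (n := 1) hf
  rw [Nat.card_eq_fintype_card]
  refine h.trans ?_
  rw [← Nat.card_eq_fintype_card]
  have e : Nat.card ↑(Function.fixedPoints f) = Nat.card {v // P v ∧ σ v = v} := by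
    refine Nat.card_congr ⟨fun v => ⟨v.1.1, v.1.2, congrArg Subtype.val v.2⟩,
      fun v => ⟨⟨v.1, v.2.1⟩, Subtype.ext v.2.2⟩, fun v => rfl, fun v => rfl⟩
  rw [e]

/-- an automorphism of prime order `r` without fixed points on an invariant subset. -/
theorem dvd_card_of_free {S : Type*} [Finite S] (σ : Equiv.Perm S) {r : ℕ} [Fact r.Prime]
    (hσ : σ ^ r = 1) (P : S → Prop) (hP : ∀ v, P v → P (σ v)) (hf : ∀ v, P v → σ v ≠ v) :
    r ∣ Nat.card {v // P v} := by
  have h := card_modEq_fix σ hσ P hP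
  have h0 : Nat.card {v // P v ∧ σ v = v} = 0 := by
    rw [Nat.card_eq_zero]
    exact Or.inl ⟨fun v => hf v.1 v.2.1 v.2.2⟩
  rw [h0] at h
  exact (Nat.modEq_zero_iff_dvd).1 h

end Count

section Linear

variable {F V : Type*} [Field F] [AddCommGroup V] [Module F V]

/-- fixed vectors -/
def fixS (T : V ≃ₗ[F] V) : Submodule F V := LinearMap.ker ((T : V →ₗ[F] V) - LinearMap.id)

/-- the commutator space `[V, T]` -/
def comS (T : V ≃ₗ[F] V) : Submodule F V := LinearMap.range ((T : V →ₗ[F] V) - LinearMap.id)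

theorem mem_fixS {T : V ≃ₗ[F] V} {v : V} : v ∈ fixS T ↔ T v = v := by
  simp [fixS, sub_eq_zero]

theorem mem_comS {T : V ≃ₗ[F] V} {v : V} : v ∈ comS T ↔ ∃ w, T w - w = v := by
  simp [comS]

theorem pow_apply_add {T : V ≃ₗ[F] V} {y z : V} (hy : T y = y) (hz : T z - z = y) (n : ℕ) :
    (T ^ n) z = z + (n : F) • y := by
  induction n with
  | zero => simp
  | succ n ih =>
    rw [pow_succ', LinearEquiv.mul_apply, ih, map_add, map_smul, hy, Nat.cast_succ, add_smul,
      one_smul]
    have : T z = z + y := by rw [← hz]; abel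
    rw [this]
    abel

theorem disjoint_fixS_comS {T : V ≃ₗ[F] V} {r : ℕ} (hr : (r : F) ≠ 0) (hT : T ^ r = 1) :
    Disjoint (fixS T) (comS T) := by
  rw [Submodule.disjoint_def]
  intro y hy hy'
  obtain ⟨z, hz⟩ := mem_comS.1 hy'
  have h := pow_apply_add (mem_fixS.1 hy) hz r
  rw [hT] at h
  have h2 : (r : F) • y = 0 := by
    have : z = z + (r : F) • y := h
    simpa using this
  exact (smul_eq_zero.1 h2).resolve_left hr

theorem finrank_fixS_add_comS [FiniteDimensional F V] (T : V ≃ₗ[F] V) :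
    finrank F (fixS T) + finrank F (comS T) = finrank F V := by
  rw [add_comm]
  exact LinearMap.finrank_range_add_finrank_ker ((T : V →ₗ[F] V) - LinearMap.id)

theorem isCompl_fixS_comS [FiniteDimensional F V] {T : V ≃ₗ[F] V} {r : ℕ} (hr : (r : F) ≠ 0)
    (hT : T ^ r = 1) : IsCompl (fixS T) (comS T) := by
  refine ⟨disjoint_fixS_comS hr hT, ?_⟩
  rw [codisjoint_iff]
  exact Submodule.eq_top_of_disjoint _ _ (finrank_fixS_add_comS T).ge (disjoint_fixS_comS hr hT)

theorem map_mem_fixS {T : V ≃ₗ[F] V} {v : V} (hv : v ∈ fixS T) : T v ∈ fixS T := by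
  rw [mem_fixS.1 hv]; exact hv

theorem map_mem_comS {T : V ≃ₗ[F] V} {v : V} (hv : v ∈ comS T) : T v ∈ comS T := by
  obtain ⟨w, rfl⟩ := mem_comS.1 hv
  exact mem_comS.2 ⟨T w, by rw [map_sub]⟩

theorem sub_mem_comS (T : V ≃ₗ[F] V) (v : V) : T v - v ∈ comS T := mem_comS.2 ⟨v, rfl⟩

/-- a `T`-invariant subspace of the finite-dimensional space is mapped onto itself. -/
theorem map_eq_of_le [FiniteDimensional F V] (T : V ≃ₗ[F] V) (W : Submodule F V)
    (h : ∀ w ∈ W, T w ∈ W) : W.map (T : V →ₗ[F] V) = W := by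
  apply Submodule.eq_of_le_of_finrank_eq
  · rintro _ ⟨w, hw, rfl⟩
    exact h w hw
  · exact LinearEquiv.finrank_map_eq T W

theorem mem_of_map_mem [FiniteDimensional F V] {T : V ≃ₗ[F] V} {W : Submodule F V}
    (h : ∀ w ∈ W, T w ∈ W) {v : V} (hv : T v ∈ W) : v ∈ W := by
  rw [← map_eq_of_le T W h] at hv
  obtain ⟨w, hw, hwv⟩ := hv
  have : w = v := T.injective hwv
  rw [← this]; exact hw

/-- restriction of `T` to an invariant subspace -/
noncomputable def resT [FiniteDimensional F V] (T : V ≃ₗ[F] V) (W : Submodule F V)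
    (h : ∀ w ∈ W, T w ∈ W) : W ≃ₗ[F] W :=
  LinearEquiv.ofInjectiveEndo ((T : V →ₗ[F] V).restrict h) (by
    intro x y hxy
    apply Subtype.ext
    apply T.injective
    exact congrArg Subtype.val hxy)

@[simp] theorem coe_resT [FiniteDimensional F V] (T : V ≃ₗ[F] V) (W : Submodule F V)
    (h : ∀ w ∈ W, T w ∈ W) (w : W) : (resT T W h w : V) = T (w : V) := rfl

theorem coe_resT_pow [FiniteDimensional F V] (T : V ≃ₗ[F] V) (W : Submodule F V)
    (h : ∀ w ∈ W, T w ∈ W) (n : ℕ) (w : W) : ((resT T W h ^ n) w : V) = (T ^ n) (w : V) := by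
  induction n generalizing w with
  | zero => rfl
  | succ n ih =>
    rw [pow_succ, pow_succ, LinearEquiv.mul_apply, LinearEquiv.mul_apply, ih, coe_resT]

theorem resT_pow_eq_one [FiniteDimensional F V] {T : V ≃ₗ[F] V} {W : Submodule F V}
    {h : ∀ w ∈ W, T w ∈ W} {n : ℕ} (hT : T ^ n = 1) : resT T W h ^ n = 1 := by
  ext w
  rw [coe_resT_pow, hT]
  rfl

/-- **free action**: `orderOf (q : ZMod r)` divides the dimension of a `T`-invariant subspace without
non-zero fixed vectors. -/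
theorem orderOf_dvd_finrank [Finite F] [FiniteDimensional F V] {T : V ≃ₗ[F] V} {r : ℕ}
    [Fact r.Prime] (hT : T ^ r = 1) (W : Submodule F V) (hW : ∀ w ∈ W, T w ∈ W)
    (hf : ∀ w ∈ W, T w = w → w = 0) : orderOf (Nat.card F : ZMod r) ∣ finrank F W := by
  have : Finite V := Module.finite_of_finite F
  have hfun : (T.toEquiv : Equiv.Perm V) ^ r = 1 := by
    ext v
    have h1 : ∀ (n : ℕ) (v : V), ((T.toEquiv : Equiv.Perm V) ^ n) v = (T ^ n) v := by
      intro n
      induction n with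
      | zero => intro v; rfl
      | succ n ih =>
        intro v
        rw [pow_succ, pow_succ, Equiv.Perm.mul_apply, LinearEquiv.mul_apply, ih]
        rfl
    rw [h1, hT]
    rfl
  have h := card_modEq_fix (T.toEquiv : Equiv.Perm V) hfun (fun v => v ∈ W) hW
  have h1 : Nat.card {v // v ∈ W ∧ T.toEquiv v = v} = 1 := by
    rw [Nat.card_eq_one_iff_exists]
    refine ⟨⟨0, W.zero_mem, map_zero T⟩, ?_⟩
    rintro ⟨v, hv, hv'⟩
    exact Subtype.ext (hf v hv hv')
  rw [h1] at h
  have h2 : Nat.card {v // v ∈ W} = Nat.card F ^ finrank F W := Module.natCard_eq_pow_finrank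
  rw [h2] at h
  rw [orderOf_dvd_iff_pow_eq_one]
  have h3 := (ZMod.natCast_eq_natCast_iff _ _ _).2 h
  push_cast at h3
  exact h3

theorem permPow (T : V ≃ₗ[F] V) (n : ℕ) (v : V) :
    ((T.toEquiv : Equiv.Perm V) ^ n) v = (T ^ n) v := by
  induction n generalizing v with
  | zero => rfl
  | succ n ih =>
    rw [pow_succ, pow_succ, Equiv.Perm.mul_apply, LinearEquiv.mul_apply, ih]
    rfl

theorem permPow_eq_one {T : V ≃ₗ[F] V} {n : ℕ} (hT : T ^ n = 1) :
    (T.toEquiv : Equiv.Perm V) ^ n = 1 := by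
  ext v
  rw [permPow, hT]
  rfl

/-- `r` divides the number of points of a `T`-invariant set of vectors without fixed vectors. -/
theorem dvd_card_of_free_linear [Finite V] {T : V ≃ₗ[F] V} {r : ℕ}
    [Fact r.Prime] (hT : T ^ r = 1) (P : V → Prop) (hP : ∀ v, P v → P (T v))
    (hf : ∀ v, P v → T v ≠ v) : r ∣ Nat.card {v // P v} :=
  dvd_card_of_free (T.toEquiv : Equiv.Perm V) (permPow_eq_one hT) P hP hf

/-- orthogonality of `fixS` and `comS` for an invariant biadditive form. -/
theorem ortho_fixS_comS {R : Type*} [AddCommGroup R] {T : V ≃ₗ[F] V} (f : V → V → R)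
    (hsub : ∀ u v w, f (u - v) w = f u w - f v w) (hf : ∀ u v, f (T u) (T v) = f u v)
    {u v : V} (hu : u ∈ comS T) (hv : v ∈ fixS T) : f u v = 0 := by
  obtain ⟨w, rfl⟩ := mem_comS.1 hu
  rw [hsub]
  nth_rewrite 1 [← mem_fixS.1 hv]
  rw [hf, sub_self]

end Linear

end Cfsg.Agent.H955
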