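import Mathlib
import Cfsg.Agent.H955.QSpace

/-!
# Classification of even-dimensional nondegenerate quadratic spaces over finite fields

Plus type spaces are isometric to `plusForm m`, the other even-dimensional ones to
`minusForm m a b` with an anisotropic binary part; two spaces of the same dimension and type are
isometric; the sign is multiplicative on orthogonal sums.
-/

set_option autoImplicit false

namespace Cfsg.Agent.H955

open Module QuadraticMap Cfsg.Agent.LieClassical.OrthCore Cfsg.Agent.LieClassical.OrthTrans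
open Cfsg.Agent.LieClassical.QuadForms

universe u v

section Split

variable {F V : Type*} [Field F] [AddCommGroup V] [Module F V] {Q : QuadraticForm F V}

/-- complement of a pair of vectors -/
def hperp (Q : QuadraticForm F V) (x y : V) : Submodule F V where
  carrier := {v | polar Q x v = 0 ∧ polar Q y v = 0}
  add_mem' := by
    rintro a b ⟨h1, h2⟩ ⟨h3, h4⟩
    exact ⟨by rw [polar_add_right, h1, h3, add_zero], by rw [polar_add_right, h2, h4, add_zero]⟩
  zero_mem' := ⟨polar_zero_right Q x, polar_zero_right Q y⟩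
  smul_mem' := by
    rintro c a ⟨h1, h2⟩
    exact ⟨by rw [polar_smul_right, h1, smul_zero], by rw [polar_smul_right, h2, smul_zero]⟩

theorem mem_hperp {x y v : V} : v ∈ hperp Q x y ↔ polar Q x v = 0 ∧ polar Q y v = 0 := Iff.rfl

/-- splitting off a hyperbolic plane -/
def hypEquiv {x y : V} (h : Hyp Q x y) : (hperp Q x y × F × F) ≃ₗ[F] V where
  toFun p := (p.1 : V) + p.2.1 • x + p.2.2 • y
  invFun v := (⟨Cfsg.Agent.LieClassical.OrthTrans.proj Q x y v, polar_proj_left h v, polar_proj_right h v⟩,
    polar Q y v, polar Q x v)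
  map_add' p p' := by
    simp only [Prod.fst_add, Prod.snd_add, Submodule.coe_add, add_smul]
    abel
  map_smul' c p := by
    simp only [Prod.smul_fst, Prod.smul_snd, Submodule.coe_smul, smul_eq_mul, RingHom.id_apply,
      smul_add, mul_smul]
  left_inv p := by
    have h1 := p.1.2.1
    have h2 := p.1.2.2
    have e1 : polar Q y ((p.1 : V) + p.2.1 • x + p.2.2 • y) = p.2.1 := by
      rw [polar_add_right, polar_add_right, polar_smul_right, polar_smul_right, h2, h.pair',
        h.polar_right]
      simp
    have e2 : polar Q x ((p.1 : V) + p.2.1 • x + p.2.2 • y) = p.2.2 := by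
      rw [polar_add_right, polar_add_right, polar_smul_right, polar_smul_right, h1, h.pair,
        h.polar_left]
      simp
    refine Prod.ext (Subtype.ext ?_) (Prod.ext e1 e2)
    change Cfsg.Agent.LieClassical.OrthTrans.proj Q x y _ = _
    rw [Cfsg.Agent.LieClassical.OrthTrans.proj]
    change (p.1 : V) + p.2.1 • x + p.2.2 • y - polar Q y ((p.1 : V) + p.2.1 • x + p.2.2 • y) • x
      - polar Q x ((p.1 : V) + p.2.1 • x + p.2.2 • y) • y = _
    rw [e1, e2]
    abel
  right_inv v := by
    change Cfsg.Agent.LieClassical.OrthTrans.proj Q x y v + polar Q y v • x + polar Q x v • y = v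
    rw [Cfsg.Agent.LieClassical.OrthTrans.proj]
    abel

theorem hypEquiv_apply {x y : V} (h : Hyp Q x y) (p : hperp Q x y × F × F) :
    hypEquiv h p = (p.1 : V) + p.2.1 • x + p.2.2 • y := rfl

theorem Q_hypEquiv {x y : V} (h : Hyp Q x y) (p : hperp Q x y × F × F) :
    Q (hypEquiv h p) = Q (p.1 : V) + p.2.1 * p.2.2 := by
  have h1 := p.1.2.1
  have h2 := p.1.2.2
  rw [hypEquiv_apply, Q_add, Q_add, QuadraticMap.map_smul, QuadraticMap.map_smul, h.left, h.right,
    polar_smul_right, polar_smul_right, polar_add_left, polar_smul_left, polar_comm Q _ x,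
    polar_comm Q (p.1 : V) y, h1, h2, h.pair]
  simp only [smul_eq_mul]
  ring

theorem nondeg_hperp {x y : V} (hQ : Nondeg Q) (h : Hyp Q x y) : Nondeg (res Q (hperp Q x y)) := by
  rw [nondeg_res_iff]
  intro v hv hvw
  refine hQ v fun z => ?_
  have hz : z = ((⟨Cfsg.Agent.LieClassical.OrthTrans.proj Q x y z, polar_proj_left h z, polar_proj_right h z⟩ : hperp Q x y) : V)
      + polar Q y z • x + polar Q x z • y := by
    change z = Cfsg.Agent.LieClassical.OrthTrans.proj Q x y z + polar Q y z • x + polar Q x z • y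
    rw [Cfsg.Agent.LieClassical.OrthTrans.proj]; abel
  rw [hz, polar_add_right, polar_add_right, polar_smul_right, polar_smul_right,
    polar_comm Q v x, polar_comm Q v y, hv.1, hv.2,
    hvw _ (Subtype.mem _)]
  simp

theorem finrank_hperp [FiniteDimensional F V] {x y : V} (h : Hyp Q x y) :
    finrank F (hperp Q x y) + 2 = finrank F V := by
  rw [← (hypEquiv h).finrank_eq, Module.finrank_prod, Module.finrank_prod, Module.finrank_self]

/-- a totally singular subspace has at most half the dimension. -/
theorem two_mul_finrank_le [FiniteDimensional F V] (hQ : Nondeg Q) {U : Submodule F V}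
    (hU : ∀ u ∈ U, Q u = 0) : 2 * finrank F U ≤ finrank F V := by
  have h1 : U ≤ perp Q U := by
    intro v hv w hw
    have h2 := Q_add (Q := Q) w v
    rw [hU _ (U.add_mem hw hv), hU _ hw, hU _ hv] at h2
    simpa using h2.symm
  have h2 := Submodule.finrank_mono h1
  have h3 := finrank_add_perp hQ U
  omega

theorem isPlus_of_le [FiniteDimensional F V] (hQ : Nondeg Q) {U : Submodule F V}
    (hU : ∀ u ∈ U, Q u = 0) (h : finrank F V ≤ 2 * finrank F U) : IsPlus Q :=
  ⟨U, hU, le_antisymm (two_mul_finrank_le hQ hU) h⟩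

theorem polar_eq_zero_of_tsing {U : Submodule F V} (hU : ∀ u ∈ U, Q u = 0) {u w : V} (hu : u ∈ U)
    (hw : w ∈ U) : polar Q u w = 0 := by
  have h2 := Q_add (Q := Q) u w
  rw [hU _ (U.add_mem hu hw), hU _ hu, hU _ hw] at h2
  simpa using h2.symm

/-- the complement of a hyperbolic pair starting in a totally singular subspace of half the dimension
has plus type. -/
theorem isPlus_hperp [FiniteDimensional F V] (hQ : Nondeg Q) {x y : V} (h : Hyp Q x y)
    {U : Submodule F V} (hU : ∀ u ∈ U, Q u = 0) (hd : 2 * finrank F U = finrank F V)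
    (hx : x ∈ U) : IsPlus (res Q (hperp Q x y)) := by
  let W := hperp Q x y
  let U' : Submodule F W := U.comap W.subtype
  refine isPlus_of_le (nondeg_hperp hQ h) (U := U') (fun u hu => hU _ hu) ?_
  -- the functional `polar y` on `U`
  let φ : U →ₗ[F] F := (polarBilin Q y).domRestrict U
  have h1 := LinearMap.finrank_range_add_finrank_ker φ
  have h2 : finrank F (LinearMap.range φ) ≤ 1 := by
    refine le_trans (Submodule.finrank_le _) ?_
    rw [Module.finrank_self]
  have h3 : finrank F (LinearMap.ker φ) ≤ finrank F U' := by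
    let ψ : LinearMap.ker φ →ₗ[F] U' :=
      { toFun := fun u => ⟨⟨(u.1 : V), polar_eq_zero_of_tsing hU hx u.1.2, u.2⟩, u.1.2⟩
        map_add' := fun _ _ => rfl
        map_smul' := fun _ _ => rfl }
    refine LinearMap.finrank_le_finrank_of_injective (f := ψ) ?_
    intro a b hab
    apply Subtype.ext
    apply Subtype.ext
    exact congrArg (fun z : U' => ((z : W) : V)) hab
  have h4 : finrank F W + 2 = finrank F V := finrank_hperp h
  change finrank F W ≤ 2 * finrank F U'
  omega

theorem exists_ne_zero_of_finrank_pos {U : Submodule F V} (h : 0 < finrank F U) :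
    ∃ x ∈ U, x ≠ 0 := by
  by_contra hcon
  push Not at hcon
  have : U = ⊥ := (Submodule.eq_bot_iff _).2 hcon
  rw [this, finrank_bot] at h
  exact lt_irrefl _ h

end Split

section Classify

variable {F : Type u} [Field F]

/-- A plus type space is isometric to the standard hyperbolic space. -/
theorem exists_plus_equiv (m : ℕ) : ∀ {V : Type v} [AddCommGroup V] [Module F V]
    [FiniteDimensional F V] (Q : QuadraticForm F V), Nondeg Q → finrank F V = 2 * m → IsPlus Q →
    ∃ e : V ≃ₗ[F] (Fin m ⊕ Fin m → F), ∀ v, plusForm m F (e v) = Q v := by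
  induction m with
  | zero =>
    intro V _ _ _ Q _ hd _
    have hs : Subsingleton V := by
      rw [← Module.finrank_zero_iff (R := F)]; omega
    have hs' : Subsingleton (Fin 0 ⊕ Fin 0 → F) := by infer_instance
    refine ⟨⟨0, 0, fun v => Subsingleton.elim _ _, fun v => Subsingleton.elim _ _⟩, fun v => ?_⟩
    rw [Subsingleton.elim v 0, map_zero, map_zero, map_zero]
  | succ m ih =>
    intro V _ _ _ Q hQ hd hP
    obtain ⟨U, hU, hUd⟩ := hP
    obtain ⟨x, hx, hx0⟩ := exists_ne_zero_of_finrank_pos (U := U) (by omega)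
    obtain ⟨y, h⟩ := Cfsg.Agent.LieClassical.OrthTrans.exists_hyp hQ (hU x hx) hx0
    have h4 := finrank_hperp h
    obtain ⟨e, he⟩ := ih (res Q (hperp Q x y)) (nondeg_hperp hQ h) (by omega)
      (isPlus_hperp hQ h hU hUd hx)
    refine ⟨(hypEquiv h).symm.trans ((LinearEquiv.prodCongr e (LinearEquiv.refl F (F × F))).trans
      (plusStep m F)), fun v => ?_⟩
    obtain ⟨p, rfl⟩ := (hypEquiv h).surjective v
    rw [Q_hypEquiv, LinearEquiv.trans_apply, LinearEquiv.trans_apply,
      LinearEquiv.symm_apply_apply]
    change plusForm (m + 1) F (plusStep m F (e p.1, p.2.1, p.2.2)) = _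
    rw [plusForm_plusStep, he]
    rfl

theorem finrank_plus (m : ℕ) : finrank F (Fin m ⊕ Fin m → F) = 2 * m := by
  rw [Module.finrank_fintype_fun_eq_card, Fintype.card_sum, Fintype.card_fin, two_mul]

theorem nondeg_plus (m : ℕ) : Nondeg (plusForm m F) := polar_plusForm_nondeg m

theorem isPlus_plus (m : ℕ) : IsPlus (plusForm m F) := by
  let U : Submodule F (Fin m ⊕ Fin m → F) :=
    LinearMap.ker (LinearMap.funLeft F F (Sum.inr : Fin m → Fin m ⊕ Fin m))
  refine isPlus_of_le (nondeg_plus m) (U := U) ?_ ?_
  · intro u hu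
    rw [plusForm_apply]
    refine Finset.sum_eq_zero fun i _ => ?_
    have : u (.inr i) = 0 := congrFun (LinearMap.mem_ker.1 hu) i
    rw [this, mul_zero]
  · have h1 := LinearMap.finrank_range_add_finrank_ker
      (LinearMap.funLeft F F (Sum.inr : Fin m → Fin m ⊕ Fin m))
    have h2 : finrank F (LinearMap.range (LinearMap.funLeft F F (Sum.inr : Fin m → Fin m ⊕ Fin m)))
        ≤ m := by
      refine le_trans (Submodule.finrank_le _) ?_
      rw [Module.finrank_fintype_fun_eq_card, Fintype.card_fin]
    rw [finrank_plus] at h1 ⊢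
    change 2 * m ≤ 2 * finrank F (LinearMap.ker
      (LinearMap.funLeft F F (Sum.inr : Fin m → Fin m ⊕ Fin m)))
    omega

/-- singular vectors exist in dimension at least three. -/
theorem exists_singular [Finite F] {V : Type v} [AddCommGroup V] [Module F V]
    (Q : QuadraticForm F V) (h : 3 ≤ finrank F V) : ∃ x : V, x ≠ 0 ∧ Q x = 0 := by
  obtain ⟨w, hw0, hw, -⟩ :=
    Cfsg.Agent.LieClassical.OrthFinite.exists_sing_perp (Q := Q) (n := 0) ![] (by omega)
  exact ⟨w, hw0, hw⟩

end Classify

end Cfsg.Agent.H955
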