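import Mathlib
import Cfsg.Agent.H955.QType

/-!
# Classification of minus type spaces, isometry of spaces of the same type, subspaces of given type
-/

set_option autoImplicit false

namespace Cfsg.Agent.H955

open Module QuadraticMap Cfsg.Agent.LieClassical.OrthCore Cfsg.Agent.LieClassical.OrthTrans
open Cfsg.Agent.LieClassical.QuadForms

universe u v w

section

variable {F : Type u} [Field F]

/-- an anisotropic form on a plane over a finite field is nondegenerate. -/
theorem nondeg_of_aniso [Finite F] {V : Type*} [AddCommGroup V] [Module F V]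
    {Q : QuadraticForm F V} (hd : finrank F V = 2) (ha : ∀ v, Q v = 0 → v = 0) : Nondeg Q := by
  intro u hu
  by_contra hu0
  have hQu : Q u ≠ 0 := fun h => hu0 (ha u h)
  have h2 : (2 : F) = 0 := by
    have := hu u
    rw [Cfsg.Agent.LieClassical.OrthCore.polar_self'] at this
    exact (mul_eq_zero.1 this).resolve_right hQu
  have hchar : CharP F 2 := CharTwo.of_one_ne_zero_of_two_eq_zero one_ne_zero h2
  have : FiniteDimensional F V := Module.finite_of_finrank_pos (by omega)
  obtain ⟨w, hw⟩ : ∃ w, w ∉ F ∙ u := by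
    by_contra hcon
    push Not at hcon
    have h1 : (F ∙ u) = ⊤ := by
      rw [Submodule.eq_top_iff']; exact hcon
    have h3 : finrank F (F ∙ u) = 1 := finrank_span_singleton hu0
    rw [h1, finrank_top, hd] at h3
    omega
  obtain ⟨s, hs⟩ := FiniteField.isSquare_of_char_two (F := F) (ringChar.eq F 2) (Q w / Q u)
  have h0 : Q (s • u + w) = 0 := by
    rw [Q_add, QuadraticMap.map_smul, polar_smul_left, hu w]
    have h3 : (s * s) * Q u = Q w := by
      rw [← hs]; field_simp
    simp only [smul_eq_mul, h3, mul_zero, add_zero]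
    rw [CharTwo.add_self_eq_zero]
  have h1 := ha _ h0
  apply hw
  rw [Submodule.mem_span_singleton]
  exact ⟨-s, by rw [neg_smul]; exact (eq_neg_of_add_eq_zero_right h1).symm⟩

/-- anisotropic binary forms exist over every finite field. -/
theorem exists_aniso_coeff (F : Type u) [Field F] [Finite F] :
    ∃ a b : F, ∀ z₁ z₂ : F, z₁ ^ 2 + a * z₁ * z₂ + b * z₂ ^ 2 = 0 → z₁ = 0 ∧ z₂ = 0 := by
  by_cases h2 : (2 : F) = 0
  · have hchar : CharP F 2 := CharTwo.of_one_ne_zero_of_two_eq_zero one_ne_zero h2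
    -- `x ↦ x ^ 2 + x` is not surjective
    obtain ⟨b, hb⟩ : ∃ b : F, ∀ x : F, x ^ 2 + x ≠ b := by
      by_contra hcon
      push Not at hcon
      have hs : Function.Surjective (fun x : F => x ^ 2 + x) := hcon
      have hi := Finite.injective_iff_surjective.2 hs
      have : (0 : F) = 1 := hi (by simp [CharTwo.add_self_eq_zero])
      exact zero_ne_one this
    refine ⟨1, b, fun z₁ z₂ h => ?_⟩
    by_cases hz : z₂ = 0
    · subst hz
      refine ⟨?_, rfl⟩
      have : z₁ ^ 2 = 0 := by rw [← h]; ring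
      exact pow_eq_zero_iff (two_ne_zero) |>.1 this
    · exfalso
      apply hb (z₁ / z₂)
      have h3 : (z₁ / z₂) ^ 2 + z₁ / z₂ + b = 0 := by
        have h5 : ((z₁ / z₂) ^ 2 + z₁ / z₂ + b) * z₂ ^ 2 = 0 := by
          rw [← h]; field_simp
        exact (mul_eq_zero.1 h5).resolve_right (pow_ne_zero 2 hz)
      have h4 := eq_neg_of_add_eq_zero_left h3
      rwa [CharTwo.neg_eq] at h4
  · have hrc : ringChar F ≠ 2 := Cfsg.Agent.ClassicalGeometry.Universal.ringChar_ne_two h2
    have := Fintype.ofFinite F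
    obtain ⟨α, hα⟩ := FiniteField.exists_nonsquare hrc
    refine ⟨0, -α, fun z₁ z₂ h => ?_⟩
    by_cases hz : z₂ = 0
    · subst hz
      refine ⟨?_, rfl⟩
      have : z₁ ^ 2 = 0 := by rw [← h]; ring
      exact pow_eq_zero_iff (two_ne_zero) |>.1 this
    · exfalso
      apply hα
      refine ⟨z₁ / z₂, ?_⟩
      field_simp
      linear_combination -h

theorem finrank_minus (m : ℕ) : finrank F ((Fin m ⊕ Fin m) ⊕ Fin 2 → F) = 2 * (m + 1) := by
  rw [Module.finrank_fintype_fun_eq_card, Fintype.card_sum, Fintype.card_sum, Fintype.card_fin,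
    Fintype.card_fin]
  ring

theorem binForm_aniso {a b : F}
    (hab : ∀ z₁ z₂ : F, z₁ ^ 2 + a * z₁ * z₂ + b * z₂ ^ 2 = 0 → z₁ = 0 ∧ z₂ = 0)
    (v : Fin 2 → F) (hv : binForm F a b v = 0) : v = 0 := by
  rw [binForm_apply] at hv
  obtain ⟨h0, h1⟩ := hab _ _ hv
  funext i
  fin_cases i
  · exact h0
  · exact h1

theorem nondeg_binForm [Finite F] {a b : F}
    (hab : ∀ z₁ z₂ : F, z₁ ^ 2 + a * z₁ * z₂ + b * z₂ ^ 2 = 0 → z₁ = 0 ∧ z₂ = 0) :
    Nondeg (binForm F a b) :=
  nondeg_of_aniso (by simp) (binForm_aniso hab)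

/-- the minus type form as an orthogonal sum -/
theorem minus_equiv_osum (m : ℕ) (a b : F) :
    ∃ e : ((Fin m ⊕ Fin m → F) × (Fin 2 → F)) ≃ₗ[F] ((Fin m ⊕ Fin m) ⊕ Fin 2 → F),
      ∀ v, minusForm m F a b (e v) = osum (plusForm m F) (binForm F a b) v :=
  ⟨(LinearEquiv.sumArrowLequivProdArrow (Fin m ⊕ Fin m) (Fin 2) F F).symm, fun _ => rfl⟩

theorem nondeg_minus [Finite F] (m : ℕ) {a b : F}
    (hab : ∀ z₁ z₂ : F, z₁ ^ 2 + a * z₁ * z₂ + b * z₂ ^ 2 = 0 → z₁ = 0 ∧ z₂ = 0) :
    Nondeg (minusForm m F a b) := by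
  obtain ⟨e, he⟩ := minus_equiv_osum m a b
  exact nondeg_of_equiv e he (nondeg_osum (nondeg_plus m) (nondeg_binForm hab))

theorem not_isPlus_minus [Finite F] (m : ℕ) {a b : F}
    (hab : ∀ z₁ z₂ : F, z₁ ^ 2 + a * z₁ * z₂ + b * z₂ ^ 2 = 0 → z₁ = 0 ∧ z₂ = 0) :
    ¬ IsPlus (minusForm m F a b) := by
  obtain ⟨e, he⟩ := minus_equiv_osum m a b
  rw [← isPlus_iff_of_equiv e he, isPlus_osum_iff (nondeg_plus m) (nondeg_binForm hab)
    (by rw [finrank_plus]; exact even_two_mul m) (by simp)]
  have h1 : IsPlus (plusForm m F) := isPlus_plus m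
  have h2 : ¬ IsPlus (binForm F a b) := not_isPlus_of_aniso (binForm_aniso hab) (by simp)
  simp [h1, h2]

/-- **classification of minus type spaces.** -/
theorem exists_minus_equiv [Finite F] {a b : F}
    (hab : ∀ z₁ z₂ : F, z₁ ^ 2 + a * z₁ * z₂ + b * z₂ ^ 2 = 0 → z₁ = 0 ∧ z₂ = 0) (m : ℕ) :
    ∀ {V : Type v} [AddCommGroup V] [Module F V]
    [FiniteDimensional F V] (Q : QuadraticForm F V), Nondeg Q → finrank F V = 2 * (m + 1) →
    ¬ IsPlus Q → ∃ e : V ≃ₗ[F] ((Fin m ⊕ Fin m) ⊕ Fin 2 → F), ∀ v, minusForm m F a b (e v) = Q v := by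
  induction m with
  | zero =>
    intro V _ _ _ Q hQ hd hP
    refine aniso_plane_equiv Q (minusForm 0 F a b) hQ (nondeg_minus 0 hab) hd (finrank_minus 0)
      (fun v hv => ?_) (fun v hv => ?_)
    · by_contra hv0
      apply hP
      refine ⟨F ∙ v, fun u hu => ?_, ?_⟩
      · obtain ⟨c, rfl⟩ := Submodule.mem_span_singleton.1 hu
        rw [QuadraticMap.map_smul, hv, smul_zero]
      · rw [finrank_span_singleton hv0, hd]
    · obtain ⟨e, he⟩ := minus_equiv_osum 0 a b
      obtain ⟨⟨x, y⟩, rfl⟩ := e.surjective v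
      rw [he, osum_apply] at hv
      have hx : x = 0 := by
        funext i
        rcases i with i | i <;> exact i.elim0
      rw [hx, map_zero, zero_add] at hv
      have hy : y = 0 := binForm_aniso hab y hv
      rw [hx, hy]
      exact map_zero e
  | succ m ih =>
    intro V _ _ _ Q hQ hd hP
    obtain ⟨x, hx0, hx⟩ := exists_singular Q (by omega)
    obtain ⟨y, h⟩ := Cfsg.Agent.LieClassical.OrthTrans.exists_hyp hQ hx hx0
    have h4 := finrank_hperp h
    obtain ⟨e, he⟩ := ih (res Q (hperp Q x y)) (nondeg_hperp hQ h) (by omega)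
      (fun hc => hP ((isPlus_hperp_iff hQ h).1 hc))
    refine ⟨(hypEquiv h).symm.trans ((LinearEquiv.prodCongr e (LinearEquiv.refl F (F × F))).trans
      (minusStep m F)), fun v => ?_⟩
    obtain ⟨p, rfl⟩ := (hypEquiv h).surjective v
    rw [Q_hypEquiv, LinearEquiv.trans_apply, LinearEquiv.trans_apply,
      LinearEquiv.symm_apply_apply]
    change minusForm (m + 1) F a b (minusStep m F (e p.1, p.2.1, p.2.2)) = _
    rw [minusForm_minusStep, he]
    rfl

/-- **even-dimensional nondegenerate quadratic spaces over a finite field with the same dimension and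
type are isometric.** -/
theorem exists_equiv_of_isPlus_iff [Finite F] {V : Type v} [AddCommGroup V] [Module F V]
    [FiniteDimensional F V] {V' : Type w} [AddCommGroup V'] [Module F V'] [FiniteDimensional F V']
    {Q : QuadraticForm F V} {Q' : QuadraticForm F V'} (hQ : Nondeg Q) (hQ' : Nondeg Q')
    (hd : Even (finrank F V)) (hdd : finrank F V = finrank F V') (h : IsPlus Q ↔ IsPlus Q') :
    ∃ e : V ≃ₗ[F] V', ∀ v, Q' (e v) = Q v := by
  obtain ⟨m, hm⟩ := hd
  by_cases hP : IsPlus Q
  · obtain ⟨e, he⟩ := exists_plus_equiv m Q hQ (by omega) hP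
    obtain ⟨e', he'⟩ := exists_plus_equiv m Q' hQ' (by omega) (h.1 hP)
    exact ⟨e.trans e'.symm, fun v => by
      rw [← he', LinearEquiv.trans_apply, LinearEquiv.apply_symm_apply, he]⟩
  · obtain ⟨a, b, hab⟩ := exists_aniso_coeff F
    have hm0 : m ≠ 0 := by
      rintro rfl
      exact hP (isPlus_of_finrank_zero (by omega))
    obtain ⟨k, rfl⟩ := Nat.exists_eq_succ_of_ne_zero hm0
    obtain ⟨e, he⟩ := exists_minus_equiv hab k Q hQ (by omega) hP
    obtain ⟨e', he'⟩ := exists_minus_equiv hab k Q' hQ' (by omega) (fun hc => hP (h.2 hc))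
    exact ⟨e.trans e'.symm, fun v => by
      rw [← he', LinearEquiv.trans_apply, LinearEquiv.apply_symm_apply, he]⟩

/-- a standard space of each dimension and type -/
theorem exists_model [Finite F] (m : ℕ) (hm : 0 < m) (δ : Prop) : ∃ (V : Type u) (_ : AddCommGroup V)
    (_ : Module F V) (_ : FiniteDimensional F V) (Q : QuadraticForm F V), Nondeg Q ∧
      finrank F V = 2 * m ∧ (IsPlus Q ↔ δ) := by
  by_cases hδ : δ
  · exact ⟨Fin m ⊕ Fin m → F, inferInstance, inferInstance, inferInstance, plusForm m F,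
      nondeg_plus m, finrank_plus m, iff_of_true (isPlus_plus m) hδ⟩
  · obtain ⟨a, b, hab⟩ := exists_aniso_coeff F
    obtain ⟨k, rfl⟩ := Nat.exists_eq_succ_of_ne_zero hm.ne'
    exact ⟨(Fin k ⊕ Fin k) ⊕ Fin 2 → F, inferInstance, inferInstance, inferInstance,
      minusForm k F a b, nondeg_minus k hab, finrank_minus k,
      iff_of_false (not_isPlus_minus k hab) hδ⟩

/-- **embedding**: an even-dimensional nondegenerate space of smaller dimension embeds isometrically. -/
theorem exists_embedding [Finite F] {V : Type v} [AddCommGroup V] [Module F V]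
    [FiniteDimensional F V] {X : Type w} [AddCommGroup X] [Module F X] [FiniteDimensional F X]
    {Q : QuadraticForm F V} {R : QuadraticForm F X} (hQ : Nondeg Q) (hR : Nondeg R)
    (hd : Even (finrank F V)) (hd' : Even (finrank F X)) (hlt : finrank F X < finrank F V) :
    ∃ f : X →ₗ[F] V, Function.Injective f ∧ ∀ x, Q (f x) = R x := by
  obtain ⟨m, hm⟩ := hd
  obtain ⟨k, hk⟩ := hd'
  obtain ⟨Y, _, _, _, S, hS, hSd, hSp⟩ := exists_model (F := F) (m - k) (by omega)
    (IsPlus R ↔ IsPlus Q)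
  obtain ⟨e, he⟩ := exists_equiv_of_isPlus_iff (Q := osum R S) (Q' := Q) (nondeg_osum hR hS) hQ
    (by rw [Module.finrank_prod]; exact (Nat.even_add.2 (by
      constructor
      · intro _; exact ⟨m - k, by omega⟩
      · intro _; exact ⟨k, hk⟩)))
    (by rw [Module.finrank_prod]; omega)
    (by
      rw [isPlus_osum_iff hR hS ⟨k, hk⟩ ⟨m - k, by omega⟩, hSp]
      tauto)
  refine ⟨e.toLinearMap ∘ₗ LinearMap.inl F X Y, ?_, fun x => ?_⟩
  · intro a b hab
    exact congrArg Prod.fst (e.injective hab)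
  · change Q (e (x, 0)) = _
    rw [he, osum_apply, map_zero, add_zero]

/-- isometric embedding gives a nondegenerate subspace. -/
theorem range_props {V : Type v} [AddCommGroup V] [Module F V]
    {X : Type w} [AddCommGroup X] [Module F X]
    {Q : QuadraticForm F V} {R : QuadraticForm F X} (hR : Nondeg R) {f : X →ₗ[F] V}
    (hf : Function.Injective f) (hfQ : ∀ x, Q (f x) = R x) :
    Nondeg (res Q (LinearMap.range f)) ∧ finrank F (LinearMap.range f) = finrank F X ∧
      (IsPlus (res Q (LinearMap.range f)) ↔ IsPlus R) := by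
  let e := LinearEquiv.ofInjective f hf
  have he : ∀ x, res Q (LinearMap.range f) (e x) = R x := fun x => hfQ x
  exact ⟨nondeg_of_equiv e he hR, e.finrank_eq.symm, (isPlus_iff_of_equiv e he).symm⟩

/-- **subspaces of given dimension and type.** -/
theorem exists_subspace [Finite F] {V : Type v} [AddCommGroup V] [Module F V]
    [FiniteDimensional F V] {Q : QuadraticForm F V} (hQ : Nondeg Q)
    (hd : Even (finrank F V)) (k : ℕ) (hk0 : 0 < k) (hlt : 2 * k < finrank F V) (δ : Prop) :
    ∃ W : Submodule F V, Nondeg (res Q W) ∧ finrank F W = 2 * k ∧ (IsPlus (res Q W) ↔ δ) := by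
  obtain ⟨X, _, _, _, R, hR, hRd, hRp⟩ := exists_model (F := F) k hk0 δ
  obtain ⟨f, hf, hfQ⟩ := exists_embedding (R := R) hQ hR hd ⟨k, by omega⟩ (by omega)
  obtain ⟨h1, h2, h3⟩ := range_props (Q := Q) hR hf hfQ
  exact ⟨LinearMap.range f, h1, by omega, h3.trans hRp⟩

end

end Cfsg.Agent.H955
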