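import Mathlib
import Cfsg.Agent.ClassicalGeometry.SympBasic
import Cfsg.Agent.LieClassical.OrthFinite
import Cfsg.Agent.S0245
import Cfsg.Agent.H955.QElt

/-!
# Symplectic spaces: isometries of a nondegenerate alternating bilinear form

* `IsoB B`, `IsSp B`; classification by the dimension (`exists_sp_equiv`), gluing (`glueB`),
  Witt's theorem for nondegenerate subspaces (`exists_iso_map_eq`), the order of `IsoB B`, elements
  of odd prime order `r` with commutator space of dimension `c`.
* bridge to `Cfsg.spGL`.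
-/

set_option autoImplicit false

namespace Cfsg.Agent.H955

open Module

universe u v w

section Basic

variable {F : Type u} [Field F] {V : Type v} [AddCommGroup V] [Module F V]

/-- isometries of a bilinear form -/
def IsoB (B : LinearMap.BilinForm F V) : Subgroup (V ≃ₗ[F] V) where
  carrier := {g | ∀ u v, B (g u) (g v) = B u v}
  mul_mem' {a b} ha hb := fun u v => by
    rw [LinearEquiv.mul_apply, LinearEquiv.mul_apply, ha, hb]
  one_mem' := fun _ _ => rfl
  inv_mem' {a} ha := fun u v => by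
    have h := ha (a⁻¹ u) (a⁻¹ v)
    have h2 : ∀ w, a (a⁻¹ w) = w := fun w => LinearEquiv.apply_symm_apply a w
    rw [h2, h2] at h
    exact h.symm

theorem mem_IsoB {B : LinearMap.BilinForm F V} {g : V ≃ₗ[F] V} :
    g ∈ IsoB B ↔ ∀ u v, B (g u) (g v) = B u v := Iff.rfl

/-- `B` is a nondegenerate alternating form -/
structure IsSp (B : LinearMap.BilinForm F V) : Prop where
  alt : ∀ v, B v v = 0
  nd : ∀ x, (∀ y, B x y = 0) → x = 0

theorem IsSp.swap {B : LinearMap.BilinForm F V} (h : IsSp B) (u v : V) : B u v = - B v u := by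
  have h1 := h.alt (u + v)
  rw [map_add, map_add, LinearMap.add_apply, LinearMap.add_apply, h.alt, h.alt] at h1
  linear_combination h1

theorem IsSp.eps {B : LinearMap.BilinForm F V} (h : IsSp B) : EpsSymm B (-1) := fun u v => by
  rw [h.swap]; ring

theorem IsSp.ndTop {B : LinearMap.BilinForm F V} (h : IsSp B) : NdOn B ⊤ := fun x _ hx =>
  h.nd x fun y => hx y trivial

/-- restriction of a bilinear form -/
abbrev resB (B : LinearMap.BilinForm F V) (W : Submodule F V) : LinearMap.BilinForm F W :=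
  B.restrict W

theorem resB_apply (B : LinearMap.BilinForm F V) (W : Submodule F V) (u v : W) :
    resB B W u v = B (u : V) (v : V) := rfl

theorem IsSp.res {B : LinearMap.BilinForm F V} (h : IsSp B) {W : Submodule F V} (hW : NdOn B W) :
    IsSp (resB B W) :=
  ⟨fun v => h.alt v, fun x hx => Subtype.ext (hW x x.2 fun y hy => hx ⟨y, hy⟩)⟩

theorem NdOn.res_iff {B : LinearMap.BilinForm F V} {W : Submodule F V} {U : Submodule F W} :
    NdOn (resB B W) U ↔ NdOn B (U.map W.subtype) := by
  constructor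
  · rintro h _ ⟨x, hx, rfl⟩ hxy
    have := h x hx fun y hy => hxy y ⟨y, hy, rfl⟩
    rw [this, map_zero]
  · intro h x hx hxy
    have := h x ⟨x, hx, rfl⟩ (by
      rintro _ ⟨y, hy, rfl⟩
      exact hxy y hy)
    exact Subtype.ext this

variable [FiniteDimensional F V]

theorem IsSp.even {B : LinearMap.BilinForm F V} (h : IsSp B) : Even (finrank F V) := by
  have := even_of_alt (B := B) (fun v => h.alt v) h.ndTop
  rwa [finrank_top] at this

theorem IsSp.even_of_ndOn {B : LinearMap.BilinForm F V} (h : IsSp B) {W : Submodule F V}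
    (hW : NdOn B W) : Even (finrank F W) := even_of_alt (B := B) (fun v => h.alt v) hW

theorem IsSp.ndOn_orth {B : LinearMap.BilinForm F V} (h : IsSp B) {W : Submodule F V}
    (hW : NdOn B W) : NdOn B (orth B W) := by
  have := NdOn.inf_orth h.eps h.ndTop hW le_top
  rwa [top_inf_eq] at this

theorem IsSp.finrank_orth {B : LinearMap.BilinForm F V} (h : IsSp B) {W : Submodule F V}
    (hW : NdOn B W) : finrank F W + finrank F (orth B W) = finrank F V := by
  have := NdOn.finrank_inf_orth h.eps hW (le_top (a := W))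
  rwa [top_inf_eq, finrank_top] at this

/-- **classification**: a symplectic space is determined by its dimension. -/
theorem exists_sp_model {B : LinearMap.BilinForm F V} (h : IsSp B) {m : ℕ}
    (hd : finrank F V = 2 * m) : ∃ e : V ≃ₗ[F] (Fin m ⊕ Fin m → F), ∀ u v,
      Cfsg.sympForm m F (e u) (e v) = B u v := by
  obtain ⟨m', k, b, h1, h2, h3, h4⟩ := Cfsg.Agent.S0752.result B (fun x => h.alt x)
  have hk : k = 0 := by
    by_contra hk
    exact b.ne_zero _ (h.nd _ (h4 ⟨0, Nat.pos_of_ne_zero hk⟩))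
  subst hk
  have hm : m' = m := by
    have := finrank_eq_card_basis b
    simp only [Fintype.card_sum, Fintype.card_fin, add_zero] at this
    omega
  subst hm
  let b' : Basis (Fin m' ⊕ Fin m') F V := (b.reindex (Equiv.sumEmpty _ _)).reindex
    (Equiv.sumComm _ _)
  have hb1 : ∀ i, b' (.inl i) = b (.inl (.inr i)) := fun i => by simp [b']
  have hb2 : ∀ i, b' (.inr i) = b (.inl (.inl i)) := fun i => by simp [b']
  refine ⟨b'.equivFun, ?_⟩
  have key : (LinearMap.compl₁₂ (ClassicalGeometry.SympBasic.sympBilin m' F)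
      (b'.equivFun : V →ₗ[F] _) (b'.equivFun : V →ₗ[F] _)) = B := by
    have hs : ∀ k, b'.equivFun (b' k) = Pi.single k 1 := fun k => by
      ext l
      rw [Basis.equivFun_self, Pi.single_apply]
      by_cases hkl : k = l
      · rw [if_pos hkl, if_pos hkl.symm]
      · rw [if_neg hkl, if_neg (Ne.symm hkl)]
    apply LinearMap.BilinForm.ext_basis b'
    intro i j
    rw [LinearMap.compl₁₂_apply]
    change Cfsg.sympForm m' F (b'.equivFun (b' i)) (b'.equivFun (b' j)) = B (b' i) (b' j)
    rw [hs, hs]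
    rcases i with i | i <;> rcases j with j | j
    · rw [ClassicalGeometry.SympBasic.sympForm_single_inl_left, hb1, hb1, h3]
      simp
    · rw [ClassicalGeometry.SympBasic.sympForm_single_inl_left, hb1, hb2, h.swap, h1]
      simp only [Pi.single_apply, Sum.inr.injEq]
      by_cases hij : i = j
      · rw [if_pos hij, if_pos hij.symm]
      · rw [if_neg hij, if_neg (Ne.symm hij)]
    · rw [ClassicalGeometry.SympBasic.sympForm_single_inr_left, hb1, hb2, h1]
      simp only [Pi.single_apply, Sum.inl.injEq]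
    · rw [ClassicalGeometry.SympBasic.sympForm_single_inr_left, hb2, hb2, h2]
      simp
  intro u v
  rw [← key]
  rfl

theorem exists_sp_equiv {V' : Type w} [AddCommGroup V'] [Module F V'] [FiniteDimensional F V']
    {B : LinearMap.BilinForm F V} {B' : LinearMap.BilinForm F V'} (h : IsSp B) (h' : IsSp B')
    (hd : finrank F V = finrank F V') :
    ∃ e : V ≃ₗ[F] V', ∀ u v, B' (e u) (e v) = B u v := by
  obtain ⟨m, hm⟩ := h.even
  obtain ⟨e, he⟩ := exists_sp_model h (m := m) (by omega)
  obtain ⟨e', he'⟩ := exists_sp_model h' (m := m) (by omega)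
  refine ⟨e.trans e'.symm, fun u v => ?_⟩
  rw [← he', ← he]
  simp

end Basic

section Glue

variable {F : Type u} [Field F] {V : Type v} [AddCommGroup V] [Module F V]
  {V' : Type w} [AddCommGroup V'] [Module F V']

/-- gluing two linear equivalences along decompositions -/
noncomputable def glueE {W U : Submodule F V} {W' U' : Submodule F V'} (h : IsCompl W U)
    (h' : IsCompl W' U') (e₁ : W ≃ₗ[F] W') (e₂ : U ≃ₗ[F] U') : V ≃ₗ[F] V' :=
  ((Submodule.prodEquivOfIsCompl W U h).symm.trans (LinearEquiv.prodCongr e₁ e₂)).trans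
    (Submodule.prodEquivOfIsCompl W' U' h')

variable {W U : Submodule F V} {W' U' : Submodule F V'} (h : IsCompl W U)
    (h' : IsCompl W' U') (e₁ : W ≃ₗ[F] W') (e₂ : U ≃ₗ[F] U')

theorem glueE_apply (a : W) (b : U) :
    glueE h h' e₁ e₂ ((a : V) + (b : V)) = (e₁ a : V') + (e₂ b : V') := by
  have h1 : ((a : V) + (b : V)) = Submodule.prodEquivOfIsCompl W U h (a, b) := rfl
  rw [h1]
  change Submodule.prodEquivOfIsCompl W' U' h' (LinearEquiv.prodCongr e₁ e₂
    ((Submodule.prodEquivOfIsCompl W U h).symm (Submodule.prodEquivOfIsCompl W U h (a, b)))) = _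
  rw [LinearEquiv.symm_apply_apply]
  rfl

theorem glueE_left (a : W) : glueE h h' e₁ e₂ (a : V) = (e₁ a : V') := by
  have := glueE_apply h h' e₁ e₂ a 0
  simpa using this

theorem glueE_right (b : U) : glueE h h' e₁ e₂ (b : V) = (e₂ b : V') := by
  have := glueE_apply h h' e₁ e₂ 0 b
  simpa using this

include h in
theorem exists_add_compl (v : V) : ∃ (a : W) (b : U), (a : V) + (b : V) = v :=
  ⟨((Submodule.prodEquivOfIsCompl W U h).symm v).1, ((Submodule.prodEquivOfIsCompl W U h).symm v).2,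
    (Submodule.prodEquivOfIsCompl W U h).apply_symm_apply v⟩

theorem glueE_map_left : W.map (glueE h h' e₁ e₂ : V →ₗ[F] V') = W' := by
  apply le_antisymm
  · rintro _ ⟨a, ha, rfl⟩
    change glueE h h' e₁ e₂ a ∈ W'
    have := glueE_left h h' e₁ e₂ ⟨a, ha⟩
    change glueE h h' e₁ e₂ a = _ at this
    rw [this]
    exact Subtype.mem _
  · intro a ha
    refine ⟨(e₁.symm ⟨a, ha⟩ : V), Subtype.mem _, ?_⟩
    change glueE h h' e₁ e₂ (e₁.symm ⟨a, ha⟩ : V) = a
    rw [glueE_left, LinearEquiv.apply_symm_apply]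

theorem glueE_form {B : LinearMap.BilinForm F V} {B' : LinearMap.BilinForm F V'}
    (h1 : ∀ u v : W, B' (e₁ u : V') (e₁ v : V') = B (u : V) (v : V))
    (h2 : ∀ u v : U, B' (e₂ u : V') (e₂ v : V') = B (u : V) (v : V))
    (hWU : ∀ u ∈ W, ∀ v ∈ U, B u v = 0) (hUW : ∀ u ∈ U, ∀ v ∈ W, B u v = 0)
    (hWU' : ∀ u ∈ W', ∀ v ∈ U', B' u v = 0) (hUW' : ∀ u ∈ U', ∀ v ∈ W', B' u v = 0) (u v : V) :
    B' (glueE h h' e₁ e₂ u) (glueE h h' e₁ e₂ v) = B u v := by
  obtain ⟨a, b, rfl⟩ := exists_add_compl h u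
  obtain ⟨c, d, rfl⟩ := exists_add_compl h v
  rw [glueE_apply, glueE_apply]
  simp only [map_add, LinearMap.add_apply]
  rw [h1, h2, hWU a a.2 d d.2, hUW b b.2 c c.2, hWU' _ (e₁ a).2 _ (e₂ d).2,
    hUW' _ (e₂ b).2 _ (e₁ c).2]

end Glue

section Witt

variable {F : Type u} [Field F] {V : Type v} [AddCommGroup V] [Module F V]
  [FiniteDimensional F V] {B : LinearMap.BilinForm F V}

/-- gluing isometries along orthogonal decompositions -/
theorem exists_glue {V' : Type w} [AddCommGroup V'] [Module F V'] [FiniteDimensional F V']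
    {B' : LinearMap.BilinForm F V'} (hB : IsSp B) (hB' : IsSp B') {W : Submodule F V}
    {W' : Submodule F V'} (hW : NdOn B W) (hW' : NdOn B' W') (e₁ : W ≃ₗ[F] W')
    (h1 : ∀ u v, B' (e₁ u : V') (e₁ v : V') = B (u : V) (v : V))
    (e₂ : orth B W ≃ₗ[F] orth B' W')
    (h2 : ∀ u v, B' (e₂ u : V') (e₂ v : V') = B (u : V) (v : V)) :
    ∃ e : V ≃ₗ[F] V', (∀ u v, B' (e u) (e v) = B u v) ∧ (∀ w : W, e (w : V) = (e₁ w : V')) ∧
      (∀ w : orth B W, e (w : V) = (e₂ w : V')) ∧ W.map (e : V →ₗ[F] V') = W' :=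
  ⟨glueE (hW.isCompl hB.eps) (hW'.isCompl hB'.eps) e₁ e₂,
    glueE_form _ _ e₁ e₂ h1 h2 (fun u hu _ hv => hv u hu) (fun _ hu v hv => hB.eps.zero (hu v hv))
      (fun u hu _ hv => hv u hu) (fun _ hu v hv => hB'.eps.zero (hu v hv)),
    glueE_left _ _ e₁ e₂, glueE_right _ _ e₁ e₂, glueE_map_left _ _ e₁ e₂⟩

/-- **Witt's theorem** for nondegenerate subspaces of a symplectic space. -/
theorem exists_iso_map_eq (hB : IsSp B) {W W' : Submodule F V} (hW : NdOn B W) (hW' : NdOn B W')
    (hd : finrank F W = finrank F W') : ∃ g ∈ IsoB B, W.map (g : V →ₗ[F] V) = W' := by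
  have h1 := hB.finrank_orth hW
  have h2 := hB.finrank_orth hW'
  obtain ⟨e₁, he₁⟩ := exists_sp_equiv (hB.res hW) (hB.res hW') hd
  obtain ⟨e₂, he₂⟩ := exists_sp_equiv (hB.res (hB.ndOn_orth hW)) (hB.res (hB.ndOn_orth hW'))
    (by omega)
  obtain ⟨e, he, -, -, hm⟩ := exists_glue hB hB hW hW' e₁ he₁ e₂ he₂
  exact ⟨e, he, hm⟩

/-- `T` on `W`, identity on `W^⊥` -/
theorem exists_ext1 (hB : IsSp B) {W : Submodule F V} (hW : NdOn B W) (T : W ≃ₗ[F] W)
    (hT : T ∈ IsoB (resB B W)) : ∃ e ∈ IsoB B, (∀ w : W, e (w : V) = (T w : V)) ∧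
      (∀ w ∈ orth B W, e w = w) := by
  obtain ⟨e, he, h1, h2, -⟩ := exists_glue hB hB hW hW T hT (LinearEquiv.refl F _)
    (fun u v => rfl)
  exact ⟨e, he, h1, fun w hw => h2 ⟨w, hw⟩⟩

end Witt

section Matrix

variable (m : ℕ) (F : Type u) [Field F]

open ClassicalGeometry.SympBasic Cfsg.Agent.LieClassical.OrthFinite

theorem isSp_sympBilin : IsSp (F := F) (V := Fin m ⊕ Fin m → F) (sympBilin m F) :=
  ⟨fun v => sympForm_self v, fun _ hx => eq_zero_of_forall_sympForm_right hx⟩

theorem finrank_symp : finrank F (Fin m ⊕ Fin m → F) = 2 * m := by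
  rw [Module.finrank_fintype_fun_eq_card, Fintype.card_sum, Fintype.card_fin, two_mul]

theorem mem_spGL_iff {m : ℕ} {F : Type u} [Field F] {g : Matrix.GeneralLinearGroup (Fin m ⊕ Fin m) F} :
    g ∈ Cfsg.spGL m F ↔ glEquiv (Fin m ⊕ Fin m) F g ∈ IsoB (sympBilin m F) := Iff.rfl

/-- `spGL m F` as isometries. -/
noncomputable def spGLEquiv : Cfsg.spGL m F ≃* IsoB (F := F) (V := Fin m ⊕ Fin m → F)
    (sympBilin m F) where
  toFun g := ⟨glEquiv (Fin m ⊕ Fin m) F g.1, mem_spGL_iff.1 g.2⟩
  invFun g := ⟨(glEquiv (Fin m ⊕ Fin m) F).symm g.1, mem_spGL_iff.2 (by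
    rw [MulEquiv.apply_symm_apply]; exact g.2)⟩
  left_inv g := Subtype.ext ((glEquiv _ F).symm_apply_apply g.1)
  right_inv g := Subtype.ext ((glEquiv _ F).apply_symm_apply g.1)
  map_mul' g h := Subtype.ext (map_mul (glEquiv _ F) g.1 h.1)

theorem card_spGL [Finite F] : Nat.card (Cfsg.spGL m F) =
    Nat.card F ^ (m ^ 2) * ∏ i ∈ Finset.range m, (Nat.card F ^ (2 * (i + 1)) - 1) := by
  have := Fintype.ofFinite F
  have h := Cfsg.Agent.S0245.result (Nat.card_eq_fintype_card (α := F)).symm m
  rw [← h]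
  refine Nat.card_congr
    { toFun := fun g => ⟨(g.1 : Matrix (Fin m ⊕ Fin m) (Fin m ⊕ Fin m) F),
        mem_symplecticGroup_iff.2 (fun u v => g.2 u v)⟩
      invFun := fun A => ⟨Matrix.GeneralLinearGroup.mk'' A.1 (SymplecticGroup.symplectic_det A.2),
        mem_symplecticGroup_iff.1 A.2⟩
      left_inv := fun g => Subtype.ext (Units.ext rfl)
      right_inv := fun A => rfl }

end Matrix

section Card

variable {F : Type u} [Field F] {V : Type v} [AddCommGroup V] [Module F V]
  [FiniteDimensional F V] {B : LinearMap.BilinForm F V}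

/-- transport of automorphisms along a linear equivalence (isometries of bilinear forms) -/
noncomputable def IsoBEquiv {V' : Type w} [AddCommGroup V'] [Module F V']
    {B' : LinearMap.BilinForm F V'} (e : V ≃ₗ[F] V') (he : ∀ u v, B' (e u) (e v) = B u v) :
    IsoB B ≃* IsoB B' where
  toFun g := ⟨(e.symm.trans g.1).trans e, fun u v => by
    change B' (e (g.1 (e.symm u))) (e (g.1 (e.symm v))) = B' u v
    rw [he, g.2, ← he, LinearEquiv.apply_symm_apply, LinearEquiv.apply_symm_apply]⟩
  invFun g := ⟨(e.trans g.1).trans e.symm, fun u v => by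
    change B (e.symm (g.1 (e u))) (e.symm (g.1 (e v))) = B u v
    rw [← he, LinearEquiv.apply_symm_apply, LinearEquiv.apply_symm_apply, g.2, he]⟩
  left_inv g := by
    apply Subtype.ext
    ext x
    simp
  right_inv g := by
    apply Subtype.ext
    ext x
    simp
  map_mul' g h := by
    apply Subtype.ext
    ext x
    simp

theorem card_IsoB [Finite F] (hB : IsSp B) {m : ℕ} (hd : finrank F V = 2 * m) :
    Nat.card (IsoB B) = Nat.card F ^ (m ^ 2) * ∏ i ∈ Finset.range m,
      (Nat.card F ^ (2 * (i + 1)) - 1) := by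
  obtain ⟨e, he⟩ := exists_sp_model hB hd
  rw [Nat.card_congr (IsoBEquiv (B' := ClassicalGeometry.SympBasic.sympBilin m F) e he).toEquiv,
    ← Nat.card_congr (spGLEquiv m F).toEquiv, card_spGL]

end Card

section Sub

variable {F : Type u} [Field F] {V : Type v} [AddCommGroup V] [Module F V]
  [FiniteDimensional F V] {B : LinearMap.BilinForm F V}

omit [FiniteDimensional F V] in
/-- a plane with `B v w ≠ 0` is nondegenerate. -/
theorem ndOn_pair (hB : IsSp B) {v w : V} (h : B v w ≠ 0) :
    NdOn B (Submodule.span F {v, w}) := by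
  intro x hx hxy
  obtain ⟨a, b, rfl⟩ := Submodule.mem_span_pair.1 hx
  have hv : v ∈ Submodule.span F {v, w} := Submodule.subset_span (by simp)
  have hw : w ∈ Submodule.span F {v, w} := Submodule.subset_span (by simp)
  have h1 := hxy v hv
  have h2 := hxy w hw
  simp only [map_add, map_smul, LinearMap.add_apply, LinearMap.smul_apply, hB.alt, smul_eq_mul,
    mul_zero, zero_add, add_zero] at h1 h2
  have h3 : B w v ≠ 0 := fun h0 => h (hB.eps.zero h0)
  rw [(mul_eq_zero.1 h1).resolve_right h3, (mul_eq_zero.1 h2).resolve_right h]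
  simp

omit [FiniteDimensional F V] in
theorem finrank_pair (hB : IsSp B) {v w : V} (h : B v w ≠ 0) :
    finrank F (Submodule.span F {v, w}) = 2 := by
  have hli : LinearIndependent F ![v, w] := by
    rw [LinearIndependent.pair_iff]
    intro a b hab
    have h1 : B (a • v + b • w) v = 0 := by rw [hab, map_zero, LinearMap.zero_apply]
    have h2 : B (a • v + b • w) w = 0 := by rw [hab, map_zero, LinearMap.zero_apply]
    simp only [map_add, map_smul, LinearMap.add_apply, LinearMap.smul_apply, hB.alt, smul_eq_mul,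
      mul_zero, zero_add, add_zero] at h1 h2
    have h3 : B w v ≠ 0 := fun h0 => h (hB.eps.zero h0)
    exact ⟨(mul_eq_zero.1 h2).resolve_right h, (mul_eq_zero.1 h1).resolve_right h3⟩
  have h1 := finrank_span_eq_card hli
  have h2 : Set.range ![v, w] = {v, w} := by
    simp [Matrix.range_cons, Matrix.range_empty, Set.pair_comm]
  rw [h2] at h1
  simpa using h1

/-- nondegenerate subspaces of every even dimension. -/
theorem exists_ndOn (hB : IsSp B) (a : ℕ) (ha : 2 * a ≤ finrank F V) :
    ∃ W : Submodule F V, NdOn B W ∧ finrank F W = 2 * a := by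
  induction a with
  | zero =>
    exact ⟨⊥, fun x hx _ => (Submodule.mem_bot F).1 hx, by rw [finrank_bot]⟩
  | succ a ih =>
    obtain ⟨W, hW, hWd⟩ := ih (by omega)
    have h1 := hB.finrank_orth hW
    have h2 := hB.ndOn_orth hW
    obtain ⟨v, hv, hv0⟩ := (Submodule.ne_bot_iff (orth B W)).1 (by
      intro h
      rw [h, finrank_bot] at h1
      omega)
    obtain ⟨w, hw, hvw⟩ : ∃ w ∈ orth B W, B v w ≠ 0 := by
      by_contra hcon
      push Not at hcon
      exact hv0 (h2 v hv hcon)
    have h3 : Submodule.span F {v, w} ≤ orth B W := by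
      rw [Submodule.span_le]
      rintro x (rfl | rfl)
      · exact hv
      · exact hw
    have hn := ndOn_pair hB hvw
    refine ⟨W ⊔ Submodule.span F {v, w}, hW.sup hB.eps hn h3, ?_⟩
    have h4 := Submodule.finrank_sup_add_finrank_inf_eq W (Submodule.span F {v, w})
    rw [(disjoint_of_le_orth hW h3 hB.eps).eq_bot, finrank_bot, finrank_pair hB hvw] at h4
    omega

end Sub

section Elt

variable {F : Type u} [Field F] [Finite F] {V : Type v} [AddCommGroup V] [Module F V]
  [FiniteDimensional F V] {B : LinearMap.BilinForm F V} {r : ℕ} [hrp : Fact r.Prime]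

omit [Finite F] in
theorem even_sp (hB : IsSp B) {T : V ≃ₗ[F] V} (W : Submodule F V) (_hW : Inv T W)
    (hWn : NdOn B W) (_hf : ∀ w ∈ W, T w = w → w = 0) : Even (finrank F W) :=
  hB.even_of_ndOn hWn

omit [Finite F] in
/-- the commutator space of an isometry of order prime to the characteristic is nondegenerate. -/
theorem ndOn_comS {B : LinearMap.BilinForm F V} (hnd : ∀ x, (∀ y, B x y = 0) → x = 0)
    {T : V ≃ₗ[F] V} (hT : T ∈ IsoB B) {n : ℕ} (hn : (n : F) ≠ 0) (hTn : T ^ n = 1) :
    NdOn B (comS T) := by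
  intro x hx hxy
  refine hnd x fun y => ?_
  obtain ⟨a, ha, b, hb, rfl⟩ : ∃ a ∈ fixS T, ∃ b ∈ comS T, a + b = y := by
    have h1 : y ∈ fixS T ⊔ comS T := by rw [(isCompl_fixS_comS hn hTn).sup_eq_top]; trivial
    exact Submodule.mem_sup.1 h1
  rw [map_add, hxy b hb, add_zero]
  exact ortho_fixS_comS (fun u v => B u v) (fun u v w => by rw [map_sub, LinearMap.sub_apply]) hT hx ha

/-- dimension of the commutator space -/
theorem cc_dvd_finrank_comS (hB : IsSp B) {T : V ≃ₗ[F] V} (hT : T ∈ IsoB B)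
    (hr : ¬ r ∣ Nat.card F) (hTr : T ^ r = 1) : cc (Nat.card F) r ∣ finrank F (comS T) := by
  have hrF := natCast_ne_zero_of_not_dvd hr
  exact cc_dvd_finrank (B := B) hTr (even_sp hB) (inv_comS T) (ndOn_comS hB.nd hT hrF hTr)
    (free_comS hrF hTr)

/-- a symplectic space of dimension `c` has a fixed-point-free isometry of order `r`. -/
theorem exists_free_sp (hr : ¬ r ∣ Nat.card F) (hB : IsSp B)
    (hd : finrank F V = cc (Nat.card F) r) :
    ∃ T ∈ IsoB B, T ^ r = 1 ∧ ∀ v, T v = v → v = 0 := by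
  have hfinV : Finite V := Module.finite_of_finite F
  have hrF := natCast_ne_zero_of_not_dvd hr
  have hc := cc_pos (q := Nat.card F) hr
  have hq : 1 ≤ Nat.card F := Nat.card_pos
  obtain ⟨c2, hc2⟩ := even_cc (Nat.card F) r
  have hdvd : r ∣ Nat.card (IsoB B) := by
    rw [card_IsoB hB (m := c2) (by omega)]
    apply Dvd.dvd.mul_left
    have h3 : r ∣ Nat.card F ^ (2 * (c2 - 1 + 1)) - 1 := by
      rw [dvd_pow_sub_one_iff hq]
      have : 2 * (c2 - 1 + 1) = cc (Nat.card F) r := by omega
      rw [this]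
      exact orderOf_dvd_cc _ _
    exact h3.trans (Finset.dvd_prod_of_mem _ (Finset.mem_range.2 (by omega)))
  have hfinL : Finite (V ≃ₗ[F] V) := Finite.of_injective (fun g : V ≃ₗ[F] V => (g : V → V))
    DFunLike.coe_injective
  obtain ⟨⟨T, hT⟩, hTo⟩ := exists_prime_orderOf_dvd_card' r hdvd
  have hTr : T ^ r = 1 := by
    have := pow_orderOf_eq_one (⟨T, hT⟩ : IsoB B)
    rw [hTo] at this
    exact congrArg Subtype.val this
  have hT1 : T ≠ 1 := by
    rintro rfl
    have h1 : orderOf (1 : IsoB B) = 1 := orderOf_one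
    have h3 : (⟨1, hT⟩ : IsoB B) = 1 := rfl
    rw [h3, h1] at hTo
    have := hrp.out.one_lt
    omega
  refine ⟨T, hT, hTr, ?_⟩
  obtain ⟨t, ht⟩ := cc_dvd_finrank_comS hB hT hr hTr
  have ht0 : t ≠ 0 := by
    rintro rfl
    rw [mul_zero, Submodule.finrank_eq_zero] at ht
    apply hT1
    ext v
    have h1 := sub_mem_comS T v
    rw [ht, Submodule.mem_bot, sub_eq_zero] at h1
    exact h1
  have h3 : comS T = ⊤ := by
    apply Submodule.eq_top_of_finrank_eq
    apply le_antisymm (Submodule.finrank_le _)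
    rw [ht, hd]
    exact Nat.le_mul_of_pos_right _ (Nat.pos_of_ne_zero ht0)
  intro v hv
  exact free_comS hrF hTr v (by rw [h3]; trivial) hv

/-- **an isometry of order `r` with commutator space of dimension `c`** -/
theorem exists_min_sp (hr : ¬ r ∣ Nat.card F) (hB : IsSp B)
    (hd : cc (Nat.card F) r ≤ finrank F V) :
    ∃ T ∈ IsoB B, T ^ r = 1 ∧ finrank F (comS T) = cc (Nat.card F) r := by
  obtain ⟨c2, hc2⟩ := even_cc (Nat.card F) r
  obtain ⟨W, hW, hWd⟩ := exists_ndOn hB c2 (by omega)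
  obtain ⟨T, hT, hTr, hTf⟩ := exists_free_sp hr (hB.res hW) (by omega)
  obtain ⟨e, he, h1, h2⟩ := exists_ext1 hB hW T hT
  have hpow : ∀ (n : ℕ) (w : W), (e ^ n) (w : V) = ((T ^ n) w : V) := by
    intro n
    induction n with
    | zero => intro w; rfl
    | succ n ih => intro w; rw [pow_succ, pow_succ, LinearEquiv.mul_apply, LinearEquiv.mul_apply, h1, ih]
  have hpow2 : ∀ (n : ℕ) (w : V), w ∈ orth B W → (e ^ n) w = w := by
    intro n
    induction n with
    | zero => intro w _; rfl
    | succ n ih => intro w hw; rw [pow_succ, LinearEquiv.mul_apply, h2 w hw, ih w hw]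
  refine ⟨e, he, ?_, ?_⟩
  · ext v
    obtain ⟨a, b, rfl⟩ := exists_add_compl (hW.isCompl hB.eps) v
    change (e ^ r) ((a : V) + (b : V)) = (a : V) + (b : V)
    rw [map_add, hpow, hpow2 r b b.2, hTr]
    rfl
  · have h3 : comS e = W := by
      apply le_antisymm
      · intro v hv
        obtain ⟨y, rfl⟩ := mem_comS.1 hv
        obtain ⟨a, b, rfl⟩ := exists_add_compl (hW.isCompl hB.eps) y
        rw [map_add, h1, h2 b b.2, add_sub_add_right_eq_sub]
        exact W.sub_mem (T a).2 a.2
      · -- `T - 1` is surjective on `W`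
        intro w hw
        have hinj : Function.Injective
            (((T : W →ₗ[F] W) - LinearMap.id : W →ₗ[F] W) : W → W) := by
          rw [← LinearMap.ker_eq_bot, Submodule.eq_bot_iff]
          intro x hx
          exact hTf x (sub_eq_zero.1 hx)
        obtain ⟨y, hy⟩ := LinearMap.injective_iff_surjective.1 hinj ⟨w, hw⟩
        refine mem_comS.2 ⟨(y : V), ?_⟩
        rw [h1]
        exact congrArg Subtype.val hy
    rw [h3, hWd, hc2]
    ring

end Elt

end Cfsg.Agent.H955
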