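import Mathlib
import Cfsg.Agent.H955.QElt

/-!
# Quadratic spaces over finite fields of odd characteristic: values, sums, moving subspaces, and
`O(V) = O(P) Ω(V)`
-/

set_option autoImplicit false

namespace Cfsg.Agent.H955

open Module QuadraticMap Cfsg.Agent.LieClassical.OrthCore Cfsg.Agent.LieClassical.OrthTrans
open Cfsg.Agent.LieClassical.OrthFinite
open scoped commutatorElement

universe u v w

section Values

variable {F : Type u} [Field F] {V : Type v} [AddCommGroup V] [Module F V]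

/-- a nonzero nondegenerate space in odd characteristic has a nonsingular vector. -/
theorem exists_nonsingular {Q : QuadraticForm F V} (hQ : Nondeg Q)
    (hd : 0 < finrank F V) : ∃ v, Q v ≠ 0 := by
  by_contra hcon
  push Not at hcon
  have hne : Nontrivial V := Module.nontrivial_of_finrank_pos hd
  obtain ⟨x, hx⟩ := exists_ne (0 : V)
  apply hx
  apply hQ
  intro y
  rw [polar, hcon, hcon, hcon]
  ring

theorem nondeg_span_singleton (h2 : (2 : F) ≠ 0) {Q : QuadraticForm F V} {v : V} (hv : Q v ≠ 0) :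
    Nondeg (res Q (Submodule.span F {v})) := by
  rw [nondeg_res_iff]
  intro x hx hxy
  obtain ⟨c, rfl⟩ := Submodule.mem_span_singleton.1 hx
  have h1 := hxy v (Submodule.mem_span_singleton_self v)
  rw [polar_smul_left, polar_self', smul_eq_mul] at h1
  rw [(mul_eq_zero.1 h1).resolve_right (mul_ne_zero h2 hv), zero_smul]

/-- `a x² + b y² = c` is solvable. -/
theorem exists_two_squares [Finite F] (h2 : (2 : F) ≠ 0) {a b : F} (ha : a ≠ 0) (hb : b ≠ 0) (c : F) :
    ∃ x y : F, a * x ^ 2 + b * y ^ 2 = c := by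
  have := Fintype.ofFinite F
  have hchar : ringChar F ≠ 2 := by
    intro h
    apply h2
    have := ringChar.Nat.cast_ringChar (R := F)
    rw [h] at this
    exact_mod_cast this
  obtain ⟨x, y, hxy⟩ := FiniteField.exists_root_sum_quadratic
    (f := (Polynomial.C a * Polynomial.X ^ 2 + Polynomial.C 0 * Polynomial.X + Polynomial.C 0 :
      Polynomial F)) (g := Polynomial.C b * Polynomial.X ^ 2 +
      Polynomial.C 0 * Polynomial.X + Polynomial.C (-c))
    (Polynomial.degree_quadratic ha) (Polynomial.degree_quadratic hb)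
    (FiniteField.odd_card_of_char_ne_two hchar)
  refine ⟨x, y, ?_⟩
  simp at hxy
  linear_combination hxy

/-- a nondegenerate form in dimension at least two takes every value. -/
theorem exists_value [Finite F] [FiniteDimensional F V] (h2 : (2 : F) ≠ 0) {Q : QuadraticForm F V}
    (hQ : Nondeg Q) (hd : 2 ≤ finrank F V) (c : F) : ∃ v, Q v = c := by
  obtain ⟨v, hv⟩ := exists_nonsingular hQ (by omega)
  have hv0 : v ≠ 0 := by
    rintro rfl
    exact hv (QuadraticMap.map_zero Q)
  have hn := nondeg_span_singleton h2 hv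
  have h1 := finrank_add_perp hQ (Submodule.span F {v})
  rw [finrank_span_singleton hv0] at h1
  obtain ⟨⟨w, hw⟩, hw1⟩ := exists_nonsingular (nondeg_perp hQ hn) (by omega)
  obtain ⟨x, y, hxy⟩ := exists_two_squares h2 hv hw1 c
  refine ⟨x • v + y • w, ?_⟩
  have h3 : polar Q v w = 0 := hw v (Submodule.mem_span_singleton_self v)
  rw [Q_add, QuadraticMap.map_smul, QuadraticMap.map_smul, polar_smul_left, polar_smul_right, h3]
  rw [res_apply] at hxy
  simp only [smul_eq_mul, mul_zero, add_zero]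
  linear_combination hxy

end Values

section Sup

variable {F : Type u} [Field F] {V : Type v} [AddCommGroup V] [Module F V] {Q : QuadraticForm F V}

theorem inf_perp_eq_bot {W W' : Submodule F V} (hW : Nondeg (res Q W)) (hWW : W' ≤ perp Q W) :
    W ⊓ W' = ⊥ := by
  rw [Submodule.eq_bot_iff]
  rintro x ⟨hx, hx'⟩
  exact nondeg_res_iff.1 hW x hx fun y hy => by rw [polar_comm]; exact hWW hx' y hy

/-- orthogonal sums of subspaces -/
theorem sup_props [Finite F] [FiniteDimensional F V] {W W' : Submodule F V}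
    (hW : Nondeg (res Q W)) (hW' : Nondeg (res Q W'))
    (hWW : W' ≤ perp Q W) : Nondeg (res Q (W ⊔ W')) ∧
      finrank F (W ⊔ W' : Submodule F V) = finrank F W + finrank F W' ∧
      (Even (finrank F W) → Even (finrank F W') →
        (IsPlus (res Q (W ⊔ W')) ↔ (IsPlus (res Q W) ↔ IsPlus (res Q W')))) := by
  have hinf := inf_perp_eq_bot hW hWW
  let f : (W × W') →ₗ[F] V := LinearMap.coprod W.subtype W'.subtype
  have hf : Function.Injective f := by
    rw [← LinearMap.ker_eq_bot, Submodule.eq_bot_iff]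
    rintro ⟨a, b⟩ hab
    have h1 : (a : V) + (b : V) = 0 := hab
    have h3 : (a : V) = 0 := by
      rw [← Submodule.mem_bot F, ← hinf]
      refine ⟨a.2, ?_⟩
      rw [eq_neg_of_add_eq_zero_left h1]
      exact W'.neg_mem b.2
    have h4 : (b : V) = 0 := by rw [h3, zero_add] at h1; exact h1
    exact Prod.ext (Subtype.ext h3) (Subtype.ext h4)
  have hfQ : ∀ x, Q (f x) = osum (res Q W) (res Q W') x := by
    rintro ⟨a, b⟩
    change Q ((a : V) + (b : V)) = Q (a : V) + Q (b : V)
    exact Q_add_of_perp a.2 (hWW b.2)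
  have hrange : LinearMap.range f = W ⊔ W' := by
    rw [LinearMap.range_coprod, Submodule.range_subtype, Submodule.range_subtype]
  obtain ⟨h1, h2, h3⟩ := range_props (nondeg_osum hW hW') hf hfQ
  rw [hrange] at h1 h2 h3
  refine ⟨h1, by rw [h2, Module.finrank_prod], fun he he' => ?_⟩
  rw [h3, isPlus_osum_iff hW hW' he he']

end Sup

section Move

variable {F : Type u} [Field F] [Finite F] {V : Type v} [AddCommGroup V] [Module F V]
  [FiniteDimensional F V] {Q : QuadraticForm F V}

omit [Finite F] in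
/-- gluing isometries along orthogonal decompositions -/
theorem exists_glueQ {V' : Type w} [AddCommGroup V'] [Module F V'] [FiniteDimensional F V']
    {Q' : QuadraticForm F V'} {W : Submodule F V} {W' : Submodule F V'}
    (hW : Nondeg (res Q W)) (hW' : Nondeg (res Q' W')) (e₁ : W ≃ₗ[F] W')
    (h1 : ∀ u, Q' (e₁ u : V') = Q (u : V)) (e₂ : perp Q W ≃ₗ[F] perp Q' W')
    (h2 : ∀ u, Q' (e₂ u : V') = Q (u : V)) :
    ∃ e : V ≃ₗ[F] V', (∀ v, Q' (e v) = Q v) ∧ (∀ w : W, e (w : V) = (e₁ w : V')) ∧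
      (∀ w : perp Q W, e (w : V) = (e₂ w : V')) := by
  refine ⟨((decomp hW).symm.trans (LinearEquiv.prodCongr e₁ e₂)).trans (decomp hW'), ?_, ?_, ?_⟩
  · intro v
    obtain ⟨x, rfl⟩ := (decomp hW).surjective v
    rw [Q_decomp, LinearEquiv.trans_apply, LinearEquiv.trans_apply, LinearEquiv.symm_apply_apply,
      Q_decomp, ← h1, ← h2]
    rfl
  · intro w
    have h3 : (w : V) = decomp hW (w, 0) := by rw [decomp_apply]; simp
    rw [h3, LinearEquiv.trans_apply, LinearEquiv.trans_apply, LinearEquiv.symm_apply_apply]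
    change decomp hW' (e₁ w, e₂ 0) = _
    rw [map_zero, decomp_apply]
    simp
  · intro w
    have h3 : (w : V) = decomp hW (0, w) := by rw [decomp_apply]; simp
    rw [h3, LinearEquiv.trans_apply, LinearEquiv.trans_apply, LinearEquiv.symm_apply_apply]
    change decomp hW' (e₁ 0, e₂ w) = _
    rw [map_zero, decomp_apply]
    simp

/-- **Witt's theorem** for nondegenerate subspaces of even dimension in even dimension. -/
theorem exists_move (hQ : Nondeg Q) (hd : Even (finrank F V)) {W W' : Submodule F V}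
    (hW : Nondeg (res Q W)) (hW' : Nondeg (res Q W')) (hWe : Even (finrank F W))
    (hWW : finrank F W = finrank F W') (hP : IsPlus (res Q W) ↔ IsPlus (res Q W')) :
    ∃ g ∈ O Q, W.map (g : V →ₗ[F] V) = W' := by
  obtain ⟨e₁, he₁⟩ := exists_equiv_of_isPlus_iff hW hW' hWe hWW hP
  have h1 := finrank_add_perp hQ W
  have h2 := finrank_add_perp hQ W'
  have h3 := isPlus_iff_perp hQ hW hd hWe
  have h4 := isPlus_iff_perp hQ hW' hd (hWW ▸ hWe)
  have h5 : Even (finrank F (perp Q W)) := by
    rw [← h1] at hd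
    exact (Nat.even_add.1 hd).1 hWe
  obtain ⟨e₂, he₂⟩ := exists_equiv_of_isPlus_iff (nondeg_perp hQ hW) (nondeg_perp hQ hW') h5
    (by omega) (by tauto)
  obtain ⟨e, he, hl, -⟩ := exists_glueQ hW hW' e₁ he₁ e₂ he₂
  refine ⟨e, he, ?_⟩
  apply le_antisymm
  · rintro _ ⟨w, hw, rfl⟩
    change e w ∈ W'
    have := hl ⟨w, hw⟩
    change e w = _ at this
    rw [this]
    exact Subtype.mem _
  · intro w hw
    refine ⟨(e₁.symm ⟨w, hw⟩ : V), Subtype.mem _, ?_⟩
    change e (e₁.symm ⟨w, hw⟩ : V) = w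
    rw [hl, LinearEquiv.apply_symm_apply]

end Move

section Omega

variable {F : Type u} [Field F] {V : Type v} [AddCommGroup V] [Module F V] {Q : QuadraticForm F V}

/-- the group generated by the reflections in vectors of `P` -/
def reflGrp (Q : QuadraticForm F V) (P : Submodule F V) : Subgroup (V ≃ₗ[F] V) :=
  Subgroup.closure {g | ∃ v, ∃ hv : Q v ≠ 0, v ∈ P ∧ g = refl Q v hv}

theorem reflGrp_le_O (P : Submodule F V) : reflGrp Q P ≤ O Q := by
  rw [reflGrp, Subgroup.closure_le]
  rintro _ ⟨v, hv, -, rfl⟩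
  exact refl_mem_O hv

/-- elements of `reflGrp Q P` fix `P^⊥` pointwise. -/
theorem reflGrp_fix {P : Submodule F V} {g : V ≃ₗ[F] V} (hg : g ∈ reflGrp Q P) :
    ∀ x ∈ perp Q P, g x = x := by
  induction hg using Subgroup.closure_induction with
  | mem g hg =>
    obtain ⟨v, hv, hvP, rfl⟩ := hg
    intro x hx
    rw [refl_apply, hx v hvP, mul_zero, zero_smul, sub_zero]
  | one => exact fun x _ => rfl
  | mul a b _ _ iha ihb =>
    intro x hx
    rw [LinearEquiv.mul_apply, ihb x hx, iha x hx]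
  | inv a _ iha =>
    intro x hx
    change a.symm x = x
    rw [LinearEquiv.symm_apply_eq, iha x hx]

/-- elements of `reflGrp Q P` stabilize `P`. -/
theorem reflGrp_stab {P : Submodule F V} {g : V ≃ₗ[F] V} (hg : g ∈ reflGrp Q P) :
    (∀ x ∈ P, g x ∈ P) ∧ ∀ x ∈ P, g⁻¹ x ∈ P := by
  induction hg using Subgroup.closure_induction with
  | mem g hg =>
    obtain ⟨v, hv, hvP, rfl⟩ := hg
    have h1 : ∀ x ∈ P, refl Q v hv x ∈ P := by
      intro x hx
      rw [refl_apply]
      exact P.sub_mem hx (P.smul_mem _ hvP)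
    rw [refl_inv]
    exact ⟨h1, h1⟩
  | one => exact ⟨fun x hx => hx, fun x hx => hx⟩
  | mul a b _ _ iha ihb =>
    refine ⟨fun x hx => iha.1 _ (ihb.1 x hx), fun x hx => ?_⟩
    rw [mul_inv_rev]
    exact ihb.2 _ (iha.2 x hx)
  | inv a _ iha =>
    refine ⟨iha.2, ?_⟩
    rw [inv_inv]
    exact iha.1

/-- **`O(V) = O(P) Ω(V)`** if `P` represents everything. -/
theorem exists_refl_mul (hG : Good Q) {P : Submodule F V} (hP : ∀ c : F, ∃ v ∈ P, Q v = c)
    {g : V ≃ₗ[F] V} (hg : g ∈ O Q) : ∃ h ∈ reflGrp Q P, ∃ w ∈ E Q, g = h * w := by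
  have : FiniteDimensional F V := Module.finite_of_finrank_pos (by have := hG.dim; omega)
  rw [O_eq_closure hG.nondeg] at hg
  induction hg using Subgroup.closure_induction with
  | mem g hg =>
    rcases hg with ⟨v, hv, rfl⟩ | ⟨u, w, hu, hw, rfl⟩
    · obtain ⟨b, hbP, hb⟩ := hP (Q v)
      have hb' : Q b ≠ 0 := by rw [hb]; exact hv
      refine ⟨refl Q b hb', Subgroup.subset_closure ⟨b, hb', hbP, rfl⟩,
        refl Q b hb' * refl Q v hv, hG.refl_mul_refl_mem hv hb' hb.symm, ?_⟩
      rw [← mul_assoc, refl_mul_self, one_mul]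
    · exact ⟨1, one_mem _, _, siegel_mem_E hu hw, (one_mul _).symm⟩
  | one => exact ⟨1, one_mem _, 1, one_mem _, (one_mul _).symm⟩
  | mul a b _ _ iha ihb =>
    obtain ⟨h1, hh1, w1, hw1, rfl⟩ := iha
    obtain ⟨h2, hh2, w2, hw2, rfl⟩ := ihb
    refine ⟨h1 * h2, mul_mem hh1 hh2, (h2⁻¹ * w1 * h2⁻¹⁻¹) * w2,
      mul_mem (conj_mem_E (inv_mem (reflGrp_le_O P hh2)) hw1) hw2, ?_⟩
    group
  | inv a _ iha =>
    obtain ⟨h1, hh1, w1, hw1, rfl⟩ := iha
    refine ⟨h1⁻¹, inv_mem hh1, h1 * w1⁻¹ * h1⁻¹,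
      conj_mem_E (reflGrp_le_O P hh1) (inv_mem hw1), ?_⟩
    group

/-- squares of isometries are in `Ω`. -/
theorem sq_mem_E (hG : Good Q) {g : V ≃ₗ[F] V} (hg : g ∈ O Q) : g * g ∈ E Q := by
  have : FiniteDimensional F V := Module.finite_of_finrank_pos (by have := hG.dim; omega)
  have hcl := O_eq_closure hG.nondeg
  rw [hcl] at hg
  induction hg using Subgroup.closure_induction with
  | mem g hg =>
    rcases hg with ⟨v, hv, rfl⟩ | ⟨u, w, hu, hw, rfl⟩
    · rw [refl_mul_self]
      exact one_mem _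
    · exact mul_mem (siegel_mem_E hu hw) (siegel_mem_E hu hw)
  | one => rw [mul_one]; exact one_mem _
  | mul a b ha hb iha ihb =>
    rw [← hcl] at ha hb
    have e : a * b * (a * b) = (a * a) * ⁅a⁻¹, b⁆ * (b * b) := by
      simp only [commutatorElement_def]
      group
    rw [e]
    exact mul_mem (mul_mem iha (hG.commutator_le_E
      (Subgroup.commutator_mem_commutator (inv_mem ha) hb))) ihb
  | inv a _ iha =>
    have e : a⁻¹ * a⁻¹ = (a * a)⁻¹ := by group
    rw [e]
    exact inv_mem iha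

/-- isometries of odd order are in `Ω`. -/
theorem mem_E_of_odd (hG : Good Q) {g : V ≃ₗ[F] V} (hg : g ∈ O Q) {n : ℕ} (hn : Odd n)
    (h : g ^ n = 1) : g ∈ E Q := by
  obtain ⟨m, rfl⟩ := hn
  have e : g = ((g * g) ^ m)⁻¹ := by
    rw [eq_inv_iff_mul_eq_one, ← pow_two, ← pow_mul, ← pow_succ', h]
  rw [e]
  exact inv_mem (pow_mem (sq_mem_E hG hg) m)

/-- elements of `Ω` have determinant one. -/
theorem det_of_mem_E [FiniteDimensional F V] (hG : Good Q) {g : V ≃ₗ[F] V} (hg : g ∈ E Q) :
    LinearEquiv.det g = 1 := by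
  rw [← hG.commutator_eq_E] at hg
  have h1 : ⁅O Q, O Q⁆ ≤ (LinearEquiv.det : (V ≃ₗ[F] V) →* Fˣ).ker := by
    rw [Subgroup.commutator_le]
    intro a _ b _
    rw [MonoidHom.mem_ker, map_commutatorElement, commutatorElement_eq_one_iff_mul_comm, mul_comm]
  exact h1 hg

end Omega

end Cfsg.Agent.H955
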