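import Cfsg.Agent.H955.FSDefs
import Cfsg.Agent.S0188
import Cfsg.Agent.H692.SqRoot
import Cfsg.Agent.Characters.GaloisIrr
import Cfsg.Agent.Blocks.ReynoldsAux

/-!
# Frobenius-Schur indicators: the basic permanence properties of `FSGood`
-/

set_option autoImplicit false

universe u

namespace Cfsg.Agent.H955.FS

open Cfsg QuadraticMap
open Cfsg.Agent.LieClassical.OrthCore
open Cfsg.Agent.Characters.Core
open scoped ComplexConjugate

/-! ### The indicator as a sum over a fintype -/

theorem fsi_eq_nu {G : Type u} [Group G] [Fintype G] (χ : G → ℂ) :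
    fsi χ = H692.SqRoot.nu χ := by
  unfold fsi H692.SqRoot.nu
  rw [finsum_eq_sum_of_fintype]

theorem fsi_eq_sum {G : Type u} [Group G] [Fintype G] (χ : G → ℂ) :
    fsi χ = (Nat.card G : ℂ)⁻¹ * ∑ s : G, χ (s * s) := by
  unfold fsi
  rw [finsum_eq_sum_of_fintype]

/-- the trichotomy of Frobenius and Schur -/
theorem fsi_spec {G : Type u} [Group G] [Finite G] {χ : G → ℂ} (hχ : IsIrrCharacter G χ) :
    (fsi χ = 0 ∧ ∃ g, (χ g).im ≠ 0) ∨ ((fsi χ = 1 ∨ fsi χ = -1) ∧ ∀ g, (χ g).im = 0) := by
  have := Fintype.ofFinite G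
  rw [fsi_eq_nu]
  exact H692.SqRoot.nu_spec hχ

theorem fsi_cases {G : Type u} [Group G] [Finite G] {χ : G → ℂ} (hχ : IsIrrCharacter G χ) :
    fsi χ = 0 ∨ fsi χ = 1 ∨ fsi χ = -1 := by
  rcases fsi_spec hχ with h | h
  · exact Or.inl h.1
  · exact Or.inr h.1

theorem fsi_ne_zero_of_real {G : Type u} [Group G] [Finite G] {χ : G → ℂ}
    (hχ : IsIrrCharacter G χ) (h : ∀ g, (χ g).im = 0) : fsi χ ≠ 0 := by
  have := Fintype.ofFinite G
  rw [fsi_eq_nu]
  exact H692.SqRoot.nu_ne_zero_of_real hχ h

theorem real_of_fsi_ne_zero {G : Type u} [Group G] [Finite G] {χ : G → ℂ}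
    (hχ : IsIrrCharacter G χ) (h : fsi χ ≠ 0) (g : G) : (χ g).im = 0 := by
  rcases fsi_spec hχ with h1 | h1
  · exact absurd h1.1 h
  · exact h1.2 g

theorem apply_inv_of_fsi_ne_zero {G : Type u} [Group G] [Finite G] {χ : G → ℂ}
    (hχ : IsIrrCharacter G χ) (h : fsi χ ≠ 0) (g : G) : χ g⁻¹ = χ g := by
  rw [isCharacter_apply_inv (isIrr_isCharacter hχ) g]
  exact Complex.conj_eq_iff_im.2 (real_of_fsi_ne_zero hχ h g)

/-- The indicator of an inflated function. -/
theorem fsi_comp {G H : Type u} [Group G] [Group H] [Finite G] (f : G →* H)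
    (hf : Function.Surjective f) (χ : H → ℂ) : fsi (χ ∘ f) = fsi χ := by
  classical
  have := Fintype.ofFinite G
  have : Finite H := Finite.of_surjective f hf
  have := Fintype.ofFinite H
  rw [fsi_eq_sum, fsi_eq_sum]
  have h1 : ∑ s : G, (χ ∘ f) (s * s) = ∑ s : G, (fun q : H => χ (q * q)) (f s) := by
    refine Finset.sum_congr rfl fun s _ => ?_
    simp only [Function.comp_apply, map_mul]
  have h2 : Nat.card G = Nat.card f.ker * Nat.card H := by
    have h3 := Subgroup.card_mul_index f.ker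
    rw [Subgroup.index_ker, MonoidHom.range_eq_top.2 hf, Subgroup.card_top] at h3
    exact h3.symm
  have h4 : (Nat.card f.ker : ℂ) ≠ 0 := by exact_mod_cast Nat.card_pos.ne'
  rw [h1, h2]
  have h5 : ∑ s : G, (fun q : H => χ (q * q)) (f s) =
      (Nat.card f.ker : ℂ) * ∑ q : H, χ (q * q) := by
    rw [← Finset.sum_fiberwise_of_maps_to (s := Finset.univ) (t := Finset.univ) (g := f)
      (fun _ _ => Finset.mem_univ _), Finset.mul_sum]
    refine Finset.sum_congr rfl fun q _ => ?_
    rw [Finset.sum_congr rfl (g := fun _ => χ (q * q)) (fun a ha => by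
      rw [(Finset.mem_filter.1 ha).2]), Finset.sum_const, nsmul_eq_mul]
    congr 1
    obtain ⟨a, rfl⟩ := hf q
    rw [← Fintype.card_subtype, ← Nat.card_eq_fintype_card]
    congr 1
    refine Nat.card_congr
      ⟨fun x => ⟨a⁻¹ * x.1, by rw [MonoidHom.mem_ker, map_mul, map_inv, x.2, inv_mul_cancel]⟩,
        fun x => ⟨a * x.1, by rw [map_mul, (MonoidHom.mem_ker).1 x.2, mul_one]⟩,
        fun x => Subtype.ext (mul_inv_cancel_left _ _),
        fun x => Subtype.ext (inv_mul_cancel_left _ _)⟩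
  rw [h5]
  push_cast
  rw [mul_inv]
  field_simp

/-- The indicator is multiplicative on outer products. -/
theorem fsi_outer {G H : Type u} [Group G] [Group H] [Finite G] [Finite H]
    (φ : G → ℂ) (ψ : H → ℂ) :
    fsi (fun x : G × H => φ x.1 * ψ x.2) = fsi φ * fsi ψ := by
  classical
  have := Fintype.ofFinite G
  have := Fintype.ofFinite H
  rw [fsi_eq_sum, fsi_eq_sum, fsi_eq_sum, Fintype.sum_prod_type, Nat.card_prod]
  simp only [Prod.fst_mul, Prod.snd_mul]
  rw [← Finset.sum_mul_sum]
  push_cast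
  rw [mul_inv]
  ring

/-! ### Permanence properties -/

theorem FSGood.mono {G : Type u} [Group G] {w w' : Prop} (hw : w → w') (h : FSGood w G) :
    FSGood w' G := by
  intro χ hχ
  rcases h χ hχ with h1 | h1
  · exact Or.inl h1
  · exact Or.inr ⟨hw h1.1, h1.2⟩

theorem FSGood.of_surjective {G H : Type u} [Group G] [Group H] [Finite G] (f : G →* H)
    (hf : Function.Surjective f) {w : Prop} (h : FSGood w G) : FSGood w H := by
  intro χ hχ
  have h1 := h (χ ∘ f) (isIrr_comp f hf hχ)
  rw [fsi_comp f hf] at h1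
  exact h1

theorem FSGood.of_mulEquiv {G H : Type u} [Group G] [Group H] [Finite G] (e : G ≃* H)
    {w : Prop} (h : FSGood w G) : FSGood w H :=
  h.of_surjective e.toMonoidHom e.surjective

theorem FSGood.prod {G H : Type u} [Group G] [Group H] [Finite G] [Finite H] {w : Prop}
    (hG : FSGood w G) (hH : FSGood w H) : FSGood w (G × H) := by
  intro χ hχ
  obtain ⟨φ, ψ, hφ, hψ, rfl⟩ := (S0188.result χ).1 hχ
  rw [fsi_outer]
  rcases hG φ hφ with h1 | h1
  · rcases hH ψ hψ with h2 | h2
    · left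
      rw [h1, h2, mul_one]
    · right
      exact ⟨h2.1, by rw [h2.2, mul_zero]⟩
  · right
    exact ⟨h1.1, by rw [h1.2, zero_mul]⟩

theorem FSGood.isConj_inv {G : Type u} [Group G] [Finite G] (h : FSGood False G) (g : G) :
    IsConj g g⁻¹ := by
  refine Characters.GaloisIrr.isConj_of_forall_irr fun χ hχ => ?_
  have h1 : fsi χ ≠ 0 := by
    rcases h χ hχ with h1 | h1
    · rw [h1]
      exact one_ne_zero
    · exact h1.1.elim
  exact (apply_inv_of_fsi_ne_zero hχ h1 g).symm

/-- If every element is real, all irreducible characters are real-valued. -/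
theorem im_eq_zero_of_isConj_inv {G : Type u} [Group G] [Finite G] {χ : G → ℂ}
    (hχ : IsIrrCharacter G χ) (hr : ∀ g : G, IsConj g g⁻¹) (g : G) : (χ g).im = 0 := by
  rw [← Complex.conj_eq_iff_im, ← isCharacter_apply_inv (isIrr_isCharacter hχ) g]
  obtain ⟨c, hc⟩ := isConj_iff.1 (hr g)
  rw [← hc]
  exact isIrr_isClassFunction hχ g c

theorem FSGood.of_isConj_inv {G : Type u} [Group G] [Finite G] (h : FSGood True G)
    (hr : ∀ g : G, IsConj g g⁻¹) : FSGood False G := by
  intro χ hχ
  left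
  rcases h χ hχ with h1 | h1
  · exact h1
  · exact absurd h1.2 (fsi_ne_zero_of_real hχ (im_eq_zero_of_isConj_inv hχ hr))

/-! ### Generalized dihedral-like groups -/

theorem fsGood_of_compl {G : Type u} [Group G] [Finite G] (C : Subgroup G)
    (hC : Odd (Nat.card C)) (h : ∀ x ∉ C, x * x = 1) : FSGood (C = ⊤) G := by
  classical
  have := Fintype.ofFinite G
  intro χ hχ
  have hcard : (Nat.card G : ℂ) ≠ 0 := by exact_mod_cast Nat.card_pos.ne'
  -- the sum over `C`
  have hsq : Function.Bijective (fun c : C => c * c) := by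
    rw [← Finite.injective_iff_bijective]
    intro a b hab
    have hab' : a ^ 2 = b ^ 2 := by
      rw [pow_two, pow_two]
      exact hab
    have hco : (Nat.card C).Coprime 2 := (Nat.coprime_two_right).2 hC
    exact (powCoprime hco).injective hab'
  obtain ⟨n, hn⟩ := Blocks.ReynoldsAux.exists_nat_sum_comp C.subtype (isIrr_isCharacter hχ)
  obtain ⟨d, hd, hd1⟩ := isIrr_apply_one hχ
  have h1 : ∑ s : G, χ (s * s) =
      ((n + (Finset.univ.filter (fun s : G => ¬ s ∈ C)).card * d : ℕ) : ℂ) := by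
    rw [← Finset.sum_filter_add_sum_filter_not Finset.univ (fun s : G => s ∈ C), Nat.cast_add]
    congr 1
    · rw [← hn]
      rw [Finset.sum_subtype (Finset.univ.filter (fun s : G => s ∈ C))
        (p := fun s : G => s ∈ C) (fun x => by simp) (fun s : G => χ (s * s))]
      exact (Fintype.sum_bijective (fun c : C => c * c) hsq
        (fun c : C => χ ((c : G) * (c : G))) (fun c : C => χ (C.subtype c)) (fun c => rfl))
    · rw [Finset.sum_congr rfl (g := fun _ => (d : ℂ)), Finset.sum_const, nsmul_eq_mul]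
      · push_cast
        rfl
      · intro x hx
        rw [h x (Finset.mem_filter.1 hx).2, hd1]
  have h2 : (Nat.card G : ℂ) * fsi χ =
      ((n + (Finset.univ.filter (fun s : G => ¬ s ∈ C)).card * d : ℕ) : ℂ) := by
    rw [fsi_eq_sum, ← mul_assoc, mul_inv_cancel₀ hcard, one_mul, h1]
  rcases fsi_cases hχ with h3 | h3 | h3
  · right
    refine ⟨?_, h3⟩
    rw [h3, mul_zero] at h2
    have h4 : n + (Finset.univ.filter (fun s : G => ¬ s ∈ C)).card * d = 0 := by
      exact_mod_cast h2.symm
    have h5 : (Finset.univ.filter (fun s : G => ¬ s ∈ C)).card = 0 := by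
      rcases Nat.mul_eq_zero.1 (Nat.eq_zero_of_add_eq_zero_left h4) with h6 | h6
      · exact h6
      · exact absurd h6 hd.ne'
    rw [Finset.card_eq_zero] at h5
    rw [eq_top_iff]
    intro x _
    by_contra hx
    have : x ∈ Finset.univ.filter (fun s : G => ¬ s ∈ C) :=
      Finset.mem_filter.2 ⟨Finset.mem_univ _, hx⟩
    rw [h5] at this
    exact absurd this (Finset.notMem_empty x)
  · exact Or.inl h3
  · exfalso
    rw [h3] at h2
    have h4 : ((Nat.card G + (n + (Finset.univ.filter (fun s : G => ¬ s ∈ C)).card * d) : ℕ) : ℂ)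
        = 0 := by
      rw [Nat.cast_add, ← h2]
      ring
    have h5 : Nat.card G + (n + (Finset.univ.filter (fun s : G => ¬ s ∈ C)).card * d) = 0 := by
      exact_mod_cast h4
    exact absurd (Nat.eq_zero_of_add_eq_zero_right h5) Nat.card_pos.ne'

end Cfsg.Agent.H955.FS
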