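import Cfsg.Agent.H955.FSClifford
import Cfsg.Agent.H955.FSBase
import Cfsg.Agent.H696.OddIndex
import Cfsg.Agent.H597.Base
import Cfsg.Agent.CharactersDeep.AbelianQuotient
import Cfsg.Agent.CharactersDeep.MaxInduced
import Cfsg.Agent.HKS.CosetTwo

/-!
# Indicators over a real invariant character with a generalised dihedral quotient

`dihedral_ext` : `N ≤ H` normal in `X`, `|X : H| = 2`, `H / N` abelian of odd order, inverted by
`X ∖ H`; the indicators of `X` over a real invariant irreducible character of `N` are `1` if this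
holds for a subgroup `B` of `X` with `B ∩ H = N`, `B` not contained in `H`.
-/

set_option autoImplicit false
set_option linter.style.haveILetI false
set_option linter.unusedVariables false

universe u

namespace Cfsg.Agent.H955.FS

open Cfsg QuadraticMap
open Cfsg.Agent.LieClassical.OrthCore
open Cfsg.Agent.Characters.Core
open scoped ComplexConjugate

/-- Transitivity of constituents. -/
theorem constituent_trans {H N : Type*} [Group H] [Fintype H] [Group N] [Fintype N] (j : N →* H)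
    {α θ : H → ℂ} (hα : IsCharacter H α) (hθ : IsIrrCharacter H θ) {ψ : N → ℂ}
    (hψ : IsIrrCharacter N ψ) (h1 : classInner α θ ≠ 0)
    (h2 : classInner (fun n => θ (j n)) ψ ≠ 0) : classInner (fun n => α (j n)) ψ ≠ 0 := by
  classical
  have := finite_irr (G := H)
  have := Fintype.ofFinite (IrrCharacter H)
  obtain ⟨c, rfl⟩ := exists_nat_comb hα
  choose k hk using fun η : IrrCharacter H =>
    classInner_isNat (isCharacter_comp j (isIrr_isCharacter η.2)) (isIrr_isCharacter hψ)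
  have h3 : (fun n => (∑ η : IrrCharacter H, c η • (η : H → ℂ)) (j n)) =
      ∑ η : IrrCharacter H, c η • ((η : H → ℂ) ∘ j) := by
    funext n
    rw [Finset.sum_apply, Finset.sum_apply]
    rfl
  rw [h3, classInner_sum_left]
  have h4 : ∀ η : IrrCharacter H, classInner (c η • ((η : H → ℂ) ∘ j)) ψ = ((c η * k η : ℕ) : ℂ) := by
    intro η
    rw [← Nat.cast_smul_eq_nsmul ℂ, classInner_smul_left, hk, Nat.cast_mul]
  simp_rw [h4]
  rw [← Nat.cast_sum]
  refine Nat.cast_ne_zero.2 ?_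
  have h5 : c ⟨θ, hθ⟩ * k ⟨θ, hθ⟩ ≠ 0 := by
    refine mul_ne_zero ?_ ?_
    · intro h0
      apply h1
      have h6 := classInner_sum_nsmul_irr c ⟨θ, hθ⟩
      rw [h0, Nat.cast_zero] at h6
      exact h6
    · intro h0
      apply h2
      have := hk ⟨θ, hθ⟩
      rw [h0, Nat.cast_zero] at this
      exact this
  intro h0
  exact h5 ((Finset.sum_eq_zero_iff.1 h0) ⟨θ, hθ⟩ (Finset.mem_univ _))

/-- The restriction of a character over an invariant character. -/
theorem restrict_of_inv {G : Type*} [Group G] [Fintype G] (N : Subgroup G) [hN : N.Normal]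
    [Fintype N] {Ψ : N → ℂ} (hΨ : IsIrrCharacter N Ψ)
    (hinv : ∀ (x : G) (n : N), Ψ ⟨x * n * x⁻¹, hN.conj_mem n n.2 x⟩ = Ψ n) {χ : G → ℂ}
    (hχ : IsIrrCharacter G χ) (h : classInner (fun n : N => χ n) Ψ ≠ 0) (n : N) :
    χ n = classInner (fun n : N => χ n) Ψ * Ψ n := by
  have h1 := Cfsg.Agent.H696.OddIndex.restrict_eq N hχ hΨ h n
  have h2 : Cfsg.Agent.H696.OddIndex.Phi N Ψ n = Nat.card G * Ψ n := by
    unfold Cfsg.Agent.H696.OddIndex.Phi
    simp_rw [hinv]
    rw [Finset.sum_const, Finset.card_univ, ← Nat.card_eq_fintype_card, nsmul_eq_mul]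
  have h3 : (Cfsg.Agent.H696.OddIndex.stab N Ψ : ℂ) = Nat.card G := by
    unfold Cfsg.Agent.H696.OddIndex.stab
    congr 1
    exact Nat.card_congr (Equiv.subtypeUnivEquiv fun g n => hinv g n)
  rw [h2, h3] at h1
  have hG : (Nat.card G : ℂ) ≠ 0 := card_ne_zero_complex
  rw [h1]
  unfold Cfsg.Agent.H696.OddIndex.mult
  field_simp

theorem classInner_comp_equiv {A B : Type*} [Group A] [Group B] [Fintype A] [Fintype B]
    (e : A ≃* B) (f g : B → ℂ) : classInner (fun a => f (e a)) (fun a => g (e a)) = classInner f g := by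
  rw [classInner_def, classInner_def, Nat.card_congr e.toEquiv]
  congr 1
  exact Fintype.sum_equiv e.toEquiv _ _ fun x => rfl

section dihedral

variable {X : Type u} [Group X] [Fintype X] (N H : Subgroup X) [hN : N.Normal] [hHn : H.Normal]
  [Fintype N] [Fintype H]

/-- The irreducible characters of `H` above the real invariant character of `N`. -/
theorem over_real (hNH : N ≤ H) (hodd : Odd (N.relIndex H))
    (hab : ∀ a ∈ H, ∀ b ∈ H, a * b * a⁻¹ * b⁻¹ ∈ N)
    (hinv : ∀ x ∉ H, ∀ h ∈ H, x * h * x⁻¹ * h ∈ N)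
    {Ψ : N → ℂ} (hΨ : IsIrrCharacter N Ψ) (hreal : ∀ n, (Ψ n).im = 0)
    (hΨinv : ∀ (x : X) (n : N), Ψ ⟨x * n * x⁻¹, hN.conj_mem n n.2 x⟩ = Ψ n)
    {θ : H → ℂ} (hθ : IsIrrCharacter H θ)
    (hover : classInner (fun n : N => θ ⟨n, hNH n.2⟩) Ψ ≠ 0) :
    (∀ n : N, θ ⟨n, hNH n.2⟩ = Ψ n) ∧
    ∀ x ∉ H, ∀ h : H, θ ⟨x * h * x⁻¹, hHn.conj_mem h h.2 x⟩ = conj (θ h) := by
  classical
  let e : N.subgroupOf H ≃* N := Subgroup.subgroupOfEquivOfLe hNH
  let ΨH : N.subgroupOf H → ℂ := fun n => Ψ (e n)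
  have hΨH : IsIrrCharacter (N.subgroupOf H) ΨH := isIrr_comp (e : N.subgroupOf H →* N) e.surjective hΨ
  have hrealH : ∀ n, (ΨH n).im = 0 := fun n => hreal _
  have hinn : ∀ f : H → ℂ, classInner (fun n : N.subgroupOf H => f n) ΨH =
      classInner (fun n : N => f ⟨n, hNH n.2⟩) Ψ := fun f =>
    classInner_comp_equiv e (fun n : N => f ⟨n, hNH n.2⟩) Ψ
  obtain ⟨χ₁, ⟨hr₁, hm₁⟩, huniq⟩ :=
    Cfsg.Agent.H696.OddIndex.existsUnique_real (N.subgroupOf H) hodd hΨH hrealH
  obtain ⟨-, hm₁'⟩ := Cfsg.Agent.H696.OddIndex.indicator_real (N.subgroupOf H) hodd hΨH hrealH χ₁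
    hr₁ hm₁
  have hΨHinv : ∀ (x : H) (n : N.subgroupOf H),
      ΨH ⟨x * n * x⁻¹, Subgroup.Normal.conj_mem inferInstance (n : H) n.2 x⟩ = ΨH n := fun x n =>
    hΨinv x (e n)
  have hext : ∀ n : N.subgroupOf H, (χ₁ : H → ℂ) n = ΨH n := by
    intro n
    have h1 := restrict_of_inv (N.subgroupOf H) hΨH hΨHinv χ₁.2 hm₁ n
    unfold Cfsg.Agent.H696.OddIndex.mult at hm₁'
    rw [hm₁', one_mul] at h1
    exact h1
  -- invariance of the extension
  have hinvχ : ∀ x : X, ∀ h : H, (χ₁ : H → ℂ) ⟨x * h * x⁻¹, hHn.conj_mem h h.2 x⟩ = (χ₁ : H → ℂ) h := by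
    intro x
    have h1 : IsIrrCharacter H (fun h : H => (χ₁ : H → ℂ) ⟨x * h * x⁻¹, hHn.conj_mem h h.2 x⟩) :=
      isIrr_comp ((MulAut.conjNormal x : MulAut H) : H →* H)
        (MulAut.conjNormal x : MulAut H).surjective χ₁.2
    have h2 := huniq ⟨_, h1⟩ ⟨fun g => hr₁ _, by
      unfold Cfsg.Agent.H696.OddIndex.mult
      have h3 : (fun n : N.subgroupOf H => (χ₁ : H → ℂ) ⟨x * (n : H) * x⁻¹,
          hHn.conj_mem (n : H) (n : H).2 x⟩) = ΨH := by
        funext n
        have h4 : (x * ((n : H) : X) * x⁻¹) ∈ N := hN.conj_mem _ (Subgroup.mem_subgroupOf.1 n.2) x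
        have h5 := hext ⟨⟨x * (n : H) * x⁻¹, hHn.conj_mem (n : H) (n : H).2 x⟩,
          Subgroup.mem_subgroupOf.2 h4⟩
        rw [h5]
        exact hΨinv x (e n)
      show classInner (fun n : N.subgroupOf H => (χ₁ : H → ℂ) ⟨x * (n : H) * x⁻¹,
          hHn.conj_mem (n : H) (n : H).2 x⟩) ΨH ≠ 0
      rw [h3, classInner_irr_self hΨH]
      exact one_ne_zero⟩
    intro h
    exact congrFun (congrArg Subtype.val h2) h
  -- `θ` is a linear multiple of the extension
  obtain ⟨Λ, hΛ, -, hin, hout⟩ :=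
    Cfsg.Agent.CharactersDeep.AbelianQuotient.exists_linear_dual (N.subgroupOf H)
      (fun x y => Subgroup.mem_subgroupOf.2 (hab x x.2 y y.2))
  have hidx : ((N.subgroupOf H).index : ℂ) ≠ 0 :=
    Nat.cast_ne_zero.2 Subgroup.index_ne_zero_of_finite
  obtain ⟨l, hl, hθl⟩ : ∃ l ∈ Λ, θ = (fun g => (l g : ℂ)) * (χ₁ : H → ℂ) := by
    by_contra hcon
    push Not at hcon
    have h1 : ∀ l ∈ Λ, classInner θ ((fun g => (l g : ℂ)) * (χ₁ : H → ℂ)) = 0 := fun l hl =>
      classInner_irr_ne hθ (Cfsg.Agent.CharactersDeep.AbelianQuotient.isIrr_linear_mul l χ₁.2)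
        (hcon l hl)
    have h2 : ∑ l ∈ Λ, classInner θ ((fun g => (l g : ℂ)) * (χ₁ : H → ℂ)) = 0 :=
      Finset.sum_eq_zero h1
    have h3 : ∑ l ∈ Λ, classInner θ ((fun g => (l g : ℂ)) * (χ₁ : H → ℂ)) =
        (Nat.card H : ℂ)⁻¹ * ∑ g : H, θ g * conj ((χ₁ : H → ℂ) g) *
          conj (∑ l ∈ Λ, (l g : ℂ)) := by
      simp_rw [classInner_def]
      rw [← Finset.mul_sum, Finset.sum_comm]
      congr 1
      refine Finset.sum_congr rfl fun g _ => ?_
      rw [map_sum, Finset.mul_sum]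
      refine Finset.sum_congr rfl fun l _ => ?_
      rw [Pi.mul_apply, map_mul]
      ring
    have h4 : ∑ g : H, θ g * conj ((χ₁ : H → ℂ) g) * conj (∑ l ∈ Λ, (l g : ℂ)) =
        ∑ n : N.subgroupOf H, θ n * conj (ΨH n) * (N.subgroupOf H).index := by
      rw [← CharactersDeep.NormalInd.sum_extendByZero (N.subgroupOf H)]
      refine Finset.sum_congr rfl fun g _ => ?_
      by_cases hg : g ∈ N.subgroupOf H
      · rw [hin g hg, Complex.conj_natCast, CharactersDeep.NormalInd.extendByZero_of_mem _ _ hg,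
          ← hext]
      · rw [hout g hg, map_zero, mul_zero, CharactersDeep.NormalInd.extendByZero_of_not_mem _ _ hg]
    rw [h3, h4, ← Finset.sum_mul] at h2
    apply hover
    rw [← hinn, classInner_def]
    rcases mul_eq_zero.1 h2 with h5 | h5
    · exact absurd h5 (inv_ne_zero card_ne_zero_complex)
    · rw [(mul_eq_zero.1 h5).resolve_right hidx, mul_zero]
  have hl1 : ∀ n ∈ N.subgroupOf H, l n = 1 := (hΛ l).1 hl
  refine ⟨fun n => ?_, fun x hx h => ?_⟩
  · rw [hθl, Pi.mul_apply]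
    have h1 : (⟨n, hNH n.2⟩ : H) ∈ N.subgroupOf H := Subgroup.mem_subgroupOf.2 n.2
    rw [hl1 _ h1, Units.val_one, one_mul]
    exact hext ⟨_, h1⟩
  · rw [hθl, Pi.mul_apply, Pi.mul_apply, hinvχ, map_mul, Complex.conj_eq_iff_im.2 (hr₁ h)]
    congr 1
    have h1 : (⟨x * h * x⁻¹, hHn.conj_mem h h.2 x⟩ : H) * h ∈ N.subgroupOf H :=
      Subgroup.mem_subgroupOf.2 (hinv x hx h h.2)
    have h2 := hl1 _ h1
    rw [map_mul] at h2
    have h3 := congrArg Units.val h2
    rw [Units.val_mul, Units.val_one] at h3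
    have h4 := Cfsg.Agent.CharactersDeep.AbelianQuotient.hom_mul_conj l h
    have h5 : (l h : ℂ) ≠ 0 := Units.ne_zero _
    apply mul_right_cancel₀ h5
    rw [h3, mul_comm, h4]

end dihedral

/-- norm of a natural combination -/
theorem classInner_nat_comb {H : Type*} [Group H] [Fintype H] [Fintype (IrrCharacter H)]
    (c : IrrCharacter H → ℕ) :
    classInner (∑ η : IrrCharacter H, c η • (η : H → ℂ)) (∑ η : IrrCharacter H, c η • (η : H → ℂ)) =
      ((∑ η : IrrCharacter H, c η ^ 2 : ℕ) : ℂ) := by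
  have h1 := classInner_sum_smul_sum_smul (G := H) (fun η => (c η : ℂ)) (fun η => (c η : ℂ))
  simp only [Nat.cast_smul_eq_nsmul] at h1
  rw [h1]
  push_cast
  refine Finset.sum_congr rfl fun η _ => ?_
  rw [Complex.conj_natCast, pow_two]

/-- The constituents of the restriction of a character above an invariant character. -/
theorem over_of_constituent {X : Type u} [Group X] [Fintype X] (N K : Subgroup X) [hN : N.Normal]
    [Fintype N] [Fintype K] (hNK : N ≤ K) {Ψ : N → ℂ} (hΨ : IsIrrCharacter N Ψ) {χ : X → ℂ}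
    (hχ : IsIrrCharacter X χ) {e : ℂ} (he : ∀ n : N, χ n = e * Ψ n) {θ : K → ℂ}
    (hθ : IsIrrCharacter K θ) (h1 : classInner (fun h : K => χ h) θ ≠ 0) :
    classInner (fun n : N => θ ⟨n, hNK n.2⟩) Ψ ≠ 0 := by
  have hθN : IsCharacter N (fun n : N => θ ⟨n, hNK n.2⟩) :=
    isCharacter_comp (Subgroup.inclusion hNK) (isIrr_isCharacter hθ)
  obtain ⟨ψ, hψ, h2⟩ := Cfsg.Agent.H597.Base.exists_constituent hθN (isIrr_apply_one_ne_zero hθ)
  have h3 := constituent_trans (Subgroup.inclusion hNK) (α := fun h : K => χ h)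
    (isCharacter_comp K.subtype (isIrr_isCharacter hχ)) hθ hψ h1 h2
  by_cases hψΨ : ψ = Ψ
  · rwa [hψΨ] at h2
  · exfalso
    apply h3
    have h4 : (fun n : N => χ ((Subgroup.inclusion hNK n : K) : X)) = e • Ψ := by
      funext n
      exact he n
    rw [h4, classInner_smul_left, classInner_irr_ne hΨ hψ (fun h => hψΨ h.symm), mul_zero]

theorem dihedral_ext {X : Type u} [Group X] [Finite X] (N H B : Subgroup X) [hN : N.Normal]
    [H.Normal] (hNH : N ≤ H) (hNB : N ≤ B) (hH : H.index = 2) (hodd : Odd (N.relIndex H))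
    (hBN : B ⊓ H = N) (hBH : ¬ B ≤ H) (hab : ∀ a ∈ H, ∀ b ∈ H, a * b * a⁻¹ * b⁻¹ ∈ N)
    (hinv : ∀ x ∉ H, ∀ h ∈ H, x * h * x⁻¹ * h ∈ N) {Ψ : N → ℂ} (hΨ : IsIrrCharacter N Ψ)
    (hreal : ∀ n, (Ψ n).im = 0)
    (hΨinv : ∀ (x : X) (n : N), Ψ ⟨x * n * x⁻¹, hN.conj_mem n n.2 x⟩ = Ψ n)
    (hB : ∀ η : B → ℂ, IsIrrCharacter B η → ∑ᶠ n : N, η ⟨n, hNB n.2⟩ * Ψ n ≠ 0 → fsi η = 1)
    {χ : X → ℂ} (hχ : IsIrrCharacter X χ) (hover : ∑ᶠ n : N, χ n * Ψ n ≠ 0) : fsi χ = 1 := by
  classical
  have := Fintype.ofFinite X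
  have := Fintype.ofFinite N
  have := Fintype.ofFinite H
  have := Fintype.ofFinite B
  have hΨc : ∀ n, conj (Ψ n) = Ψ n := fun n => Complex.conj_eq_iff_im.2 (hreal n)
  have hinn : ∀ f : N → ℂ, (classInner f Ψ ≠ 0 ↔ ∑ᶠ n : N, f n * Ψ n ≠ 0) := by
    intro f
    rw [finsum_eq_sum_of_fintype, classInner_def]
    simp_rw [hΨc]
    constructor
    · intro h h0
      exact h (by rw [h0, mul_zero])
    · intro h
      exact mul_ne_zero (inv_ne_zero card_ne_zero_complex) h
  have hcon : classInner (fun n : N => χ n) Ψ ≠ 0 := (hinn _).2 hover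
  set e := classInner (fun n : N => χ n) Ψ with he
  have hres : ∀ n : N, χ n = e * Ψ n := restrict_of_inv N hΨ hΨinv hχ hcon
  have hB' : ∀ η : B → ℂ, IsIrrCharacter B η → classInner (fun b : B => χ b) η ≠ 0 → fsi η = 1 :=
    fun η hη h1 => hB η hη ((hinn _).1 (over_of_constituent N B hNB hΨ hχ hres hη h1))
  have hchH : IsCharacter H (fun h : H => χ h) := isCharacter_comp H.subtype (isIrr_isCharacter hχ)
  have hchB : IsCharacter B (fun h : B => χ h) := isCharacter_comp B.subtype (isIrr_isCharacter hχ)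
  have hcl : ∀ θ : H → ℂ, IsIrrCharacter H θ → classInner (fun h : H => χ h) θ ≠ 0 →
      (∀ n : N, θ ⟨n, hNH n.2⟩ = Ψ n) ∧
      ∀ x ∉ H, ∀ h : H, θ ⟨x * h * x⁻¹, Subgroup.Normal.conj_mem inferInstance (h : X) h.2 x⟩ =
        conj (θ h) :=
    fun θ hθ h1 => over_real N H hNH hodd hab hinv hΨ hreal hΨinv hθ
      (over_of_constituent N H hNH hΨ hχ hres hθ h1)
  obtain ⟨b, hbB, hbH⟩ : ∃ b ∈ B, b ∉ H := by
    by_contra hc
    push Not at hc
    exact hBH hc
  -- decomposition of the restriction to `H`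
  have := finite_irr (G := H)
  have := Fintype.ofFinite (IrrCharacter H)
  obtain ⟨c, hc⟩ := exists_nat_comb hchH
  have hcin : ∀ η : IrrCharacter H, classInner (fun h : H => χ h) (η : H → ℂ) = c η := by
    intro η
    rw [hc, classInner_sum_nsmul_irr]
  have hcη : ∀ η : IrrCharacter H, c η ≠ 0 → classInner (fun h : H => χ h) (η : H → ℂ) ≠ 0 := by
    intro η h0
    rw [hcin]
    exact Nat.cast_ne_zero.2 h0
  have happ : ∀ h : H, χ h = ∑ η : IrrCharacter H, (c η : ℂ) * (η : H → ℂ) h := by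
    intro h
    have h1 := congrFun hc h
    rw [Finset.sum_apply] at h1
    rw [h1]
    refine Finset.sum_congr rfl fun η _ => ?_
    rw [Pi.smul_apply, nsmul_eq_mul]
  have hrealH : ∀ h : H, (χ h).im = 0 := by
    intro h
    rw [← Complex.conj_eq_iff_im]
    have h1 : χ (b * h * b⁻¹) = χ h := isIrr_isClassFunction hχ h b
    have h2 := happ ⟨b * h * b⁻¹, Subgroup.Normal.conj_mem inferInstance (h : X) h.2 b⟩
    rw [← h1]
    nth_rewrite 2 [h2]
    rw [h1, happ h, map_sum]
    refine Finset.sum_congr rfl fun η _ => ?_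
    rw [map_mul, Complex.conj_natCast]
    by_cases h0 : c η = 0
    · rw [h0, Nat.cast_zero, zero_mul, zero_mul]
    · rw [(hcl η η.2 (hcη η h0)).2 b hbH h]
  by_cases hI : ∃ y, y ∉ H ∧ χ y ≠ 0
  · obtain ⟨y, hy, hy0⟩ := hI
    have hχH := Cfsg.Agent.HKS.CosetTwo.isIrr_restrict hH hχ hy hy0
    have hχN : ∀ n : N, χ n = Ψ n := (hcl _ hχH (by
      rw [classInner_irr_self hχH]
      exact one_ne_zero)).1
    have hχB : IsIrrCharacter B (fun b : B => χ b) := by
      refine Cfsg.Agent.CharactersDeep.MaxInduced.isIrr_of_comp (Subgroup.inclusion hNB) hchB ?_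
      have h1 : ((fun b : B => χ b) ∘ (Subgroup.inclusion hNB)) = Ψ := funext hχN
      rw [h1]
      exact hΨ
    have h1 : classInner (fun b : B => χ b) (fun b : B => χ b) = 1 := classInner_irr_self hχB
    have hfs := hB' _ hχB (by rw [h1]; exact one_ne_zero)
    have hrB := real_of_fsi_ne_zero hχB (by rw [hfs]; exact one_ne_zero)
    have hχr : ∀ g : X, (χ g).im = 0 := by
      intro g
      by_cases hg : g ∈ H
      · exact hrealH ⟨g, hg⟩
      have hbg : b⁻¹ * g ∈ H := by
        rw [Subgroup.mul_mem_iff_of_index_two hH, inv_mem_iff]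
        exact ⟨fun h => absurd h hbH, fun h => absurd h hg⟩
      obtain ⟨r, hr⟩ := hodd
      set k := b⁻¹ * g with hk
      have hkm : k ^ (2 * r + 1) ∈ N := by
        have h2 := Subgroup.pow_index_mem (N.subgroupOf H) (⟨k, hbg⟩ : H)
        rw [show (N.subgroupOf H).index = 2 * r + 1 from hr] at h2
        exact Subgroup.mem_subgroupOf.1 h2
      have hh : k ^ (r + 1) ∈ H := pow_mem hbg _
      have hconj : k ^ (r + 1) * g * (k ^ (r + 1))⁻¹ ∈ B := by
        have h3 : k ^ (r + 1) * g * (k ^ (r + 1))⁻¹ =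
            b * ((b⁻¹ * k ^ (r + 1) * b⁻¹⁻¹ * k ^ (r + 1)) * (k ^ (2 * r + 1))⁻¹) := by
          have h4 : g = b * k := by rw [hk]; group
          rw [h4]
          have h5 : (k ^ (2 * r + 1))⁻¹ = (k ^ (r + 1))⁻¹ * k * (k ^ (r + 1))⁻¹ := by
            have h6 : k ^ (2 * r + 1) * k = k ^ (r + 1) * k ^ (r + 1) := by
              rw [← pow_succ, ← pow_add]
              congr 1
              ring
            rw [inv_eq_iff_mul_eq_one, ← mul_assoc, ← mul_assoc]
            have h7 : k ^ (2 * r + 1) * (k ^ (r + 1))⁻¹ = (k ^ (r + 1))⁻¹ * k ^ (2 * r + 1) :=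
              (((Commute.refl k).pow_pow _ _).inv_right).eq
            rw [h7, mul_assoc ((k ^ (r + 1))⁻¹), h6]
            group
          rw [h5]
          group
        rw [h3]
        refine mul_mem hbB (hNB (mul_mem (hinv b⁻¹ (fun h => hbH (by simpa using inv_mem h)) _ hh)
          (inv_mem hkm)))
      have h6 : χ (k ^ (r + 1) * g * (k ^ (r + 1))⁻¹) = χ g := isIrr_isClassFunction hχ g _
      rw [← h6]
      exact hrB ⟨_, hconj⟩
    rw [fsi_eq_sum]
    refine Cfsg.Agent.H705.Indicator.indicator_restrict B.subtype hχ hχr hχB ?_ h1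
    rw [fsi_eq_sum] at hfs
    exact hfs
  · push Not at hI
    have hχr : ∀ g : X, (χ g).im = 0 := by
      intro g
      by_cases hg : g ∈ H
      · exact hrealH ⟨g, hg⟩
      · rw [hI g hg, Complex.zero_im]
    -- the degree is `2 Ψ(1)`
    have hn2 := Cfsg.Agent.CharactersDeep.AbelianQuotient.classInner_restrict_self_of_vanish H hχ hI
    rw [hH, hc, classInner_nat_comb] at hn2
    have hn3 : ∑ η : IrrCharacter H, c η ^ 2 = 2 := by exact_mod_cast hn2
    have hsum : ∑ η : IrrCharacter H, c η = 2 := by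
      have h1 : ∑ η : IrrCharacter H, c η ≤ ∑ η : IrrCharacter H, c η ^ 2 :=
        Finset.sum_le_sum fun η _ => Nat.le_self_pow two_ne_zero _
      have h2 : (∑ η : IrrCharacter H, c η) % 2 = (∑ η : IrrCharacter H, c η ^ 2) % 2 := by
        rw [Finset.sum_nat_mod, Finset.sum_nat_mod (f := fun η => c η ^ 2)]
        congr 1
        refine Finset.sum_congr rfl fun η _ => ?_
        rcases Nat.even_or_odd (c η) with h | h
        · rw [Nat.even_iff.1 h, Nat.even_iff.1 (h.pow_of_ne_zero two_ne_zero)]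
        · rw [Nat.odd_iff.1 h, Nat.odd_iff.1 h.pow]
      have h3 : ∑ η : IrrCharacter H, c η ≠ 0 := by
        intro h0
        have h4 : ∀ η, c η = 0 := fun η => (Finset.sum_eq_zero_iff.1 h0) η (Finset.mem_univ _)
        have h5 : ∑ η : IrrCharacter H, c η ^ 2 = 0 :=
          Finset.sum_eq_zero fun η _ => by rw [h4]; rfl
        omega
      omega
    have he2 : e = 2 := by
      have h1 := happ 1
      have h2 := hres 1
      have h3 : ∑ η : IrrCharacter H, (c η : ℂ) * (η : H → ℂ) 1 = 2 * Ψ 1 := by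
        have h4 : ∀ η : IrrCharacter H, (c η : ℂ) * (η : H → ℂ) 1 = (c η : ℂ) * Ψ 1 := by
          intro η
          by_cases h0 : c η = 0
          · rw [h0, Nat.cast_zero, zero_mul, zero_mul]
          · rw [← (hcl η η.2 (hcη η h0)).1 1]
            rfl
        simp_rw [h4]
        rw [← Finset.sum_mul, ← Nat.cast_sum, hsum]
        norm_num
      rw [h3] at h1
      have h5 : χ ((1 : H) : X) = χ ((1 : N) : X) := rfl
      rw [h1, h2] at h5
      exact (mul_right_cancel₀ (isIrr_apply_one_ne_zero hΨ) h5).symm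
    -- the norm of the restriction to `B`
    have hidx : N.relIndex B = 2 := by
      have h1 : H.relIndex B ∣ H.index := Subgroup.relIndex_dvd_index_of_normal H B
      rw [hH] at h1
      have h2 : N.relIndex B = H.relIndex B := by
        rw [← hBN, Subgroup.inf_relIndex_left]
      rw [h2]
      rcases (Nat.dvd_prime Nat.prime_two).1 h1 with h3 | h3
      · exact absurd (Subgroup.relIndex_eq_one.1 h3) hBH
      · exact h3
    have hcardB : (Nat.card B : ℂ) = 2 * Nat.card N := by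
      have h1 := Subgroup.card_mul_index (N.subgroupOf B)
      rw [Nat.card_congr (Subgroup.subgroupOfEquivOfLe hNB).toEquiv,
        show (N.subgroupOf B).index = 2 from hidx] at h1
      rw [← h1]
      push_cast
      ring
    have hBnorm : classInner (fun b : B => χ b) (fun b : B => χ b) = 2 := by
      rw [classInner_def]
      have h1 : ∑ g : B, χ g * conj (χ g) = ∑ n : N, 4 * (Ψ n * conj (Ψ n)) := by
        rw [← Finset.sum_subset (Finset.subset_univ
          (Finset.univ.filter fun g : B => (g : X) ∈ N))]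
        · symm
          refine Finset.sum_bij (fun n _ => (⟨n, hNB n.2⟩ : B)) (fun n _ => ?_) (fun n _ m _ h => ?_)
            (fun g hg => ?_) (fun n _ => ?_)
          · rw [Finset.mem_filter]
            exact ⟨Finset.mem_univ _, n.2⟩
          · exact Subtype.ext (congrArg (fun b : B => (b : X)) h)
          · exact ⟨⟨g, (Finset.mem_filter.1 hg).2⟩, Finset.mem_univ _, rfl⟩
          · show 4 * (Ψ n * conj (Ψ n)) = χ n * conj (χ n)
            rw [hres, he2, map_mul, Complex.conj_ofNat]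
            ring
        · intro g _ hg
          have h2 : (g : X) ∉ N := fun h => hg (Finset.mem_filter.2 ⟨Finset.mem_univ _, h⟩)
          have h3 : (g : X) ∉ H := fun h => h2 (by rw [← hBN]; exact ⟨g.2, h⟩)
          rw [hI _ h3, zero_mul]
      have h4 := classInner_irr_self hΨ
      rw [classInner_def] at h4
      have hN0 : (Nat.card N : ℂ) ≠ 0 := card_ne_zero_complex
      have h5 : ∑ n : N, Ψ n * conj (Ψ n) = Nat.card N := by
        rw [inv_mul_eq_one₀ hN0] at h4
        exact h4.symm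
      rw [h1, ← Finset.mul_sum, h5, hcardB]
      field_simp
      norm_num
    obtain ⟨η, hη, hηc⟩ := Cfsg.Agent.H597.Base.exists_constituent hchB (isIrr_apply_one_ne_zero hχ)
    have hfs := hB' η hη hηc
    have hm1 : classInner (fun b : B => χ b) η = 1 := by
      have := finite_irr (G := B)
      have := Fintype.ofFinite (IrrCharacter B)
      obtain ⟨d, hd⟩ := exists_nat_comb hchB
      have h1 : classInner (fun b : B => χ b) η = d ⟨η, hη⟩ := by
        rw [hd]
        exact classInner_sum_nsmul_irr d ⟨η, hη⟩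
      rw [hd, classInner_nat_comb] at hBnorm
      have h2 : ∑ η : IrrCharacter B, d η ^ 2 = 2 := by exact_mod_cast hBnorm
      have h3 : d ⟨η, hη⟩ ^ 2 ≤ 2 :=
        (Finset.single_le_sum (f := fun η : IrrCharacter B => d η ^ 2)
          (fun _ _ => Nat.zero_le _) (Finset.mem_univ (⟨η, hη⟩ : IrrCharacter B))).trans h2.le
      have h4 : d ⟨η, hη⟩ ≠ 0 := by
        intro h0
        apply hηc
        rw [h1, h0, Nat.cast_zero]
      have h5 : d ⟨η, hη⟩ = 1 := by nlinarith [Nat.pos_of_ne_zero h4]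
      rw [h1, h5, Nat.cast_one]
    rw [fsi_eq_sum]
    refine Cfsg.Agent.H705.Indicator.indicator_restrict B.subtype hχ hχr hη ?_ hm1
    rw [← fsi_eq_sum]
    exact hfs

end Cfsg.Agent.H955.FS
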