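import Cfsg.Agent.H233.B3.Row3

/-!
# Abstract form of the rows `Row3 2 T` of S5761 for classical groups (helper955)

`Ψ : Γ → Aut T` with image of odd index, `s : Γ → C` (field automorphisms), `B ≤ ker s` of odd relative index, `x ∈ ker s`.

* `exists_DD` : a 2-subgroup `P` of `Aut T` of odd index and `x' : T` such that `P ∩ P ^ x' ∩ Ψ (ker s)` is contained in
  the set of the `Ψ g`, `g ∈ B`, with `Ψ g ∈ Ψ (B) ^ x`;
* `row3_full` : this set is trivial and `C` is cyclic;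
* `row3_two` : `s = 1` and this set has at most two elements.
-/

set_option autoImplicit false

namespace Cfsg.Agent.H955.Sim

open Subgroup Cfsg.Agent.H233.B3 Cfsg.Agent.H903.SylMeet

section

variable {G : Type*} [Group G]

/-- a 2-subgroup `P` of `A` of odd index with `P ⊓ N = S` -/
theorem exists_P [Finite G] {A N S : Subgroup G} (hSN : S ≤ N) (hNA : N ≤ A) (hS : IsPGroup 2 S)
    (hi : ¬ 2 ∣ S.relIndex N) :
    ∃ P : Subgroup G, P ≤ A ∧ IsPGroup 2 P ∧ ¬ 2 ∣ P.relIndex A ∧ P ⊓ N = S := by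
  have hF : Fact (Nat.Prime 2) := ⟨Nat.prime_two⟩
  have hS' : IsPGroup 2 (S.subgroupOf A) := hS.comap_of_injective A.subtype A.subtype_injective
  obtain ⟨P₀, hP₀⟩ := hS'.exists_le_sylow
  have hP2 : IsPGroup 2 ((P₀ : Subgroup A).map A.subtype) := P₀.isPGroup'.map _
  refine ⟨(P₀ : Subgroup A).map A.subtype, map_subtype_le _, hP2, ?_, ?_⟩
  · have h1 : ((P₀ : Subgroup A).map A.subtype).relIndex A = (P₀ : Subgroup A).index := by
      rw [relIndex, ← comap_subtype, comap_map_eq_self_of_injective A.subtype_injective]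
    rw [h1]
    exact P₀.not_dvd_index
  · apply le_antisymm
    · have hSP : S ≤ (P₀ : Subgroup A).map A.subtype ⊓ N := by
        refine le_inf ?_ hSN
        intro x hx
        exact ⟨⟨x, hNA (hSN hx)⟩, hP₀ hx, rfl⟩
      have h1 := relIndex_mul_relIndex S ((P₀ : Subgroup A).map A.subtype ⊓ N) N hSP inf_le_right
      obtain ⟨k, hk⟩ := (hP2.to_le (inf_le_left : (P₀ : Subgroup A).map A.subtype ⊓ N ≤ _)).exists_card_eq
      have h2 : S.relIndex ((P₀ : Subgroup A).map A.subtype ⊓ N) ∣ 2 ^ k := by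
        rw [← hk]
        exact (S.subgroupOf _).index_dvd_card
      obtain ⟨j, -, hj⟩ := (Nat.dvd_prime_pow Nat.prime_two).1 h2
      have h3 : S.relIndex ((P₀ : Subgroup A).map A.subtype ⊓ N) = 1 := by
        rcases Nat.eq_zero_or_pos j with h0 | h0
        · rw [hj, h0, pow_zero]
        · exfalso
          apply hi
          rw [← h1, hj]
          exact Dvd.dvd.mul_right (dvd_pow_self 2 h0.ne') _
      exact relIndex_eq_one.1 h3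
    · refine le_inf ?_ hSN
      intro x hx
      exact ⟨⟨x, hNA (hSN hx)⟩, hP₀ hx, rfl⟩

/-- `N = T S` if `T` is normal in `N` with `N / T` a 2-group, and `S` has odd index in `N` -/
theorem exists_mul [Finite G] {T N S : Subgroup G} (hTn : ∀ n ∈ N, ∀ t ∈ T, n * t * n⁻¹ ∈ T)
    (hi : ¬ 2 ∣ S.relIndex N) (hexp : ∀ n ∈ N, n ^ 4 ∈ T) {n : G} (hn : n ∈ N) :
    ∃ t ∈ T, ∃ s ∈ S, n = t * s := by
  have hF : Fact (Nat.Prime 2) := ⟨Nat.prime_two⟩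
  have hT' : (T.subgroupOf N).Normal := ⟨fun t ht n => hTn n n.2 t ht⟩
  have h2 : IsPGroup 2 (N ⧸ T.subgroupOf N) := by
    intro x
    induction x using QuotientGroup.induction_on with
    | H x =>
      refine ⟨2, ?_⟩
      rw [← QuotientGroup.mk_pow, QuotientGroup.eq_one_iff]
      exact hexp x x.2
  obtain ⟨k, hk⟩ := h2.exists_card_eq
  have htop : T.subgroupOf N ⊔ S.subgroupOf N = ⊤ := by
    have h3 : (T.subgroupOf N ⊔ S.subgroupOf N).index ∣ 2 ^ k := by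
      rw [← hk]
      exact index_dvd_of_le le_sup_left
    have h4 : (T.subgroupOf N ⊔ S.subgroupOf N).index ∣ S.relIndex N := index_dvd_of_le le_sup_right
    obtain ⟨j, -, hj⟩ := (Nat.dvd_prime_pow Nat.prime_two).1 h3
    apply index_eq_one.1
    rcases Nat.eq_zero_or_pos j with h0 | h0
    · rw [hj, h0, pow_zero]
    · exfalso
      apply hi
      refine dvd_trans ?_ h4
      rw [hj]
      exact dvd_pow_self 2 h0.ne'
  have hmem : (⟨n, hn⟩ : N) ∈ T.subgroupOf N ⊔ S.subgroupOf N := by rw [htop]; trivial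
  rw [← SetLike.mem_coe, Subgroup.normal_mul] at hmem
  obtain ⟨t, ht, s, hs, e⟩ := Set.mem_mul.1 hmem
  exact ⟨t, ht, s, hs, (congrArg Subtype.val e).symm⟩

end

variable {T Γ C : Type*} [Group T] [Group Γ] [Group C] {Ψ : Γ →* MulAut T} {s : Γ →* C}

/-- **The intersection.** -/
theorem exists_DD [Finite T] [Finite Γ] (hodd : ¬ 2 ∣ Ψ.range.index)
    (hinn : ∀ t : T, ∃ g, s g = 1 ∧ Ψ g = MulAut.conj t) {B : Subgroup Γ} (hB : B ≤ s.ker)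
    (hBi : ¬ 2 ∣ B.relIndex s.ker) (hexp : ∀ g, s g = 1 → ∃ t : T, Ψ g ^ 4 = MulAut.conj t) {x : Γ} (hx : s x = 1) :
    ∃ P : Subgroup (MulAut T), IsPGroup 2 P ∧ ¬ 2 ∣ P.index ∧ P ≤ Ψ.range ∧ ∃ x' : T, ∀ y ∈ DD P x',
      (∃ g, Ψ g = y ∧ s g = 1) → ∃ g ∈ B, Ψ g = y ∧ ∃ g' ∈ B, Ψ g = Ψ x * Ψ g' * (Ψ x)⁻¹ := by
  have hF : Fact (Nat.Prime 2) := ⟨Nat.prime_two⟩
  obtain ⟨S₀⟩ : Nonempty (Sylow 2 B) := inferInstance
  obtain ⟨S, hSdef⟩ : ∃ S : Subgroup Γ, S = (S₀ : Subgroup B).map B.subtype := ⟨_, rfl⟩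
  have hS2 : IsPGroup 2 S := by rw [hSdef]; exact S₀.isPGroup'.map _
  have hSB : S ≤ B := by rw [hSdef]; exact map_subtype_le _
  have hSi : ¬ 2 ∣ S.relIndex s.ker := by
    rw [← relIndex_mul_relIndex S B s.ker hSB hB, Nat.Prime.dvd_mul Nat.prime_two, not_or]
    refine ⟨?_, hBi⟩
    rw [hSdef, relIndex, ← comap_subtype, comap_map_eq_self_of_injective B.subtype_injective]
    exact S₀.not_dvd_index
  -- images
  obtain ⟨N, hN⟩ : ∃ N : Subgroup (MulAut T), N = s.ker.map Ψ := ⟨_, rfl⟩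
  have hmemN : ∀ y, y ∈ N ↔ ∃ g, Ψ g = y ∧ s g = 1 := by
    intro y
    rw [hN]
    constructor
    · rintro ⟨g, hg, rfl⟩
      exact ⟨g, rfl, hg⟩
    · rintro ⟨g, rfl, hg⟩
      exact ⟨g, hg, rfl⟩
  have hSN : S.map Ψ ≤ N := by
    rw [hN]
    exact map_mono (hSB.trans hB)
  have hNA : N ≤ Ψ.range := by
    rw [hN]
    exact map_le_range _ _
  have hSi' : ¬ 2 ∣ (S.map Ψ).relIndex N := by
    intro h
    apply hSi
    refine h.trans ?_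
    rw [hN]
    -- the map `ker s → N`
    have h1 : (S.map Ψ).relIndex (s.ker.map Ψ) ∣ S.relIndex s.ker := by
      have h2 : ((S.subgroupOf s.ker).map (Ψ.subgroupMap s.ker)).index ∣ (S.subgroupOf s.ker).index :=
        index_map_dvd _ (Ψ.subgroupMap_surjective s.ker)
      have h3 : (S.subgroupOf s.ker).map (Ψ.subgroupMap s.ker) ≤ (S.map Ψ).subgroupOf (s.ker.map Ψ) := by
        rintro _ ⟨g, hg, rfl⟩
        exact ⟨g, hg, rfl⟩
      exact (index_dvd_of_le h3).trans h2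
    exact h1
  obtain ⟨P, hPA, hP2, hPi, hPN⟩ := exists_P hSN hNA (hS2.map Ψ) hSi'
  have hInn : (MulAut.conj : T →* MulAut T).range ≤ N := by
    rintro _ ⟨t, rfl⟩
    rw [hmemN]
    obtain ⟨g, hg1, hg2⟩ := hinn t
    exact ⟨g, hg2, hg1⟩
  have hInnN : ∀ n ∈ N, ∀ t ∈ (MulAut.conj : T →* MulAut T).range, n * t * n⁻¹ ∈ (MulAut.conj : T →* MulAut T).range := by
    rintro n - _ ⟨t, rfl⟩
    exact ⟨n t, (conj_apply_aut n t).symm⟩
  obtain ⟨_, ⟨t, rfl⟩, s', hs', e⟩ := exists_mul hInnN hSi' (by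
    intro n hn
    obtain ⟨g, rfl, hg⟩ := (hmemN n).1 hn
    obtain ⟨t, ht⟩ := hexp g hg
    exact ⟨t, ht.symm⟩) ((hmemN (Ψ x)).2 ⟨x, rfl, hx⟩)
  refine ⟨P, hP2, ?_, hPA, t⁻¹, ?_⟩
  · rw [← relIndex_mul_index hPA, Nat.Prime.dvd_mul Nat.prime_two, not_or]
    exact ⟨hPi, hodd⟩
  · rintro y ⟨hyP, hyP'⟩ hyN
    have hyN' := (hmemN y).2 hyN
    have h1 : y ∈ S.map Ψ := by
      rw [← hPN]
      exact ⟨hyP, hyN'⟩
    have h2 : MulAut.conj t⁻¹ * y * (MulAut.conj t⁻¹)⁻¹ ∈ S.map Ψ := by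
      rw [← hPN]
      refine ⟨hyP', ?_⟩
      have h3 : MulAut.conj t⁻¹ ∈ N := hInn ⟨_, rfl⟩
      exact N.mul_mem (N.mul_mem h3 hyN') (N.inv_mem h3)
    obtain ⟨g, hg, hgy⟩ := h1
    have h3 : s'⁻¹ * (MulAut.conj t⁻¹ * y * (MulAut.conj t⁻¹)⁻¹) * s' ∈ S.map Ψ :=
      mul_mem (mul_mem (inv_mem hs') h2) hs'
    obtain ⟨g', hg', hgy'⟩ := h3
    refine ⟨g, hSB hg, hgy, g', hSB hg', ?_⟩
    have h4 : Ψ g' = s'⁻¹ * (MulAut.conj t⁻¹ * y * (MulAut.conj t⁻¹)⁻¹) * s' := hgy'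
    have h5 : Ψ g = y := hgy
    rw [h4, e, h5, map_inv]
    group

/-- the elements of `P ∩ P ^ x` are determined by their field automorphism -/
theorem row3_full [Finite T] [IsSimpleGroup T] (hT : ¬ IsMulCommutative T) [Finite Γ] [Finite C]
    (hcyc : ∀ a b : C, a * a = 1 → b * b = 1 → a ≠ 1 → b ≠ 1 → a = b)
    (hn : ∀ Q : Subgroup T, IsPGroup 2 Q → 3 * Nat.card C < Q.index)
    (hodd : ¬ 2 ∣ Ψ.range.index) (hker : ∀ g, Ψ g = 1 → s g = 1)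
    (hinn : ∀ t : T, ∃ g, s g = 1 ∧ Ψ g = MulAut.conj t) {B : Subgroup Γ} (hB : B ≤ s.ker)
    (hBi : ¬ 2 ∣ B.relIndex s.ker) (hexp : ∀ g, s g = 1 → ∃ t : T, Ψ g ^ 4 = MulAut.conj t) {x : Γ} (hx : s x = 1)
    (hK : ∀ g ∈ B, ∀ g' ∈ B, Ψ g = Ψ x * Ψ g' * (Ψ x)⁻¹ → Ψ g = 1) : Row3 2 T := by
  have hF : Fact (Nat.Prime 2) := ⟨Nat.prime_two⟩
  obtain ⟨P, hP2, hPi, hPA, x', hx'⟩ := exists_DD hodd hinn hB hBi hexp hx
  refine row3_of_index P hP2 hPi ?_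
  have h1 : ∀ y ∈ DD P x', (∃ g, Ψ g = y ∧ s g = 1) → y = 1 := by
    intro y hy h
    obtain ⟨g, hg, rfl, g', hg', e⟩ := hx' y hy h
    exact hK g hg g' hg' e
  have hpre : ∀ y : DD P x', ∃ g, Ψ g = y := fun y => hPA y.2.1
  choose f hf using hpre
  have hfd : ∀ y y' : DD P x', s (f y) = s (f y') → y = y' := by
    intro y y' h
    have h2 : (y : MulAut T)⁻¹ * y' = 1 := by
      refine h1 _ (mul_mem (inv_mem y.2) y'.2) ⟨(f y)⁻¹ * f y', ?_, ?_⟩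
      · rw [map_mul, map_inv, hf, hf]
      · rw [map_mul, map_inv, h, inv_mul_cancel]
    exact Subtype.ext (inv_mul_eq_one.1 h2)
  have hcard : Nat.card (DD P x') ≤ Nat.card C :=
    Nat.card_le_card_of_injective (fun y => s (f y)) fun y y' h => hfd y y' h
  refine g3_of_one hT hP2 x' ?_ (lt_of_le_of_lt (Nat.mul_le_mul_left 3 hcard) (hn _ (inn_pgroup hT hP2)))
  intro y hy y' hy' h2 h2' h3 h3'
  have key : ∀ z : DD P x', (z : MulAut T) * z = 1 → (z : MulAut T) ≠ 1 → s (f z) * s (f z) = 1 ∧ s (f z) ≠ 1 := by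
    intro z hz hz1
    refine ⟨?_, fun h => hz1 (h1 z z.2 ⟨f z, hf z, h⟩)⟩
    rw [← map_mul]
    apply hker
    rw [map_mul, hf, hz]
  obtain ⟨k1, k2⟩ := key ⟨y, hy⟩ h2 h3
  obtain ⟨k1', k2'⟩ := key ⟨y', hy'⟩ h2' h3'
  exact congrArg Subtype.val (hfd _ _ (hcyc _ _ k1 k1' k2 k2'))

/-- no field automorphisms -/
theorem exists_DD' [Finite T] [Finite Γ] (hs : ∀ g, s g = 1) (hodd : ¬ 2 ∣ Ψ.range.index)
    (hinn : ∀ t : T, ∃ g, s g = 1 ∧ Ψ g = MulAut.conj t) {B : Subgroup Γ} (hB : B ≤ s.ker)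
    (hBi : ¬ 2 ∣ B.relIndex s.ker) (hexp : ∀ g, s g = 1 → ∃ t : T, Ψ g ^ 4 = MulAut.conj t) {x : Γ} {K : Set (MulAut T)}
    (hK : ∀ g ∈ B, ∀ g' ∈ B, Ψ g = Ψ x * Ψ g' * (Ψ x)⁻¹ → Ψ g ∈ K) :
    ∃ P : Subgroup (MulAut T), IsPGroup 2 P ∧ ¬ 2 ∣ P.index ∧ ∃ x' : T, ∀ y ∈ DD P x', y ∈ K := by
  obtain ⟨P, hP2, hPi, hPA, x', hx'⟩ := exists_DD hodd hinn hB hBi hexp (hs x)
  refine ⟨P, hP2, hPi, x', fun y hy => ?_⟩
  obtain ⟨g₀, hg₀⟩ := hPA hy.1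
  obtain ⟨g, hg, rfl, g', hg', e⟩ := hx' y hy ⟨g₀, hg₀, hs g₀⟩
  exact hK g hg g' hg' e

/-- no field automorphisms, at most two elements -/
theorem row3_two [Finite T] [IsSimpleGroup T] (hT : ¬ IsMulCommutative T) [Finite Γ] (hs : ∀ g, s g = 1)
    (hodd : ¬ 2 ∣ Ψ.range.index)
    (hinn : ∀ t : T, ∃ g, s g = 1 ∧ Ψ g = MulAut.conj t) {B : Subgroup Γ} (hB : B ≤ s.ker)
    (hBi : ¬ 2 ∣ B.relIndex s.ker) (hexp : ∀ g, s g = 1 → ∃ t : T, Ψ g ^ 4 = MulAut.conj t) {x : Γ} {r : MulAut T}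
    (hK : ∀ g ∈ B, ∀ g' ∈ B, Ψ g = Ψ x * Ψ g' * (Ψ x)⁻¹ → Ψ g = 1 ∨ Ψ g = r) : Row3 2 T := by
  have hF : Fact (Nat.Prime 2) := ⟨Nat.prime_two⟩
  obtain ⟨P, hP2, hPi, x', hx'⟩ := exists_DD' (K := {1, r}) hs hodd hinn hB hBi hexp hK
  refine row3_of_index P hP2 hPi (g3_of_two hT hP2 x' ?_)
  have h1 : ((DD P x' : Subgroup (MulAut T)) : Set (MulAut T)) ⊆ {1, r} := hx'
  have h2 := Set.ncard_le_ncard h1 (Set.toFinite _)
  have h3 : Set.ncard ({1, r} : Set (MulAut T)) ≤ 2 := by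
    refine (Set.ncard_insert_le _ _).trans ?_
    rw [Set.ncard_singleton]
  exact le_trans h2 h3

theorem three_mul_bad [Finite T] [IsSimpleGroup T] (hT : ¬ IsMulCommutative T) {P : Subgroup (MulAut T)}
    (hP : IsPGroup 2 P) {r : MulAut T} (hr : r * r = 1) :
    3 * Set.ncard {z : T | r ≠ 1 ∧ MulAut.conj z * r * (MulAut.conj z)⁻¹ ∈ P} ≤ Nat.card T := by
  by_cases h1 : r = 1
  · have h2 : {z : T | r ≠ 1 ∧ MulAut.conj z * r * (MulAut.conj z)⁻¹ ∈ P} = ∅ := by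
      ext z
      simp [h1]
    rw [h2, Set.ncard_empty]
    omega
  · obtain ⟨R, hR1, hR2, hR3⟩ := exists_inverted hT hr h1
    have hbad := card_bad (conj_injective hT) hP R hR1 hR3
    have h2 : Set.ncard {z : T | r ≠ 1 ∧ MulAut.conj z * r * (MulAut.conj z)⁻¹ ∈ P} ≤
        Nat.card {z : T // MulAut.conj z * r * (MulAut.conj z)⁻¹ ∈ P} :=
      Set.ncard_le_ncard (fun z hz => hz.2) (Set.toFinite _)
    exact (Nat.mul_le_mul hR2 h2).trans hbad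

/-- no field automorphisms, at most four elements, one of them inverting a subgroup of order at least 9 -/
theorem row3_klein [Finite T] [IsSimpleGroup T] (hT : ¬ IsMulCommutative T) [Finite Γ] (hs : ∀ g, s g = 1)
    (hodd : ¬ 2 ∣ Ψ.range.index)
    (hinn : ∀ t : T, ∃ g, s g = 1 ∧ Ψ g = MulAut.conj t) {B : Subgroup Γ} (hB : B ≤ s.ker)
    (hBi : ¬ 2 ∣ B.relIndex s.ker) (hexp : ∀ g, s g = 1 → ∃ t : T, Ψ g ^ 4 = MulAut.conj t) {x : Γ}
    {r₁ r₂ r₃ : MulAut T} (h₁ : r₁ * r₁ = 1) (h₂ : r₂ * r₂ = 1) {R : Subgroup T} (hR : Odd (Nat.card R))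
    (hR9 : 9 ≤ Nat.card R) (hinv : ∀ c ∈ R, r₃ c = c⁻¹) (hn : ∀ Q : Subgroup T, IsPGroup 2 Q → 36 < Q.index)
    (hK : ∀ g ∈ B, ∀ g' ∈ B, Ψ g = Ψ x * Ψ g' * (Ψ x)⁻¹ → Ψ g = 1 ∨ Ψ g = r₁ ∨ Ψ g = r₂ ∨ Ψ g = r₃) :
    Row3 2 T := by
  have hF : Fact (Nat.Prime 2) := ⟨Nat.prime_two⟩
  obtain ⟨P, hP2, hPi, x', hx'⟩ := exists_DD' (K := {1, r₁, r₂, r₃}) hs hodd hinn hB hBi hexp hK
  refine row3_of_index P hP2 hPi (g3_of_count x' ?_)
  have hD : Nat.card (DD P x') ≤ 4 := by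
    have h1 : ((DD P x' : Subgroup (MulAut T)) : Set (MulAut T)) ⊆ {1, r₁, r₂, r₃} := hx'
    have h2 := Set.ncard_le_ncard h1 (Set.toFinite _)
    have h3 : Set.ncard ({1, r₁, r₂, r₃} : Set (MulAut T)) ≤ 4 := by
      refine (Set.ncard_insert_le _ _).trans (Nat.succ_le_succ ?_)
      refine (Set.ncard_insert_le _ _).trans (Nat.succ_le_succ ?_)
      refine (Set.ncard_insert_le _ _).trans ?_
      rw [Set.ncard_singleton]
    exact le_trans h2 h3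
  have hb1 := three_mul_bad hT hP2 h₁
  have hb2 := three_mul_bad hT hP2 h₂
  have hb3 : 9 * Set.ncard {z : T | MulAut.conj z * r₃ * (MulAut.conj z)⁻¹ ∈ P} ≤ Nat.card T :=
    (Nat.mul_le_mul_right _ hR9).trans (card_bad (conj_injective hT) hP2 R hR hinv)
  have hcov : (Set.univ : Set T) ⊆ {z : T | ∀ y ∈ DD P x', MulAut.conj z * y * (MulAut.conj z)⁻¹ ∈ P → y = 1} ∪
      ({z : T | r₁ ≠ 1 ∧ MulAut.conj z * r₁ * (MulAut.conj z)⁻¹ ∈ P} ∪
      ({z : T | r₂ ≠ 1 ∧ MulAut.conj z * r₂ * (MulAut.conj z)⁻¹ ∈ P} ∪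
      {z : T | MulAut.conj z * r₃ * (MulAut.conj z)⁻¹ ∈ P})) := by
    intro z _
    by_cases hz : ∀ y ∈ DD P x', MulAut.conj z * y * (MulAut.conj z)⁻¹ ∈ P → y = 1
    · exact Or.inl hz
    · push Not at hz
      obtain ⟨y, hy, hyz, hy1⟩ := hz
      rcases hx' y hy with rfl | rfl | rfl | h
      · exact (hy1 rfl).elim
      · exact Or.inr (Or.inl ⟨hy1, hyz⟩)
      · exact Or.inr (Or.inr (Or.inl ⟨hy1, hyz⟩))
      · have h' : y = r₃ := h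
        subst h'
        exact Or.inr (Or.inr (Or.inr hyz))
  have h1 := Set.ncard_le_ncard hcov (Set.toFinite _)
  rw [Set.ncard_univ] at h1
  have h2 := h1.trans (Set.ncard_union_le _ _)
  have h3 := Set.ncard_union_le {z : T | r₁ ≠ 1 ∧ MulAut.conj z * r₁ * (MulAut.conj z)⁻¹ ∈ P}
      ({z : T | r₂ ≠ 1 ∧ MulAut.conj z * r₂ * (MulAut.conj z)⁻¹ ∈ P} ∪
      {z : T | MulAut.conj z * r₃ * (MulAut.conj z)⁻¹ ∈ P})
  have h4 := Set.ncard_union_le {z : T | r₂ ≠ 1 ∧ MulAut.conj z * r₂ * (MulAut.conj z)⁻¹ ∈ P}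
      {z : T | MulAut.conj z * r₃ * (MulAut.conj z)⁻¹ ∈ P}
  have h5 : 36 * Nat.card (inn P) < Nat.card T := by
    have h6 := hn (inn P) (inn_pgroup hT hP2)
    have h7 := Subgroup.index_mul_card (inn P)
    rw [← h7]
    exact Nat.mul_lt_mul_of_pos_right h6 Nat.card_pos
  have h8 : 2 * (Nat.card (DD P x') * Nat.card (inn P)) ≤ 8 * Nat.card (inn P) := by
    calc 2 * (Nat.card (DD P x') * Nat.card (inn P)) ≤ 2 * (4 * Nat.card (inn P)) :=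
          Nat.mul_le_mul_left 2 (Nat.mul_le_mul_right _ hD)
      _ = _ := by ring
  have h9 : Set.ncard {z : T | ∀ y ∈ DD P x', MulAut.conj z * y * (MulAut.conj z)⁻¹ ∈ P → y = 1} =
      Nat.card {z : T // ∀ y ∈ DD P x', MulAut.conj z * y * (MulAut.conj z)⁻¹ ∈ P → y = 1} := rfl
  rw [← h9]
  omega

end Cfsg.Agent.H955.Sim
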