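import Mathlib
import Cfsg.Agent.H955.FrameMain

/-!
# The similitudes permuting the blocks of two matchings of a frame (helper955, S5761)

`rigid_sim` : the version of `rigid_main` for similitudes; single lines may be permuted.
-/

set_option autoImplicit false
set_option linter.unusedSectionVars false

namespace Cfsg.Agent.H955.Rig

open QuadraticMap Cfsg Subgroup
open Cfsg.Agent.LieClassical.OrthCore Cfsg.Agent.LieClassical.OrthTrans
open Cfsg.Agent.FooteOrth Cfsg.Agent.FooteOrth.Wr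
open Sum (inl inr)

variable {F : Type*} [Field F] {m₁ δ₁ m₂ δ₂ : ℕ}

/-- a line in a single block is the last one of its component -/
theorem bet_single (x : Fin (m₁ * 2 + δ₁) ⊕ Fin (m₂ * 2 + δ₂)) {j : Fin (δ₁ + δ₂)}
    (h : bet m₁ δ₁ m₂ δ₂ x = inr j) :
    (∃ i : Fin (m₁ * 2 + δ₁), x = inl i ∧ m₁ * 2 ≤ (i : ℕ)) ∨ ∃ i : Fin (m₂ * 2 + δ₂), x = inr i ∧ m₂ * 2 ≤ (i : ℕ) := by
  obtain ⟨s, rfl⟩ := (e2 m₁ δ₁ m₂ δ₂).surjective x
  rw [bet, blk_apply] at h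
  rcases s with ⟨b, ε⟩ | k
  · exact absurd h (by simp)
  · induction k using Fin.addCases with
    | left k =>
      left
      exact ⟨_, e2_inr_left k, by rw [e1_inr]; omega⟩
    | right k =>
      right
      exact ⟨_, e2_inr_right k, by rw [e1_inr]; omega⟩

theorem bet_last1 (i : Fin (m₁ * 2 + δ₁)) (hi : m₁ * 2 ≤ (i : ℕ)) :
    ∃ j, bet m₁ δ₁ m₂ δ₂ (inl i) = inr j := by
  obtain ⟨k, hk⟩ : ∃ k : Fin δ₁, (k : ℕ) = i - m₁ * 2 := ⟨⟨i - m₁ * 2, by have := i.2; omega⟩, rfl⟩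
  refine ⟨Fin.castAdd δ₂ k, ?_⟩
  have h1 : (inl i : Fin (m₁ * 2 + δ₁) ⊕ Fin (m₂ * 2 + δ₂)) = e2 m₁ δ₁ m₂ δ₂ (inr (Fin.castAdd δ₂ k)) := by
    rw [e2_inr_left]
    congr 1
    apply Fin.ext
    rw [e1_inr]
    omega
  rw [h1, bet, blk_apply]
  rfl

theorem bet_last2 (i : Fin (m₂ * 2 + δ₂)) (hi : m₂ * 2 ≤ (i : ℕ)) :
    ∃ j, bet m₁ δ₁ m₂ δ₂ (inr i) = inr j := by
  obtain ⟨k, hk⟩ : ∃ k : Fin δ₂, (k : ℕ) = i - m₂ * 2 := ⟨⟨i - m₂ * 2, by have := i.2; omega⟩, rfl⟩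
  refine ⟨Fin.natAdd δ₁ k, ?_⟩
  have h1 : (inr i : Fin (m₁ * 2 + δ₁) ⊕ Fin (m₂ * 2 + δ₂)) = e2 m₁ δ₁ m₂ δ₂ (inr (Fin.natAdd δ₁ k)) := by
    rw [e2_inr_right]
    congr 1
    apply Fin.ext
    rw [e1_inr]
    omega
  rw [h1, bet, blk_apply]
  rfl

/-- **Rigidity for similitudes.** -/
theorem rigid_sim (h2 : (2 : F) ≠ 0) (h1 : δ₁ ≤ 1) (h1' : δ₂ ≤ 1) (hN1 : 6 - δ₁ ≤ m₁ * 2 + δ₁)
    (hN2 : m₂ * 2 + δ₂ ≠ 2) {c c' : F} (hc : c ≠ 0) (hc' : c' ≠ 0) (hcc : m₂ * 2 + δ₂ ≠ 0 → ¬ IsSquare (c * c'))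
    {Q₀ : QuadraticForm F (Fin (m₁ * 2 + δ₁) ⊕ Fin (m₂ * 2 + δ₂) → F)}
    (ha : ∀ u, Q₀ u = ∑ i, Sum.elim (fun _ => c) (fun _ => c') i * (u i * u i))
    {v : Fin (m₁ * 2 + δ₁) ⊕ Fin (m₂ * 2 + δ₂) → F} (hv : Q₀ v ≠ 0)
    (hv1 : ∀ i : Fin (m₁ * 2 + δ₁), (i : ℕ) ≠ 0 ∨ δ₁ ≠ 0 → v (inl i) ≠ 0)
    (hr1 : δ₁ = 0 → ∀ i j : Fin (m₁ * 2 + δ₁), (j : ℕ) = 0 → v (inl i) * v (inl i) = v (inl j) * v (inl j) → (i : ℕ) = 0)
    (hr2 : δ₂ = 0 → ∀ i j : Fin (m₂ * 2 + δ₂), (j : ℕ) = 0 → v (inr i) * v (inr i) = v (inr j) * v (inr j) → (i : ℕ) = 0)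
    (hbig : ∀ s : Finset (Fin (m₁ * 2 + δ₁) ⊕ Fin (m₂ * 2 + δ₂)), s.card ≤ 6 → ∃ i, v i ≠ 0 ∧ i ∉ s)
    {y z : (Fin (m₁ * 2 + δ₁) ⊕ Fin (m₂ * 2 + δ₂) → F) ≃ₗ[F] (Fin (m₁ * 2 + δ₁) ⊕ Fin (m₂ * 2 + δ₂) → F)}
    {lam : F} (hy : ∀ u, Q₀ (y u) = lam * Q₀ u) {π π' : Equiv.Perm (Fin (m₁ + m₂))} {ρ ρ' : Equiv.Perm (Fin (δ₁ + δ₂))}
    (hby : Blk (bet m₁ δ₁ m₂ δ₂) y.toLinearMap (Sum.map π ρ))
    (hbz : Blk (bet m₁ δ₁ m₂ δ₂) z.toLinearMap (Sum.map π' ρ'))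
    (hyz : y * (refl Q₀ v hv * Pm F (rotn m₁ δ₁ m₂ δ₂)) = (refl Q₀ v hv * Pm F (rotn m₁ δ₁ m₂ δ₂)) * z) :
    ∃ (l : F) (e : Fin (m₁ * 2 + δ₁) ⊕ Fin (m₂ * 2 + δ₂) → ℤˣ), l ≠ 0 ∧
      (∀ u i, y u i = l * (((e i : ℤ) : F) * u i)) ∧ ∀ i, v i ≠ 0 → e i = 1 := by
  classical
  have hτ : Function.Injective (Sum.map π ρ) := π.injective.sumMap ρ.injective
  have hτ' : Function.Injective (Sum.map π' ρ') := π'.injective.sumMap ρ'.injective
  obtain ⟨a, haa⟩ : ∃ a : Fin (m₁ * 2 + δ₁) ⊕ Fin (m₂ * 2 + δ₂) → F, a = Sum.elim (fun _ => c) (fun _ => c') := ⟨_, rfl⟩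
  rw [← haa] at ha
  have hal : ∀ i, a (inl i) = c := fun i => by rw [haa]; rfl
  have har : ∀ i, a (inr i) = c' := fun i => by rw [haa]; rfl
  have ha0 : ∀ i, a i ≠ 0 := by
    rintro (i | i)
    · rw [hal]; exact hc
    · rw [har]; exact hc'
  obtain ⟨P, hP⟩ : ∃ P, P = Pm F (rotn m₁ δ₁ m₂ δ₂) := ⟨_, rfl⟩
  rw [← hP] at hyz
  obtain ⟨y₂, hy₂⟩ : ∃ y₂, y₂ = P * z * P⁻¹ := ⟨_, rfl⟩
  have hrel0 : y * refl Q₀ v hv = refl Q₀ v hv * y₂ := by
    rw [hy₂, ← mul_assoc, ← mul_assoc, ← hyz]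
    group
  have hby₂ : Blk (bet' m₁ δ₁ m₂ δ₂) y₂.toLinearMap (Sum.map π' ρ') := by
    intro k i hne
    have h3 : y₂ (Pi.single k 1) i = z (Pi.single ((rotn m₁ δ₁ m₂ δ₂).symm k) 1) ((rotn m₁ δ₁ m₂ δ₂).symm i) := by
      rw [hy₂, hP]
      change Pm F _ (z ((Pm F _)⁻¹ _)) i = _
      rw [Pm_apply, Pm_inv_single]
    refine hbz _ _ ?_
    change z _ _ ≠ 0
    rw [← h3]
    exact hne
  obtain ⟨φ, hφ⟩ : ∃ φ : (Fin (m₁ * 2 + δ₁) ⊕ Fin (m₂ * 2 + δ₂) → F) →ₗ[F] F,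
    φ = (-(Q₀ v)⁻¹) • polarBilin Q₀ v := ⟨_, rfl⟩
  have hφa : ∀ u, φ u = -((Q₀ v)⁻¹ * polar Q₀ v u) := by
    intro u
    rw [hφ, LinearMap.smul_apply, smul_eq_mul, neg_mul]
    rfl
  have hrefl : ∀ u, refl Q₀ v hv u = u + φ u • v := by
    intro u
    rw [refl_apply, hφa, neg_smul, sub_eq_add_neg]
  have hφs : ∀ k, φ (Pi.single k 1) = -((Q₀ v)⁻¹ * (2 * (a k * v k))) := by
    intro k
    rw [hφa, polar_single ha]
  -- five consecutive lines
  have hch : ∀ i : Fin 5, (i : ℕ) + (1 - δ₁) < m₁ * 2 + δ₁ := by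
    intro i
    have := i.2
    omega
  obtain ⟨l, hyv, hyy, hφy⟩ := frame_rigid (c := fun i : Fin 5 => inl ⟨(i : ℕ) + (1 - δ₁), hch i⟩) (two_bet h1 h1')
    (two_bet' h1 h1') hτ hτ' hby hby₂ (φ := φ) (v := v)
    (by
      intro k hk
      rw [hφs]
      exact neg_ne_zero.2 (mul_ne_zero (inv_ne_zero hv) (mul_ne_zero h2 (mul_ne_zero (ha0 k) hk))))
    (by
      intro u
      have h3 := LinearEquiv.congr_fun hrel0 u
      change y (refl Q₀ v hv u) = refl Q₀ v hv (y₂ u) at h3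
      rw [hrefl, hrefl] at h3
      exact h3)
    hbig
    (by
      intro i j hij
      have h3 := Sum.inl.inj hij
      rw [Fin.mk.injEq] at h3
      exact Fin.ext (by omega))
    (by
      intro i
      apply hv1
      by_cases h3 : (i : ℕ) + (1 - δ₁) = 0
      · right
        omega
      · exact Or.inl h3)
    (by
      intro i
      have h3 : (i.castSucc : Fin 5).val + (1 - δ₁) + 1 < m₁ * 2 + δ₁ := by
        have h4 := hch i.succ
        rw [Fin.val_succ] at h4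
        rw [Fin.val_castSucc]
        omega
      have h4 := chain1 (m₂ := m₂) h1 h1' ((i.castSucc : Fin 5).val + (1 - δ₁)) h3
      have h5 : (⟨(i.succ : Fin 5).val + (1 - δ₁), hch i.succ⟩ : Fin (m₁ * 2 + δ₁)) =
          ⟨(i.castSucc : Fin 5).val + (1 - δ₁) + 1, h3⟩ := by
        ext
        simp only [Fin.val_succ, Fin.val_castSucc]
        omega
      rw [h5]
      exact h4)
  have hyv' : y v = l • v := hyv
  have hlam : lam = l * l := by
    have h3 := hy v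
    rw [hyv', QuadraticMap.map_smul, smul_eq_mul] at h3
    exact (mul_right_cancel₀ hv h3).symm
  have hl0 : l ≠ 0 := by
    rintro rfl
    rw [zero_smul] at hyv'
    have h3 : v = 0 := (LinearEquiv.map_eq_zero_iff y).1 hyv'
    apply hv
    rw [h3, QuadraticMap.map_zero]
  have hby' : Blk (bet' m₁ δ₁ m₂ δ₂) y.toLinearMap (Sum.map π' ρ') := by
    rw [hyy]
    exact hby₂
  obtain ⟨σ, cf, hcf0, hcf, hσ, hσ'⟩ := mono (sep h1 h1' (by omega) hN2) y.injective hτ hτ' hby hby'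
  have hlab := mono_label hcf hyv
  have hnorm : ∀ k, a (σ k) * (cf k * cf k) = l * l * a k := by
    intro k
    have h3 := hy (Pi.single k 1)
    have h4 : y (Pi.single k 1) = cf k • Pi.single (σ k) 1 := hcf k
    rw [h4, norm_single ha] at h3
    have h5 := norm_single ha 1 k
    rw [one_smul] at h5
    rw [h5, mul_one, mul_one, hlam] at h3
    exact h3
  have hlabel : ∀ k, a (σ k) * (v (σ k) * v (σ k)) = a k * (v k * v k) := by
    intro k
    have h3 := hlab k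
    have h4 := hnorm k
    have h5 : l * l * (a (σ k) * (v (σ k) * v (σ k))) = l * l * (a k * (v k * v k)) := by
      calc l * l * (a (σ k) * (v (σ k) * v (σ k))) = a (σ k) * ((l * v (σ k)) * (l * v (σ k))) := by ring
        _ = a (σ k) * (cf k * cf k) * (v k * v k) := by rw [← h3]; ring
        _ = l * l * (a k * (v k * v k)) := by rw [h4]; ring
    exact mul_left_cancel₀ (mul_ne_zero hl0 hl0) h5
  have hcl : ∀ i j, σ (inl i) = inr j → False := by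
    intro i j hij
    have h3 := hnorm (inl i)
    rw [hij, har, hal] at h3
    refine hcc (by have := j.2; omega) ⟨c' * cf (inl i) * l⁻¹, ?_⟩
    have h4 : l * l⁻¹ = 1 := mul_inv_cancel₀ hl0
    calc c * c' = (l * l * c) * c' * (l⁻¹ * l⁻¹) := by linear_combination -(c * c') * (1 + l * l⁻¹) * h4
      _ = _ := by rw [← h3]; ring
  have hcl' : ∀ i j, σ (inr j) = inl i → False := by
    intro i j hij
    have h3 := hnorm (inr j)
    rw [hij, har, hal] at h3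
    refine hcc (by have := j.2; omega) ⟨c * cf (inr j) * l⁻¹, ?_⟩
    have h4 : l * l⁻¹ = 1 := mul_inv_cancel₀ hl0
    calc c * c' = (l * l * c') * c * (l⁻¹ * l⁻¹) := by linear_combination -(c * c') * (1 + l * l⁻¹) * h4
      _ = _ := by rw [← h3]; ring
  have hfix1 : ∀ i, σ (inl i) = inl i := by
    refine chain_fixed (two_bet h1 h1') (two_bet' h1 h1') hσ hσ' (fun i => inl i) (fun i hi => chain1 h1 h1' i hi) ?_
    intro h0
    obtain ⟨x, hx⟩ : ∃ x, σ (inl ⟨0, h0⟩) = x := ⟨_, rfl⟩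
    rcases x with x | x
    swap
    · exact (hcl _ _ hx).elim
    have h6 : (x : ℕ) = 0 := by
      rcases Nat.le_one_iff_eq_zero_or_eq_one.1 h1 with h3 | h3
      · refine hr1 h3 x ⟨0, h0⟩ rfl ?_
        have h4 := hlabel (inl ⟨0, h0⟩)
        rw [hx, hal, hal] at h4
        exact mul_left_cancel₀ hc h4
      · have h4 : ∀ w : Fin (m₁ * 2 + δ₁), (w : ℕ) = 0 → m₁ * 2 ≤ (((finRotate (m₁ * 2 + δ₁)).symm w : Fin _) : ℕ) := by
          intro w hw
          rw [val_finRotate_symm, if_pos hw]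
          omega
        obtain ⟨j, hj⟩ := bet_last1 (m₂ := m₂) (δ₂ := δ₂) _ (h4 ⟨0, h0⟩ rfl)
        have h5 := hσ' (inl ⟨0, h0⟩)
        have h5' : bet' m₁ δ₁ m₂ δ₂ (inl ⟨0, h0⟩) = inr j := by rw [bet', rotn_symm_inl, hj]
        rw [h5', hx, bet', rotn_symm_inl] at h5
        rcases bet_single _ h5 with ⟨i, hi, hi'⟩ | ⟨i, hi, -⟩
        · rw [Sum.inl.injEq] at hi
          rw [← hi, val_finRotate_symm] at hi'
          have h7 := x.2
          by_contra h8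
          rw [if_neg h8] at hi'
          omega
        · cases hi
    rw [hx]
    congr 1
    exact Fin.ext h6
  have hfix2 : ∀ i, σ (inr i) = inr i := by
    refine chain_fixed (two_bet h1 h1') (two_bet' h1 h1') hσ hσ' (fun i => inr i) (fun i hi => chain2 h1 h1' i hi) ?_
    intro h0
    obtain ⟨x, hx⟩ : ∃ x, σ (inr ⟨0, h0⟩) = x := ⟨_, rfl⟩
    rcases x with x | x
    · exact (hcl' _ _ hx).elim
    have h6 : (x : ℕ) = 0 := by
      rcases Nat.le_one_iff_eq_zero_or_eq_one.1 h1' with h3 | h3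
      · refine hr2 h3 x ⟨0, h0⟩ rfl ?_
        have h4 := hlabel (inr ⟨0, h0⟩)
        rw [hx, har, har] at h4
        exact mul_left_cancel₀ hc' h4
      · have h4 : ∀ w : Fin (m₂ * 2 + δ₂), (w : ℕ) = 0 → m₂ * 2 ≤ (((finRotate (m₂ * 2 + δ₂)).symm w : Fin _) : ℕ) := by
          intro w hw
          rw [val_finRotate_symm, if_pos hw]
          omega
        obtain ⟨j, hj⟩ := bet_last2 (m₁ := m₁) (δ₁ := δ₁) _ (h4 ⟨0, h0⟩ rfl)
        have h5 := hσ' (inr ⟨0, h0⟩)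
        have h5' : bet' m₁ δ₁ m₂ δ₂ (inr ⟨0, h0⟩) = inr j := by rw [bet', rotn_symm_inr, hj]
        rw [h5', hx, bet', rotn_symm_inr] at h5
        rcases bet_single _ h5 with ⟨i, hi, -⟩ | ⟨i, hi, hi'⟩
        · cases hi
        · rw [Sum.inr.injEq] at hi
          rw [← hi, val_finRotate_symm] at hi'
          have h7 := x.2
          by_contra h8
          rw [if_neg h8] at hi'
          omega
    rw [hx]
    congr 1
    exact Fin.ext h6
  have hfix : ∀ i, σ i = i := by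
    rintro (i | i)
    · exact hfix1 i
    · exact hfix2 i
  have hcf1 : ∀ i, cf i = l ∨ cf i = -l := by
    intro i
    have h3 := hnorm i
    rw [hfix] at h3
    have h4 : a i * (cf i * cf i) = a i * (l * l) := by rw [h3, mul_comm]
    exact mul_self_eq_mul_self_iff.1 (mul_left_cancel₀ (ha0 i) h4)
  have hcfv : ∀ i, v i ≠ 0 → cf i = l := by
    intro i hi
    have h3 := hlab i
    rw [hfix] at h3
    exact mul_right_cancel₀ hi h3
  have hneg : -l ≠ l := by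
    intro h
    have h3 : (2 : F) * l = 0 := by linear_combination -h
    rcases mul_eq_zero.1 h3 with h4 | h4
    · exact h2 h4
    · exact hl0 h4
  refine ⟨l, fun i => if cf i = l then 1 else -1, hl0, fun u i => ?_, fun i hi => if_pos (hcfv i hi)⟩
  have h3 : y u = fun i => cf i * u i := by
    have h4 : y.toLinearMap = LinearMap.pi fun i => cf i • LinearMap.proj i := by
      apply (Pi.basisFun F _).ext
      intro k
      rw [Pi.basisFun_apply, hcf, hfix]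
      funext i
      rw [Pi.smul_apply, LinearMap.pi_apply, LinearMap.smul_apply, LinearMap.proj_apply]
      by_cases hik : i = k
      · subst hik
        rfl
      · rw [Pi.single_eq_of_ne hik, smul_zero, smul_zero]
    funext i
    have h5 := congrFun (LinearMap.congr_fun h4 u) i
    rw [LinearMap.pi_apply, LinearMap.smul_apply, LinearMap.proj_apply, smul_eq_mul] at h5
    exact h5
  rw [h3]
  change cf i * u i = l * ((((if cf i = l then 1 else -1 : ℤˣ) : ℤ) : F) * u i)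
  rcases hcf1 i with h4 | h4
  · rw [if_pos h4, h4]
    simp
  · rw [if_neg (by rw [h4]; exact hneg), h4]
    simp

end Cfsg.Agent.H955.Rig
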