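import Mathlib
import Cfsg.Agent.H955.SimRig

/-!
# The block model: Sylow 2-subgroups and similitudes (helper955, S5761)

* `exists_Lk2` : the model on a frame, with arbitrary monomial maps on the single lines;
* `exists_R` : a subgroup of `O Q` of the order of a Sylow 2-subgroup which preserves the blocks of the model;
* `exists_del` : similitudes of every multiplier preserving the blocks.
-/

set_option autoImplicit false
set_option linter.unusedSectionVars false

namespace Cfsg.Agent.H955.Rig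

open QuadraticMap Cfsg Subgroup
open Cfsg.Agent.LieClassical.OrthCore Cfsg.Agent.LieClassical.OrthTrans
open Cfsg.Agent.FooteOrth Cfsg.Agent.FooteOrth.Wr
open Sum (inl inr)

variable {F : Type*} [Field F]

variable {κ : Type} [Fintype κ] [DecidableEq κ] {m k : ℕ}

/-- the model on a frame, with arbitrary monomial maps on the single lines -/
theorem exists_Lk2 [Finite F] (h2 : (2 : F) ≠ 0) (e : (Fin m × Fin 2) ⊕ Fin k ≃ κ) {a : κ → F} (ha : ∀ i, a i ≠ 0)
    (hp : ∀ b, a (e (inl (b, 0))) = a (e (inl (b, 1)))) :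
    ∃ Lk : ((Fin m → F × F) × (Fin k → F)) ≃ₗ[F] (κ → F),
      (∀ x, QM m (qW F) (qU fun j => a (e (inr j))) x = ∑ i, a i * (Lk x i * Lk x i)) ∧
      ∀ (x : Fin m → ((F × F) ≃ₗ[F] (F × F))) (t : (Fin k → F) ≃ₗ[F] (Fin k → F)) (ρ : Equiv.Perm (Fin k))
        (π : Equiv.Perm (Fin m)), (∀ u j, t u j ≠ 0 → u (ρ.symm j) ≠ 0) →
        Blk (blk e) (conjL Lk (psi (x, t) * rho π)).toLinearMap (Sum.map π ρ) := by
  have hM := fun b : Fin m => exists_sim h2 (ha (e (inl (b, 0))))
  choose M hM using hM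
  obtain ⟨G, hG⟩ : ∃ G : ((Fin m → F × F) × (Fin k → F)) → (Fin m × Fin 2) ⊕ Fin k → F,
      G = fun x s => Sum.elim (fun p => if p.2 = 0 then (M p.1 (x.1 p.1)).1 else (M p.1 (x.1 p.1)).2) (fun j => x.2 j) s :=
    ⟨_, rfl⟩
  have hG0 : ∀ x b, G x (inl (b, 0)) = (M b (x.1 b)).1 := fun x b => by
    rw [hG]
    simp
  have hG1 : ∀ x b, G x (inl (b, 1)) = (M b (x.1 b)).2 := fun x b => by
    rw [hG]
    simp
  have hGr : ∀ x j, G x (inr j) = x.2 j := fun x j => by
    rw [hG]
    rfl
  have hext : ∀ {f g : (Fin m × Fin 2) ⊕ Fin k → F}, (∀ b, f (inl (b, 0)) = g (inl (b, 0))) →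
      (∀ b, f (inl (b, 1)) = g (inl (b, 1))) → (∀ j, f (inr j) = g (inr j)) → f = g := by
    intro f g h0 h1 hr
    funext s
    rcases s with ⟨b, ε⟩ | j
    · fin_cases ε
      · exact h0 b
      · exact h1 b
    · exact hr j
  have hadd : ∀ x y, G (x + y) = G x + G y := by
    intro x y
    refine hext (fun b => ?_) (fun b => ?_) fun j => ?_
    · rw [Pi.add_apply, hG0, hG0, hG0, Prod.fst_add, Pi.add_apply, map_add]
      rfl
    · rw [Pi.add_apply, hG1, hG1, hG1, Prod.fst_add, Pi.add_apply, map_add]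
      rfl
    · rw [Pi.add_apply, hGr, hGr, hGr]
      rfl
  have hsmul : ∀ (c : F) x, G (c • x) = c • G x := by
    intro c x
    refine hext (fun b => ?_) (fun b => ?_) fun j => ?_
    · rw [Pi.smul_apply, hG0, hG0, Prod.smul_fst, Pi.smul_apply, map_smul]
      rfl
    · rw [Pi.smul_apply, hG1, hG1, Prod.smul_fst, Pi.smul_apply, map_smul]
      rfl
    · rw [Pi.smul_apply, hGr, hGr]
      rfl
  let L1 : ((Fin m → F × F) × (Fin k → F)) ≃ₗ[F] ((Fin m × Fin 2) ⊕ Fin k → F) :=
    { toFun := G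
      map_add' := hadd
      map_smul' := hsmul
      invFun := fun v => (fun b => (M b).symm (v (inl (b, 0)), v (inl (b, 1))), fun j => v (inr j))
      left_inv := by
        intro x
        refine Prod.ext (funext fun b => ?_) (funext fun j => ?_)
        · change (M b).symm (G x (inl (b, 0)), G x (inl (b, 1))) = x.1 b
          rw [hG0, hG1, LinearEquiv.symm_apply_eq]
        · exact hGr x j
      right_inv := by
        intro v
        refine hext (fun b => ?_) (fun b => ?_) fun j => ?_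
        · rw [hG0, LinearEquiv.apply_symm_apply]
        · rw [hG1, LinearEquiv.apply_symm_apply]
        · rw [hGr] }
  obtain ⟨Lk, hLk⟩ : ∃ Lk : ((Fin m → F × F) × (Fin k → F)) ≃ₗ[F] (κ → F), Lk =
      L1.trans (LinearEquiv.funCongrLeft F F e.symm) := ⟨_, rfl⟩
  have hLa : ∀ x s, Lk x (e s) = G x s := by
    intro x s
    rw [hLk]
    change G x (e.symm (e s)) = G x s
    rw [Equiv.symm_apply_apply]
  have hLs : ∀ v, Lk.symm v = (fun b => (M b).symm (v (e (inl (b, 0))), v (e (inl (b, 1)))), fun j => v (e (inr j))) := by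
    intro v
    rw [LinearEquiv.symm_apply_eq]
    funext i
    obtain ⟨s, rfl⟩ := e.surjective i
    rw [hLa]
    revert s
    rw [← funext_iff (f := fun s => v (e s))]
    refine hext (fun b => ?_) (fun b => ?_) fun j => ?_
    · rw [hG0, LinearEquiv.apply_symm_apply]
    · rw [hG1, LinearEquiv.apply_symm_apply]
    · rw [hGr]
  refine ⟨Lk, fun x => ?_, fun x t ρ π ht => ?_⟩
  · rw [QM_apply, qU_apply, ← Equiv.sum_comp e, Fintype.sum_sum_type, Fintype.sum_prod_type]
    congr 1
    · refine Finset.sum_congr rfl fun b _ => ?_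
      rw [Fin.sum_univ_two, hLa, hLa, hG0, hG1, ← hp b, hM b]
      ring
    · refine Finset.sum_congr rfl fun j _ => ?_
      rw [hLa, hGr]
  · intro i0 i hne
    obtain ⟨z, hz⟩ : ∃ z, z = Lk.symm (Pi.single i0 1) := ⟨_, rfl⟩
    obtain ⟨g, hg⟩ : ∃ g : ((Fin m → F × F) × (Fin k → F)) ≃ₗ[F] ((Fin m → F × F) × (Fin k → F)),
      g = psi (x, t) * rho π := ⟨_, rfl⟩
    have h1 : (conjL Lk (psi (x, t) * rho π)).toLinearMap (Pi.single i0 1) = Lk (g z) := by
      rw [hz, hg]
      rfl
    rw [h1] at hne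
    have hz1 : ∀ b, z.1 b ≠ 0 → blk e i0 = inl b := by
      intro b hb
      rw [hz, hLs] at hb
      have h3 : ((Pi.single i0 (1 : F) : κ → F) (e (inl (b, 0))), (Pi.single i0 (1 : F) : κ → F) (e (inl (b, 1)))) ≠ 0 := by
        intro h
        apply hb
        change (M b).symm _ = 0
        rw [h, map_zero]
      by_cases h4 : e (inl (b, 0)) = i0
      · rw [← h4, blk_apply]
        rfl
      by_cases h5 : e (inl (b, 1)) = i0
      · rw [← h5, blk_apply]
        rfl
      exact (h3 (Prod.ext (Pi.single_eq_of_ne h4 _) (Pi.single_eq_of_ne h5 _))).elim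
    have hz2 : ∀ j, z.2 j ≠ 0 → blk e i0 = inr j := by
      intro j hj
      rw [hz, hLs] at hj
      by_cases h4 : e (inr j) = i0
      · rw [← h4, blk_apply]
        rfl
      exact (hj (Pi.single_eq_of_ne h4 _)).elim
    obtain ⟨r, rfl⟩ := e.surjective i
    rw [hLa] at hne
    rw [blk_apply]
    rcases r with ⟨b, ε⟩ | j
    · have h3 : z.1 (π⁻¹ b) ≠ 0 := by
        intro h
        have h4 : (g z).1 b = 0 := by
          rw [hg]
          change x b (z.1 (π⁻¹ b)) = 0
          rw [h, map_zero]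
        fin_cases ε
        · exact hne (by
            change G _ (inl (b, 0)) = 0
            rw [hG0, h4, map_zero]
            rfl)
        · exact hne (by
            change G _ (inl (b, 1)) = 0
            rw [hG1, h4, map_zero]
            rfl)
      rw [hz1 _ h3]
      change inl b = inl (π (π.symm b))
      rw [Equiv.apply_symm_apply]
    · have h3 : z.2 (ρ.symm j) ≠ 0 := by
        apply ht
        rw [hGr, hg] at hne
        exact hne
      rw [hz2 _ h3]
      change inr j = inr (ρ (ρ.symm j))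
      rw [Equiv.apply_symm_apply]



section R

variable {ι : Type} [Fintype ι] [DecidableEq ι] {Q : QuadraticForm F (ι → F)} {d : Fin k → F}

/-- a subgroup of `O Q` of the order of a Sylow 2-subgroup which preserves the blocks of the model -/
theorem exists_R [Finite F] (h2 : (2 : F) ≠ 0)
    {L : ((Fin m → F × F) × (Fin k → F)) ≃ₗ[F] (ι → F)} (hQL : ∀ v, Q (L v) = QM m (qW F) (qU d) v)
    (hcard : (Nat.card (O Q)).factorization 2 ≤
      m * (Nat.card F ^ 2 - 1).factorization 2 + k + (m.factorial).factorization 2) :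
    ∃ R : Subgroup ((ι → F) ≃ₗ[F] (ι → F)), R ≤ O Q ∧ Nat.card R = 2 ^ (Nat.card (O Q)).factorization 2 ∧
      ∀ y ∈ R, BlkL L y := by
  classical
  have hp2 : Fact (Nat.Prime 2) := ⟨Nat.prime_two⟩
  have hfinV : Finite (((Fin m → F × F) × (Fin k → F)) ≃ₗ[F] ((Fin m → F × F) × (Fin k → F))) := DFunLike.finite _
  have hfinW : Finite ((F × F) ≃ₗ[F] (F × F)) := DFunLike.finite _
  have hfinY : Finite ((ι → F) ≃ₗ[F] (ι → F)) := DFunLike.finite _
  obtain ⟨D, hD2, hDO, hDc, -⟩ := exists_D h2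
  obtain ⟨P⟩ : Nonempty (Sylow 2 (Equiv.Perm (Fin m))) := inferInstance
  have hT2 : IsPGroup 2 (sgn : (Fin k → ℤˣ) →* ((Fin k → F) ≃ₗ[F] (Fin k → F))).range := isPGroup_sgn h2
  have hR2 : IsPGroup 2 (TT D (sgn : (Fin k → ℤˣ) →* ((Fin k → F) ≃ₗ[F] (Fin k → F))).range
    (P : Subgroup (Equiv.Perm (Fin m)))) := isPGroup_TT hD2 hT2 P.isPGroup'
  have hRO : TT D (sgn : (Fin k → ℤˣ) →* ((Fin k → F) ≃ₗ[F] (Fin k → F))).range (P : Subgroup (Equiv.Perm (Fin m))) ≤
    O (QM m (qW F) (qU d)) := TT_le_O hDO (sgn_le_O d)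
  have hRc := card_le_TT (F := F) (W := F × F) (U := Fin k → F) (D := D)
    (T := (sgn : (Fin k → ℤˣ) →* ((Fin k → F) ≃ₗ[F] (Fin k → F))).range) (P := (P : Subgroup (Equiv.Perm (Fin m))))
  rw [hDc, card_sgn h2, P.card_eq_multiplicity, val_O_qW h2, Nat.card_perm, Nat.card_fin, ← pow_mul, ← pow_add,
    ← pow_add] at hRc
  obtain ⟨n, hn⟩ := IsPGroup.iff_card.1 hR2
  obtain ⟨R, hR⟩ : ∃ R : Subgroup ((ι → F) ≃ₗ[F] (ι → F)), R =
      (TT D (sgn : (Fin k → ℤˣ) →* ((Fin k → F) ≃ₗ[F] (Fin k → F))).range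
        (P : Subgroup (Equiv.Perm (Fin m)))).map (conjL L).toMonoidHom := ⟨_, rfl⟩
  have hRLO : R ≤ O Q := by
    rw [hR]
    rintro _ ⟨g, hg, rfl⟩
    exact conjL_mem_O hQL (hRO hg)
  have hRLn : Nat.card R = 2 ^ n := by
    rw [← hn, hR]
    exact card_map_of_injective (conjL L).injective
  have hnle : n ≤ (Nat.card (O Q)).factorization 2 := by
    have h1 := Subgroup.card_dvd_of_le hRLO
    rw [hRLn] at h1
    exact (Nat.Prime.pow_dvd_iff_le_factorization Nat.prime_two Nat.card_pos.ne').1 h1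
  rw [hn] at hRc
  have hnge := (Nat.pow_le_pow_iff_right (by norm_num : 1 < 2)).1 hRc
  have hcomm : (Nat.card F ^ 2 - 1).factorization 2 * m = m * (Nat.card F ^ 2 - 1).factorization 2 := mul_comm _ _
  have hOn : (Nat.card (O Q)).factorization 2 = n := by omega
  refine ⟨R, hRLO, by rw [hRLn, hOn], ?_⟩
  intro y hy
  rw [hR] at hy
  obtain ⟨g, hg, rfl⟩ := hy
  obtain ⟨d', t, π, -, ⟨e, rfl⟩, -, rfl⟩ := Cfsg.Agent.H763.Psa.Orth.mem_TT.1 hg
  exact ⟨d', e, π, rfl⟩

/-- a similitude of the plane with a given multiplier -/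
theorem exists_simW [Finite F] (h2 : (2 : F) ≠ 0) {c : F} (hc : c ≠ 0) :
    ∃ M : (F × F) ≃ₗ[F] (F × F), ∀ w, qW F (M w) = c * qW F w := by
  obtain ⟨M, hM⟩ := exists_sim h2 (inv_ne_zero hc)
  refine ⟨M, fun w => ?_⟩
  rw [hM w, qW_apply, ← mul_assoc, mul_inv_cancel₀ hc, one_mul]

/-- similitudes preserving the blocks -/
theorem exists_del [Finite F] (h2 : (2 : F) ≠ 0) {c : F} (hc : c ≠ 0)
    {t : (Fin k → F) ≃ₗ[F] (Fin k → F)} (ht : ∀ u, qU d (t u) = c * qU d u) :
    ∃ x : Fin m → ((F × F) ≃ₗ[F] (F × F)), ∀ v, QM m (qW F) (qU d) (psi (x, t) v) = c * QM m (qW F) (qU d) v := by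
  obtain ⟨M, hM⟩ := exists_simW h2 hc
  refine ⟨fun _ => M, fun v => ?_⟩
  rw [QM_apply, QM_apply, psi_apply, ht, mul_add, Finset.mul_sum]
  congr 1
  exact Finset.sum_congr rfl fun i _ => hM _

/-- the swap of two lines -/
theorem exists_swap [Finite F] {d : Fin 2 → F} (hd : ∀ j, d j ≠ 0) (hns : ¬ IsSquare (d 0 * d 1)) {c : F}
    (hc : ¬ IsSquare c) : ∃ t : (Fin 2 → F) ≃ₗ[F] (Fin 2 → F), (∀ u, qU d (t u) = c * qU d u) ∧
      ∀ u j, t u j ≠ 0 → u ((Equiv.swap 0 1 : Equiv.Perm (Fin 2)).symm j) ≠ 0 := by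
  have hc0 : c ≠ 0 := by
    rintro rfl
    exact hc IsSquare.zero
  obtain ⟨α, hα⟩ : ∃ α, d 1 * (α * α) = c * d 0 := by
    have h1 : IsSquare (c * (d 0 * d 1)) := by
      classical
      have hF : Fintype F := Fintype.ofFinite F
      by_cases h2 : ringChar F = 2
      · exact FiniteField.isSquare_of_char_two h2 _
      · have h0 : c * (d 0 * d 1) ≠ 0 := mul_ne_zero hc0 (mul_ne_zero (hd 0) (hd 1))
        rw [← quadraticChar_one_iff_isSquare h0, map_mul, quadraticChar_neg_one_iff_not_isSquare.2 hc,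
          quadraticChar_neg_one_iff_not_isSquare.2 hns]
        norm_num
    obtain ⟨s, hs⟩ := h1
    refine ⟨s * (d 1)⁻¹, ?_⟩
    have h3 := hd 1
    field_simp
    linear_combination -hs
  have hα0 : α ≠ 0 := by
    rintro rfl
    rw [mul_zero, mul_zero] at hα
    exact mul_ne_zero hc0 (hd 0) hα.symm
  refine ⟨{ toFun := fun u => ![c * α⁻¹ * u 1, α * u 0]
            map_add' := fun u v => by
              funext j
              fin_cases j <;> simp [mul_add]
            map_smul' := fun a u => by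
              funext j
              fin_cases j
              · simp; ring
              · simp; ring
            invFun := fun u => ![α⁻¹ * u 1, c⁻¹ * α * u 0]
            left_inv := fun u => by
              funext j
              fin_cases j
              · simp
                field_simp
              · simp
                field_simp
            right_inv := fun u => by
              funext j
              fin_cases j
              · simp
                field_simp
              · simp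
                field_simp }, fun u => ?_, fun u j hj => ?_⟩
  · rw [qU_apply, qU_apply, Fin.sum_univ_two, Fin.sum_univ_two]
    simp only [LinearEquiv.coe_mk, LinearMap.coe_mk, AddHom.coe_mk, Matrix.cons_val_zero, Matrix.cons_val_one]
    have h1 : α * α⁻¹ = 1 := mul_inv_cancel₀ hα0
    have h2 : d 0 * (c * α⁻¹ * u 1 * (c * α⁻¹ * u 1)) = c * (d 1 * (u 1 * u 1)) := by
      calc d 0 * (c * α⁻¹ * u 1 * (c * α⁻¹ * u 1)) = (c * d 0) * c * (α⁻¹ * α⁻¹) * (u 1 * u 1) := by ring
        _ = d 1 * (α * α⁻¹) * (α * α⁻¹) * c * (u 1 * u 1) := by rw [← hα]; ring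
        _ = _ := by rw [h1]; ring
    rw [h2]
    linear_combination (u 0 * u 0) * hα
  · fin_cases j
    · simp only [Fin.zero_eta, Equiv.symm_swap, Equiv.swap_apply_left]
      exact right_ne_zero_of_mul hj
    · simp only [Fin.mk_one, Equiv.symm_swap, Equiv.swap_apply_right]
      exact right_ne_zero_of_mul hj

end R

end Cfsg.Agent.H955.Rig
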