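import Mathlib
import Cfsg.Agent.H955.SimModel
import Cfsg.Agent.H989.OutOrth.Forms

/-!
# The group of the linear similitudes preserving the blocks (helper955, S5761)

* `BB` : the subgroup of `Gam Q`;
* `not_dvd_relIndex` : its relative index in the group of linear similitudes is odd;
* `exp_four` : the fourth power of a linear similitude induces an inner automorphism of `P Q`.
-/

set_option autoImplicit false
set_option linter.unusedSectionVars false

namespace Cfsg.Agent.H955.Rig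

open QuadraticMap Cfsg Subgroup
open Cfsg.Agent.LieClassical.OrthCore Cfsg.Agent.LieClassical.OrthTrans Cfsg.Agent.LieClassical.OrthSimple
open Cfsg.Agent.ClassicalGeometry.OrthSemi Cfsg.Agent.ClassicalGeometry.OrthSemiCount
  Cfsg.Agent.ClassicalGeometry.OrthAut1 Cfsg.Agent.H989.OutOrth.Basic
open Cfsg.Agent.FooteOrth Cfsg.Agent.FooteOrth.Wr
open Sum (inl inr)

variable {F : Type*} [Field F]

section Blk

variable {κ : Type*} [Fintype κ] [DecidableEq κ] {B : Type*} {β : κ → B}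

theorem Blk.mul {y z : (κ → F) ≃ₗ[F] (κ → F)} {τ τ' : B → B} (hy : Blk β y.toLinearMap τ)
    (hz : Blk β z.toLinearMap τ') : Blk β (y * z).toLinearMap (τ ∘ τ') := by
  intro k i h
  have h0 : (y * z).toLinearMap (Pi.single k 1) i = ∑ j, z (Pi.single k 1) j * y (Pi.single j 1) i := by
    change y (z (Pi.single k 1)) i = _
    conv_lhs => rw [pi_eq_sum_univ' (z (Pi.single k 1))]
    rw [map_sum, Finset.sum_apply]
    refine Finset.sum_congr rfl fun j _ => ?_
    rw [map_smul, Pi.smul_apply, smul_eq_mul]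
  rw [h0] at h
  obtain ⟨j, -, hj⟩ := Finset.exists_ne_zero_of_sum_ne_zero h
  rw [hy j i (right_ne_zero_of_mul hj), hz k j (left_ne_zero_of_mul hj)]
  rfl

theorem Blk.one : Blk β (1 : (κ → F) ≃ₗ[F] (κ → F)).toLinearMap id := by
  intro k i h
  by_cases hik : i = k
  · rw [hik]
    rfl
  · exact (h (Pi.single_eq_of_ne hik _)).elim

end Blk

section BB

variable {ι κ : Type} [Fintype ι] [DecidableEq ι] [Fintype κ] [DecidableEq κ] {m k : ℕ}

/-- the similitudes preserving the blocks -/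
def BC (Q : QuadraticForm F (ι → F)) (L₀ : (κ → F) ≃ₗ[F] (ι → F)) (β : κ → Fin m ⊕ Fin k) (M : Gam Q) : Prop :=
  ∃ (y : (κ → F) ≃ₗ[F] (κ → F)) (c : F) (π : Equiv.Perm (Fin m)) (ρ : Equiv.Perm (Fin k)), c ≠ 0 ∧
    (∀ u, M.1 (L₀ u) = L₀ (y u)) ∧ (∀ v, Q (M.1 v) = c * Q v) ∧ Blk β y.toLinearMap (Sum.map π ρ)

variable {Q : QuadraticForm F (ι → F)} {L₀ : (κ → F) ≃ₗ[F] (ι → F)} {β : κ → Fin m ⊕ Fin k}

theorem BC.mul {M N : Gam Q} (hM : BC Q L₀ β M) (hN : BC Q L₀ β N) : BC Q L₀ β (M * N) := by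
  obtain ⟨y, c, π, ρ, hc, h1, h2, h3⟩ := hM
  obtain ⟨y', c', π', ρ', hc', h1', h2', h3'⟩ := hN
  refine ⟨y * y', c * c', π * π', ρ * ρ', mul_ne_zero hc hc', fun u => ?_, fun v => ?_, ?_⟩
  · change M.1 (N.1 (L₀ u)) = L₀ (y (y' u))
    rw [h1', h1]
  · change Q (M.1 (N.1 v)) = _
    rw [h2, h2', mul_assoc]
  · have h4 := h3.mul h3'
    have h5 : Sum.map ⇑(π * π') ⇑(ρ * ρ') = (Sum.map π ρ) ∘ (Sum.map π' ρ') := by
      rw [Sum.map_comp_map]
      rfl
    rw [h5]
    exact h4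

theorem BC.one : BC Q L₀ β 1 := by
  refine ⟨1, 1, 1, 1, one_ne_zero, fun u => rfl, fun v => ?_, ?_⟩
  · rw [one_mul]
    rfl
  · have h := Blk.one (F := F) (β := β)
    have h5 : Sum.map ⇑(1 : Equiv.Perm (Fin m)) ⇑(1 : Equiv.Perm (Fin k)) = id := Sum.map_id_id
    rw [h5]
    exact h

theorem BC.pow {M : Gam Q} (hM : BC Q L₀ β M) (n : ℕ) : BC Q L₀ β (M ^ n) := by
  induction n with
  | zero => rw [pow_zero]; exact BC.one
  | succ n ih => rw [pow_succ]; exact ih.mul hM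

/-- the group of the linear similitudes preserving the blocks -/
def BB [Finite F] (Q : QuadraticForm F (ι → F)) (L₀ : (κ → F) ≃ₗ[F] (ι → F)) (β : κ → Fin m ⊕ Fin k) :
    Subgroup (Gam Q) where
  carrier := {M | BC Q L₀ β M}
  mul_mem' := BC.mul
  one_mem' := BC.one
  inv_mem' := by
    intro M hM
    have h0 : 0 < orderOf M := orderOf_pos M
    have h1 : M⁻¹ = M ^ (orderOf M - 1) := by
      rw [inv_eq_iff_mul_eq_one, ← pow_succ']
      rw [Nat.sub_add_cancel h0, pow_orderOf_eq_one]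
    change BC Q L₀ β M⁻¹
    rw [h1]
    exact BC.pow hM _

theorem mem_BB [Finite F] {M : Gam Q} : M ∈ BB Q L₀ β ↔ BC Q L₀ β M := Iff.rfl

theorem BB_le [Finite F] (hG : Good Q) : BB Q L₀ β ≤ (sg hG).ker := by
  rintro M ⟨y, c, π, ρ, hc, h1, h2, -⟩
  rw [MonoidHom.mem_ker]
  refine sg_eq hG (σ := RingEquiv.refl F) (c := c) ⟨hc, add_of_mem M.2, fun a v => ?_, h2⟩
  obtain ⟨u, rfl⟩ := L₀.surjective v
  rw [← map_smul, h1, h1, map_smul, map_smul]
  rfl

theorem scal_mem_BB [Finite F] (a : Fˣ) : scal Q a ∈ BB Q L₀ β := by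
  refine ⟨LinearEquiv.smulOfUnit a, a * a, 1, 1, mul_ne_zero a.ne_zero a.ne_zero, fun u => ?_, fun v => ?_, ?_⟩
  · rw [scal_apply, ← map_smul]
    rfl
  · rw [scal_apply, QuadraticMap.map_smul, smul_eq_mul]
  · intro j i h
    have h1 : (LinearEquiv.smulOfUnit a : (κ → F) ≃ₗ[F] (κ → F)) (Pi.single j 1) i = (a : F) * (Pi.single j 1 : κ → F) i := rfl
    by_cases hik : i = j
    · rw [hik]
      have h5 : Sum.map ⇑(1 : Equiv.Perm (Fin m)) ⇑(1 : Equiv.Perm (Fin k)) = id := Sum.map_id_id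
      rw [h5]
      rfl
    · exfalso
      apply h
      change (LinearEquiv.smulOfUnit a : (κ → F) ≃ₗ[F] (κ → F)) (Pi.single j 1) i = 0
      rw [h1, Pi.single_eq_of_ne hik, mul_zero]

end BB

section Index

variable {V : Type*} [AddCommGroup V] [Module F V] {Q : QuadraticForm F V}

theorem ofO_injective : Function.Injective (ofO Q) := by
  intro g h e
  apply permO_injective
  exact congrArg Subtype.val e

/-- **Odd index.** -/
theorem not_dvd_relIndex [Finite F] [Finite V] (hG : Good Q) {B : Subgroup (Gam Q)}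
    (hscal : ∀ a : Fˣ, scal Q a ∈ B) {R : Subgroup (V ≃ₗ[F] V)} (hRO : R ≤ O Q)
    (hRc : Nat.card R = 2 ^ (Nat.card (O Q)).factorization 2) (hRB : ∀ (g) (hg : g ∈ R), ofO Q ⟨g, hRO hg⟩ ∈ B)
    (hdel : ∀ (M : Gam Q) (c : F), IsSS Q (RingEquiv.refl F) c M.1 → ¬ IsSquare c →
      ∃ b ∈ B, IsSS Q (RingEquiv.refl F) c (b : Gam Q).1) : ¬ 2 ∣ B.relIndex (sg hG).ker := by
  have hp2 : Fact (Nat.Prime 2) := ⟨Nat.prime_two⟩
  have hfinY : Finite (V ≃ₗ[F] V) := DFunLike.finite _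
  have hle : (ofO Q).range ≤ (sg hG).ker := by
    rintro _ ⟨g, rfl⟩
    exact sg_ofO hG g
  have hdec : ∀ M ∈ (sg hG).ker, ∃ o : O Q, ∃ b ∈ B, M = ofO Q o * b := by
    intro M hM
    obtain ⟨σ, c, h⟩ := M.2
    have h1 : σ = RingEquiv.refl F := by
      have h2 := sg_eq hG h
      rw [MonoidHom.mem_ker.1 hM] at h2
      exact h2.symm
    subst h1
    by_cases hc : IsSquare c
    · obtain ⟨g, a, e⟩ := exists_ofO_mul_scal h hc
      exact ⟨g, _, hscal a, e⟩
    · obtain ⟨b, hb, hbc⟩ := hdel M c h hc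
      have h3 : IsSS Q (RingEquiv.refl F) 1 (M * b⁻¹ : Gam Q).1 := by
        have h4 := h.mul hbc.inv
        have h5 : c * (RingEquiv.refl F) ((RingEquiv.refl F).symm c⁻¹) = 1 := mul_inv_cancel₀ h.ne
        rw [h5] at h4
        exact h4
      obtain ⟨g, hg⟩ := exists_ofO h3
      exact ⟨g, b, hb, by rw [hg]; group⟩
  have hcard : B.relIndex (ofO Q).range = B.relIndex (sg hG).ker := by
    refine Nat.card_congr (Equiv.ofBijective (quotientSubgroupOfEmbeddingOfLE B hle)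
      ⟨(quotientSubgroupOfEmbeddingOfLE B hle).injective, ?_⟩)
    intro x
    induction x using QuotientGroup.induction_on with
    | H M =>
      obtain ⟨o, b, hb, e⟩ := hdec M M.2
      refine ⟨QuotientGroup.mk ⟨ofO Q o, ⟨o, rfl⟩⟩, ?_⟩
      rw [quotientSubgroupOfEmbeddingOfLE_apply_mk, QuotientGroup.eq]
      change (ofO Q o)⁻¹ * (M : Gam Q) ∈ B
      rw [e, inv_mul_cancel_left]
      exact hb
  rw [← hcard]
  obtain ⟨R', hR'⟩ : ∃ R' : Subgroup (Gam Q), R' = (R.subgroupOf (O Q)).map (ofO Q) := ⟨_, rfl⟩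
  have h1 : R' ≤ B := by
    rw [hR']
    rintro _ ⟨g, hg, rfl⟩
    exact hRB g.1 hg
  have h2 : R' ≤ (ofO Q).range := by
    rw [hR']
    exact map_le_range _ _
  intro h3
  have h4 : 2 ∣ R'.relIndex (ofO Q).range := h3.trans (relIndex_dvd_of_le_left _ h1)
  have h5 : Nat.card (R'.subgroupOf (ofO Q).range) * R'.relIndex (ofO Q).range = Nat.card (O Q) := by
    rw [relIndex, card_mul_index]
    exact Nat.card_congr (MonoidHom.ofInjective ofO_injective).symm.toEquiv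
  have h6 : Nat.card (R'.subgroupOf (ofO Q).range) = 2 ^ (Nat.card (O Q)).factorization 2 := by
    rw [Nat.card_congr (subgroupOfEquivOfLe h2).toEquiv, hR', card_map_of_injective ofO_injective,
      Nat.card_congr (subgroupOfEquivOfLe hRO).toEquiv, hRc]
  rw [h6] at h5
  have h7 : 2 ^ ((Nat.card (O Q)).factorization 2 + 1) ∣ Nat.card (O Q) := by
    rw [pow_succ]
    conv_rhs => rw [← h5]
    exact Nat.mul_dvd_mul_left _ h4
  have h8 := (Nat.Prime.pow_dvd_iff_le_factorization Nat.prime_two (Nat.card_pos (α := O Q)).ne').1 h7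
  omega

end Index

section Exp

variable {ι : Type} [Fintype ι] [DecidableEq ι] {Q : QuadraticForm F (ι → F)}

open Cfsg.Agent.H763.Psa.Orth (kap kap_iff kap_refl)

/-- the square of an isometry is in `E Q` -/
theorem sq_mem_E [Finite F] (hG : Good Q) (h2 : (2 : F) ≠ 0) (g : O Q) :
    ((g * g : O Q) : (ι → F) ≃ₗ[F] (ι → F)) ∈ E Q := by
  classical
  have key : O Q ≤ (((powMonoidHom 2).comp (kap Q)).ker).map (O Q).subtype := by
    conv_lhs => rw [O_eq_closure hG.nondeg]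
    rw [Subgroup.closure_le]
    rintro _ (⟨v, hv, rfl⟩ | ⟨u, w, hu, hw, rfl⟩)
    · refine ⟨⟨_, refl_mem_O hv⟩, ?_, rfl⟩
      change kap Q ⟨_, refl_mem_O hv⟩ ^ 2 = 1
      rw [kap_refl h2 hv]
      refine Prod.ext ?_ ?_
      · change (-1 : Fˣ) ^ 2 = 1
        rw [neg_one_sq]
      · exact Int.units_sq _
    · refine ⟨⟨_, siegel_mem_O hu hw⟩, ?_, rfl⟩
      change kap Q ⟨_, siegel_mem_O hu hw⟩ ^ 2 = 1
      rw [(kap_iff hG h2 _).1 (siegel_mem_E hu hw), one_pow]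
  obtain ⟨g', hg', he⟩ := key g.2
  have hgg : g' = g := Subtype.ext he
  subst hgg
  have h3 : kap Q g' ^ 2 = 1 := hg'
  rw [kap_iff hG h2 (g' * g').2]
  change kap Q (g' * g') = 1
  rw [map_mul, ← pow_two, h3]

/-- **The fourth power of a linear similitude is inner.** -/
theorem exp_four [Finite F] (hG : Good Q) (h2 : (2 : F) ≠ 0) (M : Gam Q)
    (hM : Cfsg.Agent.H989.OutOrth.Basic.sg hG M = 1) : ∃ t : P Q, Psi Q M ^ 4 = MulAut.conj t := by
  obtain ⟨σ, c, h⟩ := M.2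
  have h1 : σ = RingEquiv.refl F := by
    have h2 := sg_eq hG h
    rw [hM] at h2
    exact h2.symm
  subst h1
  have h3 : IsSS Q (RingEquiv.refl F) (c * c) (M * M : Gam Q).1 := h.mul h
  obtain ⟨g, a, e⟩ := exists_ofO_mul_scal h3 ⟨c, rfl⟩
  refine ⟨((⟨_, sq_mem_E hG h2 g⟩ : ↥(E Q)) : P Q), ?_⟩
  have h4 : Psi Q M ^ 4 = Psi Q (M * M) * Psi Q (M * M) := by
    rw [map_mul, pow_succ, pow_succ, pow_two, mul_assoc]
  rw [h4, e, map_mul, Psi_scal hG, mul_one, ← map_mul, ← map_mul, ← Psi_ofO]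

end Exp

end Cfsg.Agent.H955.Rig
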