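import Mathlib
import Cfsg.Agent.H955.SimGrp
import Cfsg.Agent.H955.FrameFin

/-!
# Separation on the level of the linear similitudes (helper955, S5761)

* `exists_frame` : frames from `Has`;
* `odd_BB` : the block group has odd index in the group of linear similitudes;
* `sep_frame` : the linear similitudes preserving the blocks and the images of the blocks are scalar multiples of sign
  changes at the zeros of `v`.
-/

set_option autoImplicit false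
set_option linter.unusedSectionVars false

namespace Cfsg.Agent.H955.Rig

open QuadraticMap Cfsg Subgroup
open Cfsg.Agent.LieClassical.OrthCore Cfsg.Agent.LieClassical.OrthTrans Cfsg.Agent.LieClassical.OrthSimple
open Cfsg.Agent.ClassicalGeometry.OrthSemi Cfsg.Agent.ClassicalGeometry.OrthSemiCount
  Cfsg.Agent.ClassicalGeometry.OrthAut1
open Cfsg.Agent.H989.OutOrth.Basic (ofO ofO_apply isSS_ofO Psi_scal sg_ofO)
open Cfsg.Agent.FooteOrth Cfsg.Agent.FooteOrth.Wr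
open Sum (inl inr)

variable {F : Type*} [Field F] {ι : Type} [Fintype ι] [DecidableEq ι] {Q : QuadraticForm F (ι → F)}

/-- the norms of the frame -/
def nrm (m₁ δ₁ m₂ δ₂ : ℕ) (c c' : F) : Fin (m₁ * 2 + δ₁) ⊕ Fin (m₂ * 2 + δ₂) → F := Sum.elim (fun _ => c) (fun _ => c')

/-- a frame of `Q` with its block model -/
structure Frm (Q : QuadraticForm F (ι → F)) (m₁ δ₁ m₂ δ₂ : ℕ) (c c' : F) where
  L' : ((Fin (m₁ + m₂) → F × F) × (Fin (δ₁ + δ₂) → F)) ≃ₗ[F] (ι → F)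
  Lk : ((Fin (m₁ + m₂) → F × F) × (Fin (δ₁ + δ₂) → F)) ≃ₗ[F] (Fin (m₁ * 2 + δ₁) ⊕ Fin (m₂ * 2 + δ₂) → F)
  L₀ : (Fin (m₁ * 2 + δ₁) ⊕ Fin (m₂ * 2 + δ₂) → F) ≃ₗ[F] (ι → F)
  hL' : ∀ v, Q (L' v) = QM (m₁ + m₂) (qW F) (qU fun j : Fin (δ₁ + δ₂) => if (j : ℕ) < δ₁ then c else c') v
  hLL : ∀ x, L₀ (Lk x) = L' x
  ha : ∀ u, Q (L₀ u) = ∑ i, nrm m₁ δ₁ m₂ δ₂ c c' i * (u i * u i)
  hB : ∀ (x : Fin (m₁ + m₂) → ((F × F) ≃ₗ[F] (F × F))) (t : (Fin (δ₁ + δ₂) → F) ≃ₗ[F] (Fin (δ₁ + δ₂) → F))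
    (ρ : Equiv.Perm (Fin (δ₁ + δ₂))) (π : Equiv.Perm (Fin (m₁ + m₂))), (∀ u j, t u j ≠ 0 → u (ρ.symm j) ≠ 0) →
    Blk (bet m₁ δ₁ m₂ δ₂) (conjL Lk (psi (x, t) * rho π)).toLinearMap (Sum.map π ρ)

variable {m₁ δ₁ m₂ δ₂ : ℕ} {c c' : F}

theorem exists_frame [Finite F] (h2 : (2 : F) ≠ 0) (hc : c ≠ 0) (hc' : c' ≠ 0)
    (hH : Has Q (m₁ + m₂) (δ₁ + δ₂) fun j => if (j : ℕ) < δ₁ then c else c') :
    Nonempty (Frm Q m₁ δ₁ m₂ δ₂ c c') := by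
  classical
  obtain ⟨L', hL'⟩ := hH
  obtain ⟨a, haa⟩ : ∃ a : Fin (m₁ * 2 + δ₁) ⊕ Fin (m₂ * 2 + δ₂) → F, a = nrm m₁ δ₁ m₂ δ₂ c c' := ⟨_, rfl⟩
  have hal : ∀ i, a (inl i) = c := fun i => by rw [haa]; rfl
  have har : ∀ i, a (inr i) = c' := fun i => by rw [haa]; rfl
  have ha0 : ∀ i, a i ≠ 0 := by
    rintro (i | i)
    · rw [hal]; exact hc
    · rw [har]; exact hc'
  obtain ⟨Lk, hLk, hB⟩ := exists_Lk2 h2 (e2 m₁ δ₁ m₂ δ₂) ha0 (by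
    intro b
    induction b using Fin.addCases with
    | left b => rw [e2_inl_left, e2_inl_left, hal, hal]
    | right b => rw [e2_inl_right, e2_inl_right, har, har])
  have hd : (fun j => a (e2 m₁ δ₁ m₂ δ₂ (inr j))) = fun j : Fin (δ₁ + δ₂) => if (j : ℕ) < δ₁ then c else c' := by
    funext j
    induction j using Fin.addCases with
    | left j => rw [e2_inr_left, hal, Fin.val_castAdd, if_pos j.2]
    | right j => rw [e2_inr_right, har, Fin.val_natAdd, if_neg (by omega)]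
  rw [hd] at hLk
  have hLL : ∀ x, (Lk.symm.trans L') (Lk x) = L' x := by
    intro x
    rw [LinearEquiv.trans_apply, LinearEquiv.symm_apply_apply]
  refine ⟨⟨L', Lk, Lk.symm.trans L', hL', hLL, fun u => ?_, hB⟩⟩
  obtain ⟨x, rfl⟩ := Lk.surjective u
  rw [hLL, hL', hLk, haa]

/-- a linear map multiplying the form by `c` as a semisimilitude -/
def ofSim (Q : QuadraticForm F (ι → F)) (g : (ι → F) ≃ₗ[F] (ι → F)) {c : F} (hc : c ≠ 0) (h : ∀ v, Q (g v) = c * Q v) :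
    Gam Q :=
  ⟨g.toEquiv, RingEquiv.refl F, c, hc, fun u v => map_add g u v, fun a v => map_smul g a v, h⟩

theorem ofSim_apply (g : (ι → F) ≃ₗ[F] (ι → F)) {c : F} (hc : c ≠ 0) (h : ∀ v, Q (g v) = c * Q v) (v : ι → F) :
    (ofSim Q g hc h).1 v = g v := rfl

/-- **The block group has odd index.** -/
theorem odd_BB [Finite F] (hG : Good Q) (h2 : (2 : F) ≠ 0) (fr : Frm Q m₁ δ₁ m₂ δ₂ c c') (hc : c ≠ 0) (hc' : c' ≠ 0)
    (hdim : Module.finrank F (ι → F) = 2 * (m₁ + m₂) + (δ₁ + δ₂))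
    (hk : (δ₁ = 0 ∧ δ₂ = 0) ∨ δ₁ + δ₂ = 1 ∨ (δ₁ = 1 ∧ δ₂ = 1 ∧ ¬ IsSquare (c * c')))
    (hcard : (Nat.card (O Q)).factorization 2 ≤
      (m₁ + m₂) * (Nat.card F ^ 2 - 1).factorization 2 + (δ₁ + δ₂) + ((m₁ + m₂).factorial).factorization 2) :
    ¬ 2 ∣ (BB Q fr.L₀ (bet m₁ δ₁ m₂ δ₂)).relIndex (Cfsg.Agent.H989.OutOrth.Basic.sg hG).ker := by
  classical
  obtain ⟨R, hRO, hRc, hRB⟩ := exists_R h2 fr.hL' hcard
  have hcomp : ∀ (g : ((Fin (m₁ + m₂) → F × F) × (Fin (δ₁ + δ₂) → F)) ≃ₗ[F]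
      ((Fin (m₁ + m₂) → F × F) × (Fin (δ₁ + δ₂) → F))) (u : Fin (m₁ * 2 + δ₁) ⊕ Fin (m₂ * 2 + δ₂) → F),
      conjL fr.L' g (fr.L₀ u) = fr.L₀ (conjL fr.Lk g u) := by
    intro g u
    obtain ⟨x, rfl⟩ := fr.Lk.surjective u
    rw [fr.hLL, conjL_apply, conjL_apply, fr.hLL]
  refine not_dvd_relIndex hG scal_mem_BB hRO hRc ?_ ?_
  · intro g hg
    obtain ⟨x, e, π, rfl⟩ := hRB g hg
    refine ⟨conjL fr.Lk (psi (x, sgn e) * rho π), 1, π, 1, one_ne_zero, fun u => ?_, fun v => ?_,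
      fr.hB x (sgn e) 1 π fun u j hj => ?_⟩
    · exact hcomp _ u
    · rw [one_mul]
      exact mem_O.1 (hRO hg) v
    · intro h
      apply hj
      have h3 : u j = 0 := h
      rw [sgn_apply, h3, mul_zero]
  · intro M c₀ hM hns
    have key : ∃ (t : (Fin (δ₁ + δ₂) → F) ≃ₗ[F] (Fin (δ₁ + δ₂) → F)) (ρ : Equiv.Perm (Fin (δ₁ + δ₂))),
        (∀ u, qU (fun j : Fin (δ₁ + δ₂) => if (j : ℕ) < δ₁ then c else c') (t u) =
          c₀ * qU (fun j : Fin (δ₁ + δ₂) => if (j : ℕ) < δ₁ then c else c') u) ∧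
        ∀ u j, t u j ≠ 0 → u (ρ.symm j) ≠ 0 := by
      rcases hk with ⟨h3, h4⟩ | h3 | ⟨h3, h4, h5⟩
      · subst h3 h4
        refine ⟨LinearEquiv.refl F _, 1, fun u => ?_, fun u j => j.elim0⟩
        rw [qU_apply, qU_apply]
        have h6 : ∀ f : Fin (0 + 0) → F, ∑ i, f i = 0 := fun f => Finset.sum_eq_zero fun i _ => i.elim0
        rw [h6, h6, mul_zero]
      · exfalso
        apply hns
        refine isSquare_of_odd h2 hG.nondeg ?_ hM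
        rw [hdim, h3]
        exact ⟨m₁ + m₂, rfl⟩
      · subst h3 h4
        obtain ⟨t, ht1, ht2⟩ := exists_swap (d := fun j : Fin (1 + 1) => if (j : ℕ) < 1 then c else c') (c := c₀)
          (by
            intro j
            split_ifs
            · exact hc
            · exact hc') (by simpa using h5) hns
        exact ⟨t, Equiv.swap 0 1, ht1, ht2⟩
    obtain ⟨t, ρ, ht, hρ⟩ := key
    obtain ⟨x, hx⟩ := exists_del (m := m₁ + m₂) h2 hM.ne ht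
    have hsim : ∀ v, Q (conjL fr.L' (psi (x, t)) v) = c₀ * Q v := by
      intro v
      obtain ⟨w, rfl⟩ := fr.L'.surjective v
      rw [conjL_apply, fr.hL', fr.hL', hx]
    refine ⟨ofSim Q _ hM.ne hsim, ⟨conjL fr.Lk (psi (x, t) * rho 1), c₀, 1, ρ, hM.ne, fun u => ?_, fun v => hsim v,
      fr.hB x t ρ 1 hρ⟩, ?_⟩
    · rw [ofSim_apply, hcomp, map_one, mul_one]
    · exact ⟨hM.ne, fun u v => map_add (conjL fr.L' (psi (x, t))) u v,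
        fun a v => map_smul (conjL fr.L' (psi (x, t))) a v, hsim⟩

/-- the sign changes of the frame -/
def fsg (fr : Frm Q m₁ δ₁ m₂ δ₂ c c') (e : Fin (m₁ * 2 + δ₁) ⊕ Fin (m₂ * 2 + δ₂) → ℤˣ) : O Q :=
  ⟨conjL fr.L₀ (dgk F _ e), fun v => by
    obtain ⟨u, rfl⟩ := fr.L₀.surjective v
    rw [conjL_apply, fr.ha, fr.ha]
    refine Finset.sum_congr rfl fun i _ => ?_
    rw [dgk_apply]
    rcases Int.units_eq_one_or (e i) with h | h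
    · rw [h]
      simp
    · rw [h]
      simp⟩

theorem fsg_apply (fr : Frm Q m₁ δ₁ m₂ δ₂ c c') (e : Fin (m₁ * 2 + δ₁) ⊕ Fin (m₂ * 2 + δ₂) → ℤˣ)
    (u : Fin (m₁ * 2 + δ₁) ⊕ Fin (m₂ * 2 + δ₂) → F) :
    (ofO Q (fsg fr e)).1 (fr.L₀ u) = fr.L₀ (dgk F _ e u) := conjL_apply _ _ _

/-- **Separation.** -/
theorem sep_frame [Finite F] (hG : Good Q) (h2 : (2 : F) ≠ 0) (fr : Frm Q m₁ δ₁ m₂ δ₂ c c') (h1 : δ₁ ≤ 1) (h1' : δ₂ ≤ 1)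
    (hN1 : 6 - δ₁ ≤ m₁ * 2 + δ₁) (hN2 : m₂ * 2 + δ₂ ≠ 2) (hc : c ≠ 0) (hc' : c' ≠ 0)
    (hcc : m₂ * 2 + δ₂ ≠ 0 → ¬ IsSquare (c * c'))
    {v : Fin (m₁ * 2 + δ₁) ⊕ Fin (m₂ * 2 + δ₂) → F}
    (hv : c * ∑ i, v (inl i) * v (inl i) + c' * ∑ j, v (inr j) * v (inr j) ≠ 0)
    (hv1 : ∀ i : Fin (m₁ * 2 + δ₁), (i : ℕ) ≠ 0 ∨ δ₁ ≠ 0 → v (inl i) ≠ 0)
    (hr1 : δ₁ = 0 → ∀ i j : Fin (m₁ * 2 + δ₁), (j : ℕ) = 0 → v (inl i) * v (inl i) = v (inl j) * v (inl j) → (i : ℕ) = 0)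
    (hr2 : δ₂ = 0 → ∀ i j : Fin (m₂ * 2 + δ₂), (j : ℕ) = 0 → v (inr i) * v (inr i) = v (inr j) * v (inr j) → (i : ℕ) = 0)
    (hbig : ∀ s : Finset (Fin (m₁ * 2 + δ₁) ⊕ Fin (m₂ * 2 + δ₂)), s.card ≤ 6 → ∃ i, v i ≠ 0 ∧ i ∉ s) :
    ∃ x : Gam Q, Cfsg.Agent.H989.OutOrth.Basic.sg hG x = 1 ∧
      ∀ g ∈ BB Q fr.L₀ (bet m₁ δ₁ m₂ δ₂), ∀ g' ∈ BB Q fr.L₀ (bet m₁ δ₁ m₂ δ₂),
        Psi Q g = Psi Q x * Psi Q g' * (Psi Q x)⁻¹ →
        ∃ e : Fin (m₁ * 2 + δ₁) ⊕ Fin (m₂ * 2 + δ₂) → ℤˣ, (∀ i, v i ≠ 0 → e i = 1) ∧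
          Psi Q g = Psi Q (ofO Q (fsg fr e)) := by
  classical
  obtain ⟨Q₀, hQ₀⟩ : ∃ Q₀ : QuadraticForm F (Fin (m₁ * 2 + δ₁) ⊕ Fin (m₂ * 2 + δ₂) → F),
    Q₀ = Q.comp fr.L₀.toLinearMap := ⟨_, rfl⟩
  have hQL₀ : ∀ u, Q (fr.L₀ u) = Q₀ u := by
    intro u
    rw [hQ₀]
    rfl
  have ha : ∀ u, Q₀ u = ∑ i, nrm m₁ δ₁ m₂ δ₂ c c' i * (u i * u i) := by
    intro u
    rw [← hQL₀, fr.ha]
  have hal : ∀ i, nrm m₁ δ₁ m₂ δ₂ c c' (inl i) = c := fun i => rfl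
  have har : ∀ i, nrm m₁ δ₁ m₂ δ₂ c c' (inr i) = c' := fun i => rfl
  have hvQ : Q₀ v ≠ 0 := by
    rw [ha, Fintype.sum_sum_type]
    simp only [hal, har]
    rw [← Finset.mul_sum, ← Finset.mul_sum]
    exact hv
  have hρ : Pm F (rotn m₁ δ₁ m₂ δ₂) ∈ O Q₀ := by
    intro u
    rw [ha, ha, ← Equiv.sum_comp (rotn m₁ δ₁ m₂ δ₂)]
    refine Finset.sum_congr rfl fun i _ => ?_
    rw [Pm_apply, Equiv.symm_apply_apply]
    congr 1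
    rcases i with i | i
    · exact (hal _).trans (hal _).symm
    · exact (har _).trans (har _).symm
  obtain ⟨X, hX⟩ : ∃ X, X = refl Q₀ v hvQ * Pm F (rotn m₁ δ₁ m₂ δ₂) := ⟨_, rfl⟩
  have hXO : X ∈ O Q₀ := by
    rw [hX]
    exact (O Q₀).mul_mem (refl_mem_O hvQ) hρ
  obtain ⟨x, hx⟩ : ∃ x : Gam Q, x = ofO Q ⟨conjL fr.L₀ X, conjL_mem_O hQL₀ hXO⟩ := ⟨_, rfl⟩
  have hxa : ∀ u, x.1 (fr.L₀ u) = fr.L₀ (X u) := by
    intro u
    rw [hx]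
    exact conjL_apply _ _ _
  refine ⟨x, by rw [hx]; exact sg_ofO hG _, ?_⟩
  rintro g ⟨y, k, π, ρ, hk, hy1, hy2, hy3⟩ g' ⟨y', k', π', ρ', hk', hy1', hy2', hy3'⟩ hgg
  have hker : Psi Q (g⁻¹ * (x * g' * x⁻¹)) = 1 := by
    rw [map_mul, map_mul, map_mul, map_inv, map_inv, hgg]
    group
  rw [← MonoidHom.mem_ker, ker_Psi hG] at hker
  obtain ⟨a, ha'⟩ := hker
  have hrel : g * scal Q a * x = x * g' := by
    rw [ha']
    group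
  obtain ⟨z, hz⟩ : ∃ z : (Fin (m₁ * 2 + δ₁) ⊕ Fin (m₂ * 2 + δ₂) → F) ≃ₗ[F]
      (Fin (m₁ * 2 + δ₁) ⊕ Fin (m₂ * 2 + δ₂) → F), z = LinearEquiv.smulOfUnit a⁻¹ * y' := ⟨_, rfl⟩
  have hza : ∀ u, z u = ((a⁻¹ : Fˣ) : F) • y' u := fun u => by rw [hz]; rfl
  have hyz : y * X = X * z := by
    ext1 u
    change y (X u) = X (z u)
    apply fr.L₀.injective
    have h3 : (g * scal Q a * x).1 (fr.L₀ u) = (x * g').1 (fr.L₀ u) := by rw [hrel]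
    have h4 : (g * scal Q a * x).1 (fr.L₀ u) = (a : F) • fr.L₀ (y (X u)) := by
      change g.1 ((scal Q a).1 (x.1 (fr.L₀ u))) = _
      rw [hxa, scal_apply, ← map_smul, hy1, map_smul, map_smul]
    have h5 : (x * g').1 (fr.L₀ u) = fr.L₀ (X (y' u)) := by
      change x.1 (g'.1 (fr.L₀ u)) = _
      rw [hy1', hxa]
    rw [h4, h5] at h3
    rw [hza, map_smul, map_smul, ← h3, smul_smul, Units.inv_mul, one_smul]
  have hbz : Blk (bet m₁ δ₁ m₂ δ₂) z.toLinearMap (Sum.map π' ρ') := by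
    intro j i h
    refine hy3' j i ?_
    intro h3
    apply h
    change z (Pi.single j 1) i = 0
    have h4 : y' (Pi.single j 1) i = 0 := h3
    rw [hza, Pi.smul_apply, h4, smul_zero]
  have hys : ∀ u, Q₀ (y u) = k * Q₀ u := by
    intro u
    rw [← hQL₀, ← hQL₀, ← hy1, hy2]
  rw [hX] at hyz
  obtain ⟨l, e, hl, hye, he⟩ := rigid_sim h2 h1 h1' hN1 hN2 hc hc' hcc ha hvQ hv1 hr1 hr2 hbig hys hy3 hbz hyz
  refine ⟨e, he, ?_⟩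
  have hfin : g = ofO Q (fsg fr e) * scal Q (Units.mk0 l hl) := by
    apply Subtype.ext
    ext1 w
    obtain ⟨u, rfl⟩ := fr.L₀.surjective w
    change g.1 (fr.L₀ u) = (ofO Q (fsg fr e)).1 ((scal Q (Units.mk0 l hl)).1 (fr.L₀ u))
    rw [hy1, scal_apply, ← map_smul, fsg_apply]
    congr 1
    funext i
    rw [hye, dgk_apply, Pi.smul_apply, smul_eq_mul, Units.val_mk0]
    ring
  rw [hfin, map_mul, Psi_scal hG, mul_one]

end Cfsg.Agent.H955.Rig
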