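import Mathlib
import Cfsg.Agent.H955.SimFin
import Cfsg.Agent.H955.SimAbs
import Cfsg.Agent.LieRecognition.FieldSemilinear

/-!
# From the separation of linear similitudes to `Row3 2 (P Q)` (helper955, S5761)

* `row_full` : all coordinates of `v` are nonzero;
* `row_one` : one zero, no field automorphisms;
* `row_klein` : two zeros, field with three elements.
-/

set_option autoImplicit false
set_option linter.unusedSectionVars false

namespace Cfsg.Agent.H955.Rig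

open QuadraticMap Cfsg Subgroup
open Cfsg.Agent.LieClassical.OrthCore Cfsg.Agent.LieClassical.OrthTrans Cfsg.Agent.LieClassical.OrthSimple
open Cfsg.Agent.ClassicalGeometry.OrthSemi Cfsg.Agent.ClassicalGeometry.OrthSemiCount
  Cfsg.Agent.ClassicalGeometry.OrthAut1
open Cfsg.Agent.H989.OutOrth.Basic (ofO ofO_apply isSS_ofO Psi_scal Psi_ofO sg_ofO sg_scal conj_injective)
open Cfsg.Agent.FooteOrth Cfsg.Agent.FooteOrth.Wr
open Cfsg.Agent.H233.B3 Cfsg.Agent.H903.SylMeet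
open Sum (inl inr)

section Field

variable (F : Type*) [Field F] [Finite F]

theorem finite_ringAut : Finite (RingAut F) := DFunLike.finite (F ≃+* F)

theorem card_ringAut_le : Nat.card (RingAut F) ≤ Nat.card F := by
  obtain ⟨g, hg⟩ := IsCyclic.exists_generator (α := Fˣ)
  refine Nat.card_le_card_of_injective (fun σ : RingAut F => σ (g : F)) fun σ τ h => ?_
  have h' : σ (g : F) = τ (g : F) := h
  ext x
  by_cases hx : x = 0
  · rw [hx, _root_.map_zero, _root_.map_zero]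
  · obtain ⟨k, hk⟩ := mem_zpowers_iff.1 (hg (Units.mk0 x hx))
    have h1 : x = (g : F) ^ k := by
      rw [← Units.val_zpow_eq_zpow_val, hk, Units.val_mk0]
    rw [h1, map_zpow₀, map_zpow₀, h']

theorem ringAut_invol (a b : RingAut F) (ha : a * a = 1) (hb : b * b = 1) (ha1 : a ≠ 1) (hb1 : b ≠ 1) : a = b := by
  have hfin := finite_ringAut F
  have hc : IsCyclic (RingAut F) := Cfsg.Agent.LieRecognition.FieldSemilinear.isCyclic_ringAut F
  have hF : Fact (Nat.Prime 2) := ⟨Nat.prime_two⟩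
  have e1 : a ^ 2 = 1 := by rw [pow_two, ha]
  have e3 : b ^ 2 = 1 := by rw [pow_two, hb]
  obtain ⟨k, hk⟩ := mem_zpowers_of_cyclic (p := 2) _ _ e1 ha1 e3
  rcases Int.even_or_odd' k with ⟨j, rfl | rfl⟩
  · exfalso
    apply hb1
    rw [← hk, zpow_mul]
    have : a ^ (2 : ℤ) = 1 := by exact_mod_cast e1
    rw [this, one_zpow]
  · rw [zpow_add, zpow_mul, zpow_one] at hk
    have : a ^ (2 : ℤ) = 1 := by exact_mod_cast e1
    rw [this, one_zpow, one_mul] at hk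
    exact hk

end Field

variable {F : Type*} [Field F] {ι : Type} [Fintype ι] [DecidableEq ι] {Q : QuadraticForm F (ι → F)}

theorem finite_P [Finite F] : Finite (P Q) := by
  have hfinY : Finite ((ι → F) ≃ₗ[F] (ι → F)) := DFunLike.finite _
  infer_instance

theorem not_comm (hG : Good Q) : ¬ IsMulCommutative (P Q) := by
  intro h
  have hinj := conj_injective hG
  have hs : IsSimpleGroup (P Q) := good_isSimpleGroup hG
  have : Nontrivial (P Q) := IsSimpleGroup.toNontrivial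
  obtain ⟨x, hx⟩ := exists_ne (1 : P Q)
  apply hx
  apply hinj
  ext t
  rw [map_one, MulAut.conj_apply, MulAut.one_apply, h.is_comm.comm x t, mul_inv_cancel_right]

theorem exists_inn (hG : Good Q) (t : P Q) :
    ∃ g : Gam Q, Cfsg.Agent.H989.OutOrth.Basic.sg hG g = 1 ∧ Psi Q g = MulAut.conj t := by
  induction t using QuotientGroup.induction_on with
  | H h => exact ⟨ofO Q ⟨h, E_le_O h.2⟩, sg_ofO hG _, Psi_ofO h⟩

theorem sg_of_Psi (hG : Good Q) (g : Gam Q) (h : Psi Q g = 1) : Cfsg.Agent.H989.OutOrth.Basic.sg hG g = 1 := by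
  rw [← MonoidHom.mem_ker, ker_Psi hG] at h
  obtain ⟨a, rfl⟩ := h
  exact sg_scal hG a

variable {m₁ δ₁ m₂ δ₂ : ℕ} {c c' : F}

/-- the conclusion of `sep_frame` -/
def SepV [Finite F] (hG : Good Q) (fr : Frm Q m₁ δ₁ m₂ δ₂ c c') (v : Fin (m₁ * 2 + δ₁) ⊕ Fin (m₂ * 2 + δ₂) → F) : Prop :=
  ∃ x : Gam Q, Cfsg.Agent.H989.OutOrth.Basic.sg hG x = 1 ∧
      ∀ g ∈ BB Q fr.L₀ (bet m₁ δ₁ m₂ δ₂), ∀ g' ∈ BB Q fr.L₀ (bet m₁ δ₁ m₂ δ₂),
        Psi Q g = Psi Q x * Psi Q g' * (Psi Q x)⁻¹ →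
        ∃ e : Fin (m₁ * 2 + δ₁) ⊕ Fin (m₂ * 2 + δ₂) → ℤˣ, (∀ i, v i ≠ 0 → e i = 1) ∧
          Psi Q g = Psi Q (ofO Q (fsg fr e))

theorem fsg_one (fr : Frm Q m₁ δ₁ m₂ δ₂ c c') : fsg fr 1 = 1 := by
  apply Subtype.ext
  change conjL fr.L₀ (dgk F _ 1) = 1
  rw [map_one, map_one]

theorem fsg_mul (fr : Frm Q m₁ δ₁ m₂ δ₂ c c') (e e' : Fin (m₁ * 2 + δ₁) ⊕ Fin (m₂ * 2 + δ₂) → ℤˣ) :
    fsg fr (e * e') = fsg fr e * fsg fr e' := by
  apply Subtype.ext
  change conjL fr.L₀ (dgk F _ (e * e')) = conjL fr.L₀ (dgk F _ e) * conjL fr.L₀ (dgk F _ e')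
  rw [map_mul, map_mul]

section rows

variable [Finite F] (hG : Good Q) (h2 : (2 : F) ≠ 0) (fr : Frm Q m₁ δ₁ m₂ δ₂ c c')
  {v : Fin (m₁ * 2 + δ₁) ⊕ Fin (m₂ * 2 + δ₂) → F} (hsep : SepV hG fr v)
  (hB : ¬ 2 ∣ (BB Q fr.L₀ (bet m₁ δ₁ m₂ δ₂)).relIndex (Cfsg.Agent.H989.OutOrth.Basic.sg hG).ker)
  (hodd : ¬ 2 ∣ (Psi Q).range.index) (hq : Nat.card F ^ 4 ∣ Nat.card (P Q))

include hG h2 hsep hB hodd

include hq in
theorem row_full (hfull : ∀ i, v i ≠ 0) : Row3 2 (P Q) := by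
  have hfinR := finite_ringAut F
  have hs : IsSimpleGroup (P Q) := good_isSimpleGroup hG
  have hfin : Finite (P Q) := finite_P
  obtain ⟨x, hx, hxs⟩ := hsep
  have hoF : Odd (Nat.card F) := by
    have hF : Fintype F := Fintype.ofFinite F
    rw [Nat.card_eq_fintype_card]
    exact Cfsg.Agent.LieClassical.PomegaCard.odd_card_iff.2 h2
  have h3 : 3 ≤ Nat.card F := by
    have h1 : 1 < Nat.card F := Finite.one_lt_card
    obtain ⟨k, hk⟩ := hoF
    omega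
  refine Sim.row3_full (Ψ := Psi Q) (s := Cfsg.Agent.H989.OutOrth.Basic.sg hG) (not_comm hG) (ringAut_invol F) ?_ hodd
    (sg_of_Psi hG) (exists_inn hG) (BB_le hG) hB (exp_four hG h2) hx ?_
  · intro Q' hQ'
    refine lt_index_of_dvd hoF.pow hq ?_ hQ'
    have h4 := card_ringAut_le F
    calc 3 * Nat.card (RingAut F) ≤ Nat.card F * Nat.card F := Nat.mul_le_mul h3 h4
      _ < Nat.card F * Nat.card F * (Nat.card F * Nat.card F) :=
        lt_mul_of_one_lt_right (by positivity) (by nlinarith)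
      _ = _ := by ring
  · intro g hg g' hg' h
    obtain ⟨e, he, h4⟩ := hxs g hg g' hg' h
    have h5 : e = 1 := funext fun i => he i (hfull i)
    rw [h4, h5, fsg_one, map_one, map_one]

theorem row_one (hF : ∀ σ : RingAut F, σ = 1) (i₀ : Fin (m₁ * 2 + δ₁) ⊕ Fin (m₂ * 2 + δ₂))
    (hz : ∀ i, v i = 0 → i = i₀) : Row3 2 (P Q) := by
  classical
  have hs : IsSimpleGroup (P Q) := good_isSimpleGroup hG
  have hfin : Finite (P Q) := finite_P
  obtain ⟨x, hx, hxs⟩ := hsep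
  refine Sim.row3_two (Ψ := Psi Q) (s := Cfsg.Agent.H989.OutOrth.Basic.sg hG) (not_comm hG) (fun g => hF _) hodd
    (exists_inn hG) (BB_le hG) hB (exp_four hG h2) (x := x) (r := Psi Q (ofO Q (fsg fr (Pi.mulSingle i₀ (-1))))) ?_
  intro g hg g' hg' h
  obtain ⟨e, he, h4⟩ := hxs g hg g' hg' h
  rcases Int.units_eq_one_or (e i₀) with h5 | h5
  · left
    have h6 : e = 1 := by
      funext i
      by_cases h7 : v i = 0
      · rw [hz i h7, h5]
        rfl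
      · exact he i h7
    rw [h4, h6, fsg_one, map_one, map_one]
  · right
    have h6 : e = Pi.mulSingle i₀ (-1) := by
      funext i
      by_cases h7 : i = i₀
      · rw [h7, h5, Pi.mulSingle_eq_same]
      · rw [Pi.mulSingle_eq_of_ne h7]
        exact he i fun h8 => h7 (hz i h8)
    rw [h4, h6]

end rows

/-! ### an inverted elementary abelian group -/

theorem perp_span {u f₁ f₂ : ι → F} (h₁ : polar Q u f₁ = 0) (h₂ : polar Q u f₂ = 0) (s t : F) :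
    polar Q u (s • f₁ + t • f₂) = 0 := by
  rw [polar_add_right, polar_smul_right, polar_smul_right, h₁, h₂, smul_zero, smul_zero, add_zero]

/-- a Siegel transformation in `E Q` -/
def sgm (Q : QuadraticForm F (ι → F)) {u w : ι → F} (hu : Q u = 0) (hw : polar Q u w = 0) : ↥(E Q) :=
  ⟨siegel Q u w hu hw, siegel_mem_E hu hw⟩

theorem sgm_congr {u w w' : ι → F} (hu : Q u = 0) (hw : polar Q u w = 0) (hw' : polar Q u w' = 0) (e : w = w') :
    sgm Q hu hw = sgm Q hu hw' := by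
  subst e
  rfl

/-- the Siegel transformations with a fixed singular vector -/
def sgl (Q : QuadraticForm F (ι → F)) {u f₁ f₂ : ι → F} (hu : Q u = 0) (h₁ : polar Q u f₁ = 0) (h₂ : polar Q u f₂ = 0) :
    Multiplicative (F × F) →* P Q :=
  MonoidHom.mk' (fun p => ((sgm Q hu (perp_span h₁ h₂ p.toAdd.1 p.toAdd.2) : ↥(E Q)) : P Q)) (fun p p' => by
    rw [← QuotientGroup.mk_mul]
    refine congrArg _ (Subtype.ext ?_)
    change siegel Q u _ hu (perp_span h₁ h₂ (p * p').toAdd.1 (p * p').toAdd.2) =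
      siegel Q u _ hu (perp_span h₁ h₂ p.toAdd.1 p.toAdd.2) * siegel Q u _ hu (perp_span h₁ h₂ p'.toAdd.1 p'.toAdd.2)
    rw [siegel_mul hu (perp_span h₁ h₂ p.toAdd.1 p.toAdd.2) (perp_span h₁ h₂ p'.toAdd.1 p'.toAdd.2)
      (by rw [polar_add_right, perp_span h₁ h₂, perp_span h₁ h₂, add_zero])]
    refine siegel_congr _ _ _ _ rfl ?_
    rw [toAdd_mul, Prod.fst_add, Prod.snd_add]
    module)

theorem sgl_apply {u f₁ f₂ : ι → F} (hu : Q u = 0) (h₁ : polar Q u f₁ = 0) (h₂ : polar Q u f₂ = 0)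
    (p : Multiplicative (F × F)) :
    sgl Q hu h₁ h₂ p = ((sgm Q hu (perp_span h₁ h₂ p.toAdd.1 p.toAdd.2) : ↥(E Q)) : P Q) := rfl

theorem sgl_injective (hG : Good Q) (h2 : (2 : F) ≠ 0) {u f₁ f₂ : ι → F} (hu : Q u = 0) (hu0 : u ≠ 0)
    (h₁ : polar Q u f₁ = 0) (h₂ : polar Q u f₂ = 0)
    (h12 : polar Q f₁ f₂ = 0) (hf₁ : Q f₁ ≠ 0) (hf₂ : Q f₂ ≠ 0) : Function.Injective (sgl Q hu h₁ h₂) := by
  rw [injective_iff_map_eq_one]
  intro p hp
  obtain ⟨w, hw⟩ : ∃ w, w = p.toAdd.1 • f₁ + p.toAdd.2 • f₂ := ⟨_, rfl⟩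
  have h0 : polar Q u w = 0 := by
    rw [hw]
    exact perp_span h₁ h₂ _ _
  have hp' : ((sgm Q hu h0 : ↥(E Q)) : P Q) = 1 := by
    rw [← hp, sgl_apply]
    exact congrArg _ (sgm_congr _ _ _ hw)
  have h3 : Psi Q (ofO Q ⟨siegel Q u w hu h0, siegel_mem_O hu h0⟩) = 1 := by
    have h4 := Psi_ofO (sgm Q hu h0)
    rw [hp', map_one] at h4
    exact h4
  rw [← MonoidHom.mem_ker, ker_Psi hG] at h3
  obtain ⟨a, ha⟩ := h3
  have h4 : ∀ x, (a : F) • x = siegel Q u w hu h0 x := by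
    intro x
    have h5 : (scal Q a).1 x = (ofO Q ⟨siegel Q u w hu h0, siegel_mem_O hu h0⟩).1 x := by rw [ha]
    exact h5
  have ha1 : (a : F) = 1 := by
    have h5 := h4 u
    rw [siegel_apply, polar_self_of_sing hu, polar_comm Q w u, h0] at h5
    have h6 : ((a : F) - 1) • u = 0 := by
      rw [sub_smul, h5, one_smul]
      simp
    rcases smul_eq_zero.1 h6 with h7 | h7
    · exact sub_eq_zero.1 h7
    · exact (hu0 h7).elim
  obtain ⟨x, hx⟩ := hG.nondeg.exists_polar_eq hu0 1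
  have h5 := h4 x
  rw [siegel_apply, hx, ha1, one_smul, one_smul, mul_one] at h5
  have h6 : w = (polar Q w x + Q w) • u := by
    have h7 : (w - (polar Q w x + Q w) • u) = 0 := by
      have h8 : x + w - polar Q w x • u - Q w • u = x + (w - (polar Q w x + Q w) • u) := by module
      rw [h8] at h5
      exact (left_eq_add.1 h5)
    exact sub_eq_zero.1 h7
  have h7 : polar Q w f₁ = 0 := by rw [h6, polar_smul_left, h₁, smul_zero]
  have h8 : polar Q w f₂ = 0 := by rw [h6, polar_smul_left, h₂, smul_zero]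
  rw [hw, polar_add_left, polar_smul_left, polar_smul_left, polar_self', polar_comm Q f₂ f₁, h12, smul_zero, add_zero,
    smul_eq_mul] at h7
  rw [hw, polar_add_left, polar_smul_left, polar_smul_left, polar_self', h12, smul_zero, zero_add, smul_eq_mul] at h8
  have h9 : p.toAdd.1 = 0 := (mul_eq_zero.1 h7).resolve_right (mul_ne_zero h2 hf₁)
  have h10 : p.toAdd.2 = 0 := (mul_eq_zero.1 h8).resolve_right (mul_ne_zero h2 hf₂)
  exact Multiplicative.toAdd.injective (Prod.ext h9 h10)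

theorem sgl_inv (hG : Good Q) {u f₁ f₂ : ι → F} (hu : Q u = 0)
    (h₁ : polar Q u f₁ = 0) (h₂ : polar Q u f₂ = 0) {M : O Q} (hMu : M.1 u = u) (hM1 : M.1 f₁ = -f₁)
    (hM2 : M.1 f₂ = -f₂) {t : P Q} (ht : t ∈ (sgl Q hu h₁ h₂).range) : Psi Q (ofO Q M) t = t⁻¹ := by
  obtain ⟨p, rfl⟩ := ht
  apply conj_injective hG
  obtain ⟨w, hw⟩ : ∃ w, w = p.toAdd.1 • f₁ + p.toAdd.2 • f₂ := ⟨_, rfl⟩
  have h0 : polar Q u w = 0 := by
    rw [hw]
    exact perp_span h₁ h₂ _ _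
  have hp' : sgl Q hu h₁ h₂ p = ((sgm Q hu h0 : ↥(E Q)) : P Q) := by
    rw [sgl_apply]
    exact congrArg _ (sgm_congr _ _ _ hw.symm)
  have hMw : M.1 w = -w := by
    rw [hw, map_add, map_smul, map_smul, hM1, hM2]
    module
  rw [← Cfsg.Agent.H903.SylMeet.conj_apply_aut, map_inv, hp', ← Psi_ofO, ← map_inv, ← map_inv, ← map_mul, ← map_mul,
    ← map_inv, ← map_mul, ← map_mul, ← map_inv]
  congr 2
  apply Subtype.ext
  change M.1 * siegel Q u w hu h0 * M.1⁻¹ = (siegel Q u w hu h0)⁻¹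
  have h3 : polar Q u (-w) = 0 := by rw [polar_neg_right, h0, neg_zero]
  rw [siegel_conj M.2 hu h0 (by rw [hMu]; exact hu) (by rw [hMu, hMw]; exact h3), siegel_inv hu h0 h3]
  exact siegel_congr _ _ _ _ hMu hMw

section rows

variable [Finite F] (hG : Good Q) (h2 : (2 : F) ≠ 0) (fr : Frm Q m₁ δ₁ m₂ δ₂ c c')
  {v : Fin (m₁ * 2 + δ₁) ⊕ Fin (m₂ * 2 + δ₂) → F} (hsep : SepV hG fr v)
  (hB : ¬ 2 ∣ (BB Q fr.L₀ (bet m₁ δ₁ m₂ δ₂)).relIndex (Cfsg.Agent.H989.OutOrth.Basic.sg hG).ker)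
  (hodd : ¬ 2 ∣ (Psi Q).range.index) (hq : Nat.card F ^ 4 ∣ Nat.card (P Q))

include hG h2 hsep hB hodd hq

theorem row_klein (hc : c ≠ 0) (hc' : c' ≠ 0) (h3 : (3 : F) = 0) (hF : ∀ σ : RingAut F, σ = 1)
    {i₁ i₂ : Fin (m₁ * 2 + δ₁) ⊕ Fin (m₂ * 2 + δ₂)} (h12 : i₁ ≠ i₂) (hz : ∀ i, v i = 0 → i = i₁ ∨ i = i₂)
    {j₁ j₂ j₃ : Fin (m₁ * 2 + δ₁)} (h4 : j₁ ≠ j₂) (h5 : j₁ ≠ j₃) (h6 : j₂ ≠ j₃)
    (h7 : ∀ j, j = j₁ ∨ j = j₂ ∨ j = j₃ → inl j ≠ i₁ ∧ inl j ≠ i₂) : Row3 2 (P Q) := by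
  classical
  have hs : IsSimpleGroup (P Q) := good_isSimpleGroup hG
  have hfin : Finite (P Q) := finite_P
  obtain ⟨x, hx, hxs⟩ := hsep
  have hoF : Odd (Nat.card F) := by
    have hF : Fintype F := Fintype.ofFinite F
    rw [Nat.card_eq_fintype_card]
    exact Cfsg.Agent.LieClassical.PomegaCard.odd_card_iff.2 h2
  have h3' : 3 ≤ Nat.card F := by
    have h1 : 1 < Nat.card F := Finite.one_lt_card
    obtain ⟨k, hk⟩ := hoF
    omega
  have hn0 : ∀ i, nrm m₁ δ₁ m₂ δ₂ c c' i ≠ 0 := by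
    rintro (i | i)
    · exact hc
    · exact hc'
  obtain ⟨f, hf⟩ : ∃ f : Fin (m₁ * 2 + δ₁) ⊕ Fin (m₂ * 2 + δ₂) → (ι → F), ∀ i, f i = fr.L₀ (Pi.single i 1) :=
    ⟨_, fun _ => rfl⟩
  have hQf : ∀ i, Q (f i) = nrm m₁ δ₁ m₂ δ₂ c c' i := by
    intro i
    rw [hf, fr.ha, Finset.sum_eq_single i]
    · rw [Pi.single_eq_same, mul_one, mul_one]
    · intro j _ hj
      rw [Pi.single_eq_of_ne hj, mul_zero, mul_zero]
    · intro h
      exact (h (Finset.mem_univ _)).elim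
  have hpf : ∀ i j, i ≠ j → polar Q (f i) (f j) = 0 := by
    intro i j hij
    rw [hf, hf, polar, ← map_add, fr.ha, fr.ha, fr.ha, ← Finset.sum_sub_distrib, ← Finset.sum_sub_distrib]
    refine Finset.sum_eq_zero fun k _ => ?_
    rw [Pi.add_apply]
    by_cases hk : k = i
    · have hkj : k ≠ j := by rw [hk]; exact hij
      rw [Pi.single_eq_of_ne hkj]
      ring
    · rw [Pi.single_eq_of_ne hk]
      ring
  obtain ⟨u, hu⟩ : ∃ u, u = f (inl j₁) + f (inl j₂) + f (inl j₃) := ⟨_, rfl⟩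
  have hQu : Q u = 0 := by
    rw [hu, Q_add, Q_add, polar_add_left, hQf, hQf, hQf, hpf _ _ (fun h => h4 (Sum.inl.inj h)),
      hpf _ _ (fun h => h5 (Sum.inl.inj h)), hpf _ _ (fun h => h6 (Sum.inl.inj h))]
    change c + c + 0 + c + (0 + 0) = 0
    linear_combination c * h3
  have hu0 : u ≠ 0 := by
    intro h
    have h8 : polar Q u (f (inl j₁)) = 2 * c := by
      rw [hu, polar_add_left, polar_add_left, polar_self', hQf, hpf _ _ (fun h => h4 (Sum.inl.inj h).symm),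
        hpf _ _ (fun h => h5 (Sum.inl.inj h).symm), add_zero, add_zero]
      rfl
    rw [h, polar_zero_left] at h8
    exact mul_ne_zero h2 hc h8.symm
  have hup : ∀ i, (∀ j, j = j₁ ∨ j = j₂ ∨ j = j₃ → inl j ≠ i) → polar Q u (f i) = 0 := by
    intro i hi
    rw [hu, polar_add_left, polar_add_left, hpf _ _ (hi _ (Or.inl rfl)), hpf _ _ (hi _ (Or.inr (Or.inl rfl))),
      hpf _ _ (hi _ (Or.inr (Or.inr rfl))), add_zero, add_zero]
  have hu1 := hup i₁ fun j hj => (h7 j hj).1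
  have hu2 := hup i₂ fun j hj => (h7 j hj).2
  -- the sign changes
  obtain ⟨e₃, he₃⟩ : ∃ e₃ : Fin (m₁ * 2 + δ₁) ⊕ Fin (m₂ * 2 + δ₂) → ℤˣ,
    e₃ = fun i => if i = i₁ ∨ i = i₂ then -1 else 1 := ⟨_, rfl⟩
  have hMf : ∀ (e : Fin (m₁ * 2 + δ₁) ⊕ Fin (m₂ * 2 + δ₂) → ℤˣ) i, (fsg fr e).1 (f i) = (((e i : ℤ) : F)) • f i := by
    intro e i
    rw [hf]
    change conjL fr.L₀ (dgk F _ e) (fr.L₀ (Pi.single i 1)) = _
    rw [conjL_apply, ← map_smul]
    congr 1
    funext j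
    rw [dgk_apply, Pi.smul_apply, smul_eq_mul]
    by_cases hj : j = i
    · rw [hj]
    · rw [Pi.single_eq_of_ne hj, mul_zero, mul_zero]
  have he₃' : ∀ i, e₃ i = if i = i₁ ∨ i = i₂ then -1 else 1 := fun i => by rw [he₃]
  have hMi : ∀ i, (i = i₁ ∨ i = i₂) → (fsg fr e₃).1 (f i) = -f i := by
    intro i hi
    rw [hMf, he₃', if_pos hi]
    simp
  have hMj : ∀ i, ¬ (i = i₁ ∨ i = i₂) → (fsg fr e₃).1 (f i) = f i := by
    intro i hi
    rw [hMf, he₃', if_neg hi]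
    simp
  have hMu : (fsg fr e₃).1 u = u := by
    have h8 : ∀ j, j = j₁ ∨ j = j₂ ∨ j = j₃ → ¬ (inl j = i₁ ∨ inl j = i₂) := by
      intro j hj h
      rcases h with h | h
      · exact (h7 j hj).1 h
      · exact (h7 j hj).2 h
    rw [hu, map_add, map_add, hMj _ (h8 _ (Or.inl rfl)), hMj _ (h8 _ (Or.inr (Or.inl rfl))),
      hMj _ (h8 _ (Or.inr (Or.inr rfl)))]
  have hrr : ∀ e : Fin (m₁ * 2 + δ₁) ⊕ Fin (m₂ * 2 + δ₂) → ℤˣ,
      Psi Q (ofO Q (fsg fr e)) * Psi Q (ofO Q (fsg fr e)) = 1 := by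
    intro e
    rw [← map_mul, ← map_mul, ← fsg_mul]
    have h8 : e * e = 1 := funext fun i => Int.units_mul_self _
    rw [h8, fsg_one, map_one, map_one]
  have hRc : Nat.card (sgl Q hQu hu1 hu2).range = Nat.card F * Nat.card F := by
    rw [Nat.card_congr (MonoidHom.ofInjective (sgl_injective hG h2 hQu hu0 hu1 hu2 (hpf _ _ h12)
      (by rw [hQf]; exact hn0 _) (by rw [hQf]; exact hn0 _))).symm.toEquiv]
    rw [Nat.card_congr Multiplicative.toAdd, Nat.card_prod]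
  refine Sim.row3_klein (Ψ := Psi Q) (s := Cfsg.Agent.H989.OutOrth.Basic.sg hG) (not_comm hG) (fun g => hF _) hodd
    (exists_inn hG) (BB_le hG) hB (exp_four hG h2) (x := x) (r₁ := Psi Q (ofO Q (fsg fr (Pi.mulSingle i₁ (-1)))))
    (r₂ := Psi Q (ofO Q (fsg fr (Pi.mulSingle i₂ (-1))))) (r₃ := Psi Q (ofO Q (fsg fr e₃)))
    (R := (sgl Q hQu hu1 hu2).range) (hrr _) (hrr _) (by rw [hRc]; exact hoF.mul hoF) (by rw [hRc]; nlinarith)
    (fun t ht => sgl_inv hG hQu hu1 hu2 hMu (hMi _ (Or.inl rfl)) (hMi _ (Or.inr rfl)) ht) ?_ ?_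
  · intro Q' hQ'
    refine lt_index_of_dvd hoF.pow hq ?_ hQ'
    calc 36 < 3 ^ 4 := by norm_num
      _ ≤ _ := Nat.pow_le_pow_left h3' 4
  · intro g hg g' hg' h
    obtain ⟨e, he, h8⟩ := hxs g hg g' hg' h
    have hext : ∀ e' : Fin (m₁ * 2 + δ₁) ⊕ Fin (m₂ * 2 + δ₂) → ℤˣ, e i₁ = e' i₁ → e i₂ = e' i₂ →
        (∀ i, i ≠ i₁ → i ≠ i₂ → e' i = 1) → e = e' := by
      intro e' ha hb hc
      funext i
      by_cases hi1 : i = i₁
      · rw [hi1, ha]
      by_cases hi2 : i = i₂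
      · rw [hi2, hb]
      rw [hc i hi1 hi2]
      apply he
      intro h9
      rcases hz i h9 with h10 | h10
      · exact hi1 h10
      · exact hi2 h10
    rcases Int.units_eq_one_or (e i₁) with ha | ha <;> rcases Int.units_eq_one_or (e i₂) with hb | hb
    · left
      rw [h8, hext 1 (by rw [ha]; rfl) (by rw [hb]; rfl) (fun _ _ _ => rfl), fsg_one, map_one, map_one]
    · right; right; left
      rw [h8, hext (Pi.mulSingle i₂ (-1)) (by rw [ha, Pi.mulSingle_eq_of_ne h12]) (by rw [hb, Pi.mulSingle_eq_same])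
        (fun i _ hi => Pi.mulSingle_eq_of_ne hi _)]
    · right; left
      rw [h8, hext (Pi.mulSingle i₁ (-1)) (by rw [ha, Pi.mulSingle_eq_same]) (by rw [hb, Pi.mulSingle_eq_of_ne h12.symm])
        (fun i hi _ => Pi.mulSingle_eq_of_ne hi _)]
    · right; right; right
      rw [h8, hext e₃ (by rw [ha, he₃', if_pos (Or.inl rfl)]) (by rw [hb, he₃', if_pos (Or.inr rfl)])
        (fun i hi hi' => by rw [he₃', if_neg]; rintro (h | h); exacts [hi h, hi' h])]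

end rows

end Cfsg.Agent.H955.Rig
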