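import Mathlib
import Cfsg.Agent.H955.SimRow
import Cfsg.Agent.H955.FrameRows
import Cfsg.Agent.Lib.FieldAutCard
import Cfsg.Agent.S0292
import Cfsg.Agent.S0293
import Cfsg.Agent.S0294

/-!
# `Row3 2` for the orthogonal groups of dimension at least seven in odd characteristic (helper955, S5761)

`row2_odd`, `row2_plus`, `row2_minus`.
-/

set_option autoImplicit false
set_option linter.unusedSectionVars false

namespace Cfsg.Agent.H955.Rig

open QuadraticMap Cfsg Subgroup
open Cfsg.Agent.LieClassical.OrthCore Cfsg.Agent.LieClassical.OrthTrans Cfsg.Agent.LieClassical.OrthForms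
open Cfsg.Agent.ClassicalGeometry.OrthSemi Cfsg.Agent.ClassicalGeometry.OrthAut1
open Cfsg.Agent.FooteOrth Cfsg.Agent.FooteOrth.Wr
open Cfsg.Agent.ClassicalGeometry.OrthSemiForms (good_plus good_minus good_odd card_O pomegaEquiv)
open Cfsg.Agent.H233.B3
open Sum (inl inr)

variable {F : Type*} [Field F] {ι : Type} [Fintype ι] [DecidableEq ι] {Q : QuadraticForm F (ι → F)}

/-- odd characteristic, fewer than nine elements -/
theorem ringAut_trivial [Finite F] (h : Nat.card F < 9) (h2 : (2 : F) ≠ 0) (σ : RingAut F) : σ = 1 := by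
  classical
  have hF : Fintype F := Fintype.ofFinite F
  obtain ⟨p, hp⟩ := CharP.exists F
  obtain ⟨n, hp', hn⟩ := FiniteField.card F p
  have hpp : Fact p.Prime := ⟨hp'⟩
  have hp2 : p ≠ 2 := by
    rintro rfl
    exact h2 (by exact_mod_cast CharP.cast_eq_zero F 2)
  have hp3 : 3 ≤ p := by
    have := hp'.two_le
    omega
  have hn1 : (n : ℕ) = 1 := by
    by_contra hne
    have h1 : 2 ≤ (n : ℕ) := by
      have := n.pos
      omega
    rw [Nat.card_eq_fintype_card, hn] at h
    have h3 : 3 ^ 2 ≤ p ^ (n : ℕ) := (Nat.pow_le_pow_left hp3 2).trans (Nat.pow_le_pow_right (by omega) h1)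
    omega
  have hc : Nat.card (F ≃+* F) = n := Cfsg.Agent.Lib.FieldAutCard.card_ringAut n.pos hn
  rw [hn1, Nat.card_eq_one_iff_unique] at hc
  exact hc.1.elim _ _

/-- a field whose nonzero elements have at most two squares -/
theorem card_lt_nine [Finite F] {a : F} (h : ∀ t : F, t ≠ 0 → t * t = 1 ∨ t * t = a) : Nat.card F < 9 := by
  classical
  have hF : Fintype F := Fintype.ofFinite F
  have key : ∀ b : F, (Finset.univ.filter fun t : F => t * t = b).card ≤ 2 := by
    intro b
    by_contra hcon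
    push Not at hcon
    obtain ⟨x, hx, y, hy, z, hz, hxy, hxz, hyz⟩ := Finset.two_lt_card.1 hcon
    rw [Finset.mem_filter] at hx hy hz
    have h1 := mul_self_eq_mul_self_iff.1 (hx.2.trans hy.2.symm)
    have h2 := mul_self_eq_mul_self_iff.1 (hx.2.trans hz.2.symm)
    rcases h1 with h1 | h1
    · exact hxy h1
    · rcases h2 with h2 | h2
      · exact hxz h2
      · exact hyz (neg_injective (h1.symm.trans h2))
  have hcov : (Finset.univ : Finset F) ⊆ {0} ∪ ((Finset.univ.filter fun t : F => t * t = 1) ∪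
      (Finset.univ.filter fun t : F => t * t = a)) := by
    intro t _
    rw [Finset.mem_union, Finset.mem_union, Finset.mem_filter, Finset.mem_filter, Finset.mem_singleton]
    by_cases ht : t = 0
    · exact Or.inl ht
    · rcases h t ht with h1 | h1
      · exact Or.inr (Or.inl ⟨Finset.mem_univ _, h1⟩)
      · exact Or.inr (Or.inr ⟨Finset.mem_univ _, h1⟩)
  have h1 := Finset.card_le_card hcov
  have h2 := Finset.card_union_le {(0 : F)} ((Finset.univ.filter fun t : F => t * t = 1) ∪
      (Finset.univ.filter fun t : F => t * t = a))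
  have h3 := Finset.card_union_le (Finset.univ.filter fun t : F => t * t = 1) (Finset.univ.filter fun t : F => t * t = a)
  have h4 := key 1
  have h5 := key a
  rw [Finset.card_singleton] at h2
  rw [Nat.card_eq_fintype_card, ← Finset.card_univ]
  omega

/-- `x, 1, 1, …` -/
def w1 (F : Type*) [Field F] (n : ℕ) (x : F) (i : Fin n) : F := if (i : ℕ) = 0 then x else 1

theorem w1_zero {n : ℕ} {x : F} {i : Fin n} (hi : (i : ℕ) = 0) : w1 F n x i = x := if_pos hi

theorem w1_ne {n : ℕ} {x : F} {i : Fin n} (hi : (i : ℕ) ≠ 0) : w1 F n x i = 1 := if_neg hi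

theorem sum_w1 {n : ℕ} (hn : 1 ≤ n) (x : F) : ∑ i, w1 F n x i * w1 F n x i = x * x + ((n : F) - 1) := by
  obtain ⟨r, rfl⟩ := Nat.exists_eq_add_of_le' hn
  rw [Fin.sum_univ_succ]
  have h1 : ∀ i : Fin r, w1 F (r + 1) x i.succ = 1 := fun i => w1_ne (by rw [Fin.val_succ]; omega)
  rw [w1_zero (by rfl)]
  simp only [h1]
  rw [Finset.sum_const, Finset.card_univ, Fintype.card_fin]
  push_cast
  rw [nsmul_eq_mul]
  ring

section ww

variable {m₁ δ₁ m₂ δ₂ : ℕ} {c c' : F}

/-- the vectors used -/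
def vv (m₁ δ₁ m₂ δ₂ : ℕ) (x x' : F) : Fin (m₁ * 2 + δ₁) ⊕ Fin (m₂ * 2 + δ₂) → F :=
  Sum.elim (w1 F (m₁ * 2 + δ₁) x) (w1 F (m₂ * 2 + δ₂) x')

theorem vv_ne {x x' : F} {i : Fin (m₁ * 2 + δ₁) ⊕ Fin (m₂ * 2 + δ₂)}
    (h : ∀ j : Fin (m₁ * 2 + δ₁), i = inl j → (j : ℕ) = 0 → x ≠ 0)
    (h' : ∀ j : Fin (m₂ * 2 + δ₂), i = inr j → (j : ℕ) = 0 → x' ≠ 0) : vv m₁ δ₁ m₂ δ₂ x x' i ≠ 0 := by
  rcases i with j | j
  · change w1 F _ x j ≠ 0
    by_cases hj : (j : ℕ) = 0
    · rw [w1_zero hj]
      exact h j rfl hj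
    · rw [w1_ne hj]
      exact one_ne_zero
  · change w1 F _ x' j ≠ 0
    by_cases hj : (j : ℕ) = 0
    · rw [w1_zero hj]
      exact h' j rfl hj
    · rw [w1_ne hj]
      exact one_ne_zero

theorem sep_vv [Finite F] (hG : Good Q) (h2 : (2 : F) ≠ 0) (fr : Frm Q m₁ δ₁ m₂ δ₂ c c') (h1 : δ₁ ≤ 1) (h1' : δ₂ ≤ 1)
    (hN1 : 6 - δ₁ ≤ m₁ * 2 + δ₁) (hN2 : m₂ * 2 + δ₂ ≠ 2) (hc : c ≠ 0) (hc' : c' ≠ 0)
    (hcc : m₂ * 2 + δ₂ ≠ 0 → ¬ IsSquare (c * c')) {x x' : F}
    (hx : δ₁ ≠ 0 → x ≠ 0) (hx1 : δ₁ = 0 → x * x ≠ 1) (hx' : δ₂ = 0 → x' * x' ≠ 1)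
    (hv : c * (x * x + (((m₁ * 2 + δ₁ : ℕ) : F) - 1)) +
      c' * (if m₂ * 2 + δ₂ = 0 then 0 else x' * x' + (((m₂ * 2 + δ₂ : ℕ) : F) - 1)) ≠ 0)
    (H : Finset (Fin (m₁ * 2 + δ₁) ⊕ Fin (m₂ * 2 + δ₂))) (hH : ∀ i, i ∉ H → vv m₁ δ₁ m₂ δ₂ x x' i ≠ 0)
    (hHc : H.card + 6 < (m₁ * 2 + δ₁) + (m₂ * 2 + δ₂)) : SepV hG fr (vv m₁ δ₁ m₂ δ₂ x x') := by
  refine sep_frame hG h2 fr h1 h1' hN1 hN2 hc hc' hcc ?_ ?_ ?_ ?_ ?_
  · change c * ∑ i, w1 F (m₁ * 2 + δ₁) x i * w1 F (m₁ * 2 + δ₁) x i +
      c' * ∑ i, w1 F (m₂ * 2 + δ₂) x' i * w1 F (m₂ * 2 + δ₂) x' i ≠ 0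
    rw [sum_w1 (by omega)]
    have h3 : ∑ i, w1 F (m₂ * 2 + δ₂) x' i * w1 F (m₂ * 2 + δ₂) x' i =
        if m₂ * 2 + δ₂ = 0 then 0 else x' * x' + (((m₂ * 2 + δ₂ : ℕ) : F) - 1) := by
      split_ifs with h
      · refine Finset.sum_eq_zero fun i _ => ?_
        have := i.2
        omega
      · exact sum_w1 (by omega) x'
    rw [h3]
    exact hv
  · intro i hi
    refine vv_ne (fun j hj hj0 => ?_) (fun j hj => by cases hj)
    cases hj
    rcases hi with hi | hi
    · exact (hi hj0).elim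
    · exact hx hi
  · intro hd i j hj hij
    by_contra hi
    change w1 F _ x i * w1 F _ x i = w1 F _ x j * w1 F _ x j at hij
    rw [w1_zero hj, w1_ne hi, mul_one] at hij
    exact hx1 hd hij.symm
  · intro hd i j hj hij
    by_contra hi
    change w1 F _ x' i * w1 F _ x' i = w1 F _ x' j * w1 F _ x' j at hij
    rw [w1_zero hj, w1_ne hi, mul_one] at hij
    exact hx' hd hij.symm
  · refine big_of H hH ?_
    rw [Fintype.card_sum, Fintype.card_fin, Fintype.card_fin]
    exact hHc

end ww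

/-- **`Row3` from the model.** -/
theorem row3_of_has [Finite F] (hG : Good Q) (h2 : (2 : F) ≠ 0) {m k : ℕ} {d : Fin k → F} (h : Has Q m k d)
    (hd0 : ∀ j, d j ≠ 0) (hn : 7 ≤ 2 * m + k)
    (hk : k = 0 ∨ k = 1 ∨ ∃ c : F, ¬ IsSquare c ∧ ∃ _ : k = 2, ∀ j, d j = if (j : ℕ) = 0 then 1 else c)
    (hdim : Module.finrank F (ι → F) = 2 * m + k)
    (hcard : (Nat.card (O Q)).factorization 2 ≤
      m * (Nat.card F ^ 2 - 1).factorization 2 + k + (m.factorial).factorization 2)
    (hodd : ¬ 2 ∣ (Psi Q).range.index) (hq : Nat.card F ^ 4 ∣ Nat.card (P Q)) :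
    Row3 2 (P Q) := by
  classical
  rcases hk with rfl | rfl | ⟨c, hc, rfl, hdj⟩
  · -- even dimension, no lines
    have hd : ∀ c : F, d = fun j : Fin (0 + 0) => if (j : ℕ) < 0 then (1 : F) else c := fun c => funext fun j => j.elim0
    by_cases hA : ∃ t : F, t ≠ 0 ∧ t * t ≠ 1 ∧ t * t + (((m * 2 + 0 : ℕ) : F) - 1) ≠ 0
    · obtain ⟨t, ht0, ht1, ht⟩ := hA
      rw [hd 1] at h
      obtain ⟨fr⟩ := exists_frame (m₁ := m) (δ₁ := 0) (m₂ := 0) (δ₂ := 0) h2 one_ne_zero one_ne_zero h
      have hfull : ∀ i, vv m 0 0 0 t 0 i ≠ 0 := fun i => vv_ne (fun _ _ _ => ht0) (fun j => j.elim0)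
      refine row_full hG h2 fr (sep_vv hG h2 fr (by norm_num) (by norm_num) (by omega) (by norm_num) one_ne_zero one_ne_zero
        (fun h => (h rfl).elim) (fun h => (h rfl).elim) (fun _ => ht1) (x' := 0) (fun _ => by simp) ?_ ∅ (fun i _ => hfull i)
        (by rw [Finset.card_empty]; omega)) (odd_BB hG h2 fr one_ne_zero one_ne_zero (hdim.trans (by omega)) (Or.inl ⟨rfl, rfl⟩) hcard)
        hodd hq hfull
      rw [if_pos rfl, mul_zero, add_zero, one_mul]
      exact ht
    · push Not at hA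
      have hlt : Nat.card F < 9 := card_lt_nine (a := -(((m * 2 + 0 : ℕ) : F) - 1)) (by
        intro t ht
        by_cases h1 : t * t = 1
        · exact Or.inl h1
        · right
          have := hA t ht h1
          linear_combination this)
      by_cases h3 : (((m * 2 + 0 : ℕ) : F) - 1) = 0
      · -- three elements
        have hsq : ∀ t : F, t ≠ 0 → t * t = 1 := by
          intro t ht
          by_contra h1
          have h4 := hA t ht h1
          rw [h3, add_zero] at h4
          exact ht (mul_self_eq_zero.1 h4)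
        have h30 : (3 : F) = 0 := by linear_combination hsq 2 h2
        have hns : ¬ IsSquare (-1 : F) := by
          rintro ⟨t, ht⟩
          have ht0 : t ≠ 0 := by
            rintro rfl
            rw [mul_zero] at ht
            exact neg_ne_zero.2 one_ne_zero ht
          rw [hsq t ht0] at ht
          apply h2
          linear_combination -ht
        rw [hd (-1)] at h
        have hm : 5 ≤ m := by
          by_contra hcon
          have h5 : m = 4 := by omega
          subst h5
          apply one_ne_zero (α := F)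
          push_cast at h3
          linear_combination h3 - 2 * h30
        obtain ⟨m₁, rfl⟩ : ∃ m₁, m = m₁ + 2 := ⟨m - 2, by omega⟩
        obtain ⟨fr⟩ := exists_frame (m₁ := m₁) (δ₁ := 0) (m₂ := 2) (δ₂ := 0) h2 one_ne_zero
          (neg_ne_zero.2 (one_ne_zero (α := F))) h
        have hz : ∀ i, i ∉ ({inl ⟨0, by omega⟩, inr ⟨0, by omega⟩} : Finset (Fin (m₁ * 2 + 0) ⊕ Fin (2 * 2 + 0))) →
            vv m₁ 0 2 0 (0 : F) 0 i ≠ 0 := by
          intro i hi
          rw [Finset.mem_insert, Finset.mem_singleton, not_or] at hi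
          refine vv_ne (fun j hj hj0 => ?_) (fun j hj hj0 => ?_)
          · exact (hi.1 (by rw [hj]; congr 1; exact Fin.ext hj0)).elim
          · exact (hi.2 (by rw [hj]; congr 1; exact Fin.ext hj0)).elim
        refine row_klein hG h2 fr (sep_vv hG h2 fr (by norm_num) (by norm_num) (by omega) (by norm_num) one_ne_zero
          (neg_ne_zero.2 one_ne_zero) (fun _ => by rwa [one_mul]) (x := 0) (x' := 0) (fun h => (h rfl).elim)
          (fun _ => by simp) (fun _ => by simp) ?_ _ hz ?_) (odd_BB hG h2 fr one_ne_zero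
          (neg_ne_zero.2 one_ne_zero) (hdim.trans (by omega)) (Or.inl ⟨rfl, rfl⟩) hcard) hodd hq one_ne_zero
          (neg_ne_zero.2 one_ne_zero) h30 (fun σ => ringAut_trivial hlt h2 σ) (i₁ := inl ⟨0, by omega⟩)
          (i₂ := inr ⟨0, by omega⟩) (by simp) ?_ (j₁ := ⟨1, by omega⟩) (j₂ := ⟨2, by omega⟩) (j₃ := ⟨3, by omega⟩)
          (by simp) (by simp) (by simp) ?_
        · rw [if_neg (by norm_num)]
          intro h5
          apply one_ne_zero (α := F)
          push_cast at h3 h5
          linear_combination h3 - h5 - 2 * h30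
        · refine lt_of_le_of_lt (Nat.add_le_add_right (Finset.card_le_two) _) ?_
          omega
        · intro i hi
          by_contra hcon
          rw [not_or] at hcon
          exact hz i (by rw [Finset.mem_insert, Finset.mem_singleton, not_or]; exact hcon) hi
        · rintro j (rfl | rfl | rfl) <;> simp
      · -- one zero
        rw [hd 1] at h
        obtain ⟨fr⟩ := exists_frame (m₁ := m) (δ₁ := 0) (m₂ := 0) (δ₂ := 0) h2 one_ne_zero one_ne_zero h
        have hz : ∀ i, i ∉ ({inl ⟨0, by omega⟩} : Finset (Fin (m * 2 + 0) ⊕ Fin (0 * 2 + 0))) →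
            vv m 0 0 0 (0 : F) 0 i ≠ 0 := by
          intro i hi
          rw [Finset.mem_singleton] at hi
          refine vv_ne (fun j hj hj0 => ?_) (fun j => j.elim0)
          exact (hi (by rw [hj]; congr 1; exact Fin.ext hj0)).elim
        refine row_one hG h2 fr (sep_vv hG h2 fr (by norm_num) (by norm_num) (by omega) (by norm_num) one_ne_zero one_ne_zero
          (fun h => (h rfl).elim) (x := 0) (x' := 0) (fun h => (h rfl).elim) (fun _ => by simp) (fun _ => by simp) ?_ _ hz
          (by rw [Finset.card_singleton]; omega)) (odd_BB hG h2 fr one_ne_zero one_ne_zero (hdim.trans (by omega))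
            (Or.inl ⟨rfl, rfl⟩) hcard) hodd (fun σ => ringAut_trivial hlt h2 σ) (inl ⟨0, by omega⟩) ?_
        · rw [if_pos rfl]
          intro h5
          apply h3
          push_cast at h5 ⊢
          linear_combination h5
        · intro i hi
          by_contra hcon
          exact hz i (by rwa [Finset.mem_singleton]) hi
  · -- odd dimension
    have h0 := hd0 0
    obtain ⟨c, hc⟩ : ∃ c, c = d 0 := ⟨_, rfl⟩
    rw [← hc] at h0
    have hd : ∀ c' : F, d = fun j : Fin (1 + 0) => if (j : ℕ) < 1 then c else c' := fun c' => funext fun j => by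
      have h3 : j = (0 : Fin 1) := Subsingleton.elim _ _
      rw [h3, ← hc]
      rfl
    by_cases hA : ∃ t : F, t ≠ 0 ∧ t * t + (((m * 2 + 1 : ℕ) : F) - 1) ≠ 0
    · obtain ⟨t, ht0, ht⟩ := hA
      rw [hd 1] at h
      obtain ⟨fr⟩ := exists_frame (m₁ := m) (δ₁ := 1) (m₂ := 0) (δ₂ := 0) h2 h0 one_ne_zero h
      have hfull : ∀ i, vv m 1 0 0 t 0 i ≠ 0 := fun i => vv_ne (fun _ _ _ => ht0) (fun j => j.elim0)
      refine row_full hG h2 fr (sep_vv hG h2 fr le_rfl (by norm_num) (by omega) (by norm_num) h0 one_ne_zero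
        (fun h => (h rfl).elim) (fun _ => ht0) (fun h => (one_ne_zero h).elim) (x' := 0) (fun _ => by simp) ?_ ∅
        (fun i _ => hfull i) (by rw [Finset.card_empty]; omega)) (odd_BB hG h2 fr h0 one_ne_zero (hdim.trans (by omega))
          (Or.inr (Or.inl rfl)) hcard) hodd hq hfull
      rw [if_pos rfl, mul_zero, add_zero]
      exact mul_ne_zero h0 ht
    · push Not at hA
      have hsq : ∀ t : F, t ≠ 0 → t * t = 1 := by
        intro t ht
        have h4 := hA t ht
        have h5 := hA 1 one_ne_zero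
        linear_combination h4 - h5
      have hlt : Nat.card F < 9 := card_lt_nine (a := 1) fun t ht => Or.inl (hsq t ht)
      have h30 : (3 : F) = 0 := by linear_combination hsq 2 h2
      have h3 := hA 1 one_ne_zero
      have hns : ¬ IsSquare (-1 : F) := by
        rintro ⟨t, ht⟩
        have ht0 : t ≠ 0 := by
          rintro rfl
          rw [mul_zero] at ht
          exact neg_ne_zero.2 one_ne_zero ht
        rw [hsq t ht0] at ht
        apply h2
        linear_combination -ht
      rw [hd (-c)] at h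
      have hm : 4 ≤ m := by
        by_contra hcon
        have h5 : m = 3 := by omega
        subst h5
        apply one_ne_zero (α := F)
        push_cast at h3
        linear_combination h3 - 2 * h30
      obtain ⟨m₁, rfl⟩ : ∃ m₁, m = m₁ + 2 := ⟨m - 2, by omega⟩
      obtain ⟨fr⟩ := exists_frame (m₁ := m₁) (δ₁ := 1) (m₂ := 2) (δ₂ := 0) h2 h0 (neg_ne_zero.2 h0) h
      have hz : ∀ i, i ∉ ({inr ⟨0, by omega⟩} : Finset (Fin (m₁ * 2 + 1) ⊕ Fin (2 * 2 + 0))) →
          vv m₁ 1 2 0 (1 : F) 0 i ≠ 0 := by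
        intro i hi
        rw [Finset.mem_singleton] at hi
        refine vv_ne (fun _ _ _ => one_ne_zero) (fun j hj hj0 => ?_)
        exact (hi (by rw [hj]; congr 1; exact Fin.ext hj0)).elim
      refine row_one hG h2 fr (sep_vv hG h2 fr le_rfl (by norm_num) (by omega) (by norm_num) h0 (neg_ne_zero.2 h0)
        (fun _ => ?_) (x := 1) (x' := 0) (fun _ => one_ne_zero) (fun h => (one_ne_zero h).elim) (fun _ => by simp) ?_ _ hz
        (by rw [Finset.card_singleton]; omega)) (odd_BB hG h2 fr h0 (neg_ne_zero.2 h0) (hdim.trans (by omega))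
          (Or.inr (Or.inl rfl)) hcard) hodd (fun σ => ringAut_trivial hlt h2 σ) (inr ⟨0, by omega⟩) ?_
      · rintro ⟨s, hs⟩
        apply hns
        refine ⟨s * c⁻¹, ?_⟩
        field_simp
        linear_combination hs
      · rw [if_neg (by norm_num)]
        intro h5
        apply one_ne_zero (α := F)
        have h6 : c * (1 * 1 + (((m₁ * 2 + 1 : ℕ) : F) - 1) - (0 * 0 + (((2 * 2 + 0 : ℕ) : F) - 1))) = 0 := by
          linear_combination h5
        have h7 := (mul_eq_zero.1 h6).resolve_left h0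
        push_cast at h3 h7
        linear_combination h3 - h7 - 2 * h30
      · intro i hi
        by_contra hcon
        exact hz i (by rwa [Finset.mem_singleton]) hi
  · -- even dimension, two lines
    have hc0 : c ≠ 0 := by
      rintro rfl
      exact hc IsSquare.zero
    have hd : d = fun j : Fin (1 + 1) => if (j : ℕ) < 1 then (1 : F) else c := by
      funext j
      rw [hdj]
      simp only [Nat.lt_one_iff]
    rw [hd] at h
    by_cases hA : ∃ x' : F, x' ≠ 0 ∧ ((m * 2 + 1 : ℕ) : F) + c * (x' * x') ≠ 0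
    · obtain ⟨t, ht0, ht⟩ := hA
      obtain ⟨fr⟩ := exists_frame (m₁ := m) (δ₁ := 1) (m₂ := 0) (δ₂ := 1) h2 one_ne_zero hc0 h
      have hfull : ∀ i, vv m 1 0 1 1 t i ≠ 0 := fun i => vv_ne (fun _ _ _ => one_ne_zero) (fun _ _ _ => ht0)
      refine row_full hG h2 fr (sep_vv hG h2 fr le_rfl le_rfl (by omega) (by norm_num) one_ne_zero hc0
        (fun _ => by rwa [one_mul]) (fun _ => one_ne_zero) (fun h => (one_ne_zero h).elim) (fun h => (one_ne_zero h).elim)
        ?_ ∅ (fun i _ => hfull i) (by rw [Finset.card_empty]; omega)) (odd_BB hG h2 fr one_ne_zero hc0 (hdim.trans (by omega))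
          (Or.inr (Or.inr ⟨rfl, rfl, by rwa [one_mul]⟩)) hcard) hodd hq hfull
      rw [if_neg (by norm_num)]
      intro h5
      apply ht
      push_cast at h5 ⊢
      linear_combination h5
    · push Not at hA
      have h3 := hA 1 one_ne_zero
      have hsq : ∀ t : F, t ≠ 0 → t * t = 1 := by
        intro t ht
        have h4 := hA t ht
        have h5 : c * (t * t) = c * 1 := by linear_combination h4 - h3
        exact mul_left_cancel₀ hc0 h5
      have h30 : (3 : F) = 0 := by linear_combination hsq 2 h2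
      have hc1 : c = -1 := by
        have h5 := mul_self_eq_one_iff.1 (hsq c hc0)
        rcases h5 with h5 | h5
        · exact (hc ⟨1, by rw [h5, mul_one]⟩).elim
        · exact h5
      have hm : 3 ≤ m := by omega
      obtain ⟨m₁, rfl⟩ : ∃ m₁, m = m₁ + 1 := ⟨m - 1, by omega⟩
      obtain ⟨fr⟩ := exists_frame (m₁ := m₁) (δ₁ := 1) (m₂ := 1) (δ₂ := 1) h2 one_ne_zero hc0 h
      have hfull : ∀ i, vv m₁ 1 1 1 (1 : F) 1 i ≠ 0 := fun i => vv_ne (fun _ _ _ => one_ne_zero) (fun _ _ _ => one_ne_zero)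
      refine row_full hG h2 fr (sep_vv hG h2 fr le_rfl le_rfl (by omega) (by norm_num) one_ne_zero hc0
        (fun _ => by rwa [one_mul]) (fun _ => one_ne_zero) (fun h => (one_ne_zero h).elim) (fun h => (one_ne_zero h).elim)
        ?_ ∅ (fun i _ => hfull i) (by rw [Finset.card_empty]; omega)) (odd_BB hG h2 fr one_ne_zero hc0 (hdim.trans (by omega))
          (Or.inr (Or.inr ⟨rfl, rfl, by rwa [one_mul]⟩)) hcard) hodd hq hfull
      rw [if_neg (by norm_num)]
      intro h5
      apply one_ne_zero (α := F)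
      rw [hc1] at h3 h5
      push_cast at h3 h5
      linear_combination h3 - h5 - h30

section Rows

variable {F : Type*} [Field F] [Fintype F]

theorem not_dvd_of_surjective {G H : Type*} [Group G] [Group H] {f : G →* H} (h : Function.Surjective f) :
    ¬ 2 ∣ f.range.index := by
  rw [MonoidHom.range_eq_top.2 h, Subgroup.index_top]
  norm_num

/-- `q ^ 4` divides the order -/
theorem pow_four_dvd {q n c X Y : ℕ} (hq : q % 2 = 1) (hn : 4 ≤ n) (hc : c ∣ 4) (h : c * X = q ^ n * Y) : q ^ 4 ∣ X := by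
  have h1 : q ^ 4 ∣ c * X := by
    rw [h]
    exact Dvd.dvd.mul_right (pow_dvd_pow q hn) Y
  have h2 : Nat.Coprime (q ^ 4) c := by
    refine Nat.Coprime.coprime_dvd_right hc ?_
    refine Nat.Coprime.pow_left 4 ?_
    have h3 : Nat.Coprime q (2 ^ 2) := Nat.Coprime.pow_right 2 (Nat.coprime_two_right.2 (Nat.odd_iff.2 hq))
    exact h3
  exact h2.dvd_of_dvd_mul_left h1

/-- **Odd dimension.** -/
theorem row2_odd (hF : Odd (Fintype.card F)) {m : ℕ} (hm : 3 ≤ m) : Row3 2 (POmega F (quadFormOdd m F)) := by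
  have h2 : (2 : F) ≠ 0 := Cfsg.Agent.LieClassical.PomegaCard.odd_card_iff.1 hF
  obtain ⟨hq, hq1, hqc⟩ := facts h2
  have hG := good_odd (F := F) (m := m) (by omega) h2
  have hdim : Module.finrank F (Unit ⊕ (Fin m ⊕ Fin m) → F) = 2 * m + 1 := by
    rw [Module.finrank_fintype_fun_eq_card, Fintype.card_sum, Fintype.card_sum, Fintype.card_fin, Fintype.card_unit]
    ring
  obtain ⟨m', k, d, h, hn, hd, hk⟩ := exists_model h2 (2 * m + 1) hG.nondeg hdim
  have hk1 : k = 1 := by
    rcases hk with h | h | ⟨c, hc, h, -⟩ <;> omega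
  subst hk1
  have hmm : m' = m := by omega
  subst hmm
  have hcard : (Nat.card (Cfsg.Agent.LieClassical.OrthCore.O (oddForm m' F))).factorization 2 ≤
      m' * (Nat.card F ^ 2 - 1).factorization 2 + 1 + (m'.factorial).factorization 2 := by
    rw [card_O, coe_oddForm, Cfsg.Agent.S0286.result rfl (Nat.odd_iff.2 hq) m', hqc]
    exact val_odd hq hq1 m'
  have hP : Nat.card (P (oddForm m' F)) = Nat.card (Cfsg.POmega F (Cfsg.quadFormOdd m' F)) := by
    rw [Cfsg.Agent.H989.OutOrth.Forms.card_P hG, coe_oddForm]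
  have hrow : Row3 2 (P (oddForm m' F)) := row3_of_has hG h2 h hd (by omega) hk hdim hcard
    (not_dvd_of_surjective (Cfsg.Agent.AutOrth.Final.surjective_odd hm h2)) (by
      rw [hP, Nat.card_eq_fintype_card]
      exact pow_four_dvd hq (n := m' ^ 2) (by nlinarith) (by norm_num) (Cfsg.Agent.S0292.result rfl hF m' hm))
  rw [← coe_oddForm]
  exact hrow.congr (pomegaEquiv hG).symm

/-- **Plus type.** -/
theorem row2_plus (hF : Odd (Fintype.card F)) {m : ℕ} (hm : 4 ≤ m) : Row3 2 (POmega F (quadFormPlus m F)) := by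
  have h2 : (2 : F) ≠ 0 := Cfsg.Agent.LieClassical.PomegaCard.odd_card_iff.1 hF
  obtain ⟨hq, hq1, hqc⟩ := facts h2
  have hG := good_plus (F := F) (m := m) (by omega)
  have hdim : Module.finrank F (Fin m ⊕ Fin m → F) = 2 * m := by
    rw [Module.finrank_fintype_fun_eq_card, Fintype.card_sum, Fintype.card_fin]
    ring
  have hqm : (Fintype.card F ^ m) % 2 = 1 := by
    rw [Nat.pow_mod, hq, one_pow]
    norm_num
  have hqm1 : 1 < Fintype.card F ^ m := Nat.one_lt_pow (by omega) hq1
  obtain ⟨m', k, d, h, hn, hd, hk⟩ := exists_model h2 (2 * m) hG.nondeg hdim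
  have hcard : (Nat.card (Cfsg.Agent.LieClassical.OrthCore.O (plusForm m F))).factorization 2 ≤
      m' * (Nat.card F ^ 2 - 1).factorization 2 + k + (m'.factorial).factorization 2 := by
    rw [card_O, coe_plusForm, Cfsg.Agent.S0287.result rfl m (by omega), hqc]
    rcases hk with rfl | rfl | ⟨c, hc, rfl, hdj⟩
    · have hmm : m' = m := by omega
      subst hmm
      refine val_even_zero hq hq1 (by omega) (n' := Fintype.card F ^ m' + 1) ?_ (by omega)
      rw [mul_comm, two_mul, pow_add]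
      have := Nat.sq_sub_sq (Fintype.card F ^ m') 1
      rw [one_pow, pow_two] at this
      exact this.symm
    · omega
    · have hmm : m = m' + 1 := by omega
      subst hmm
      have h4 : ¬ (Fintype.card F ^ (m' + 1) % 4 = 1) := by
        intro h5
        refine neg_not_mem hG h2 h hc hdj (neg_mem_of_matrix hG ?_)
        rw [coe_plusForm]
        exact (Cfsg.Agent.S0790.result rfl (Nat.odd_iff.2 hq) (m' + 1) (by omega)).2 h5
      exact val_even_two hq hq1 (by omega)
  have hP : Nat.card (P (plusForm m F)) = Nat.card (Cfsg.POmega F (Cfsg.quadFormPlus m F)) := by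
    rw [Cfsg.Agent.H989.OutOrth.Forms.card_P hG, coe_plusForm]
  have hodd : ¬ 2 ∣ (Psi (plusForm m F)).range.index := by
    rcases Nat.eq_or_lt_of_le hm with h3 | h3
    · subst h3
      rw [Cfsg.Agent.AutOrth.Final.index_plus_four]
      norm_num
    · exact not_dvd_of_surjective (Cfsg.Agent.AutOrth.Final.surjective_plus h3)
  have hrow : Row3 2 (P (plusForm m F)) := row3_of_has hG h2 h hd (by omega) hk (by rw [hdim, hn]) hcard hodd (by
      rw [hP, Nat.card_eq_fintype_card]
      exact pow_four_dvd hq (n := m * (m - 1)) (Y := (Fintype.card F ^ m - 1) *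
        ∏ i ∈ Finset.range (m - 1), (Fintype.card F ^ (2 * (i + 1)) - 1)) (by
          have h4 : 3 ≤ m - 1 := by omega
          calc 4 ≤ 4 * 3 := by norm_num
            _ ≤ m * (m - 1) := Nat.mul_le_mul hm h4) (Nat.gcd_dvd_left 4 _)
        (by rw [← mul_assoc]; exact Cfsg.Agent.S0293.result rfl m hm))
  rw [← coe_plusForm]
  exact hrow.congr (pomegaEquiv hG).symm

/-- **Minus type.** -/
theorem row2_minus (hF : Odd (Fintype.card F)) {m : ℕ} (hm : 4 ≤ m) (a b : F)
    (hab : ∀ z₁ z₂ : F, z₁ ^ 2 + a * z₁ * z₂ + b * z₂ ^ 2 = 0 → z₁ = 0 ∧ z₂ = 0) :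
    Row3 2 (POmega F (quadFormMinus (m - 1) F a b)) := by
  have h2 : (2 : F) ≠ 0 := Cfsg.Agent.LieClassical.PomegaCard.odd_card_iff.1 hF
  obtain ⟨hq, hq1, hqc⟩ := facts h2
  have hG := good_minus (F := F) (m := m - 1) (by omega) a b hab
  have hdim : Module.finrank F ((Fin (m - 1) ⊕ Fin (m - 1)) ⊕ Fin 2 → F) = 2 * m := by
    rw [Module.finrank_fintype_fun_eq_card, Fintype.card_sum, Fintype.card_sum, Fintype.card_fin, Fintype.card_fin]
    omega
  have hqm : (Fintype.card F ^ m) % 2 = 1 := by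
    rw [Nat.pow_mod, hq, one_pow]
    norm_num
  have hqm1 : 1 < Fintype.card F ^ m := Nat.one_lt_pow (by omega) hq1
  obtain ⟨m', k, d, h, hn, hd, hk⟩ := exists_model h2 (2 * m) hG.nondeg hdim
  have hcard : (Nat.card (Cfsg.Agent.LieClassical.OrthCore.O (minusForm (m - 1) F a b))).factorization 2 ≤
      m' * (Nat.card F ^ 2 - 1).factorization 2 + k + (m'.factorial).factorization 2 := by
    rw [card_O, coe_minusForm, Cfsg.Agent.S0288.result rfl m (by omega) a b hab, hqc]
    rcases hk with rfl | rfl | ⟨c, hc, rfl, hdj⟩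
    · have hmm : m' = m := by omega
      subst hmm
      refine val_even_zero hq hq1 (by omega) (n' := Fintype.card F ^ m' - 1) ?_ (by omega)
      rw [two_mul, pow_add]
      have := Nat.sq_sub_sq (Fintype.card F ^ m') 1
      rw [one_pow, pow_two] at this
      exact this.symm
    · omega
    · have hmm : m = m' + 1 := by omega
      subst hmm
      have h4 : ¬ (Fintype.card F ^ (m' + 1) % 4 = 3) := by
        intro h5
        refine neg_not_mem hG h2 h hc hdj (neg_mem_of_matrix hG ?_)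
        rw [coe_minusForm]
        exact (Cfsg.Agent.S0791.result rfl (Nat.odd_iff.2 hq) (m' + 1) (by omega) a b hab).2 h5
      exact val_even_two hq hq1 (by omega)
  have hP : Nat.card (P (minusForm (m - 1) F a b)) = Nat.card (Cfsg.POmega F (Cfsg.quadFormMinus (m - 1) F a b)) := by
    rw [Cfsg.Agent.H989.OutOrth.Forms.card_P hG, coe_minusForm]
  have hrow : Row3 2 (P (minusForm (m - 1) F a b)) := row3_of_has hG h2 h hd (by omega) hk (by rw [hdim, hn]) hcard
    (not_dvd_of_surjective (Cfsg.Agent.AutOrth.Final.surjective_minus (by omega) hab)) (by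
      rw [hP, Nat.card_eq_fintype_card]
      exact pow_four_dvd hq (n := m * (m - 1)) (Y := (Fintype.card F ^ m + 1) *
        ∏ i ∈ Finset.range (m - 1), (Fintype.card F ^ (2 * (i + 1)) - 1)) (by
          have h4 : 3 ≤ m - 1 := by omega
          calc 4 ≤ 4 * 3 := by norm_num
            _ ≤ m * (m - 1) := Nat.mul_le_mul hm h4) (Nat.gcd_dvd_left 4 _)
        (by rw [← mul_assoc]; exact Cfsg.Agent.S0294.result rfl m hm a b hab))
  rw [← coe_minusForm]
  exact hrow.congr (pomegaEquiv hG).symm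

end Rows

end Cfsg.Agent.H955.Rig
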