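import Mathlib
import Cfsg.Agent.H955.Sp

/-!
# Symplectic spaces with a skew-adjoint `J`, `J² = μ`

This is the same thing as a hermitian space over `F[J]` when `μ` is not a square. The
characteristic is odd.
-/

set_option autoImplicit false

namespace Cfsg.Agent.H955

open Module QuadraticMap Cfsg.Agent.LieClassical.OrthCore Cfsg.Agent.LieClassical.OrthTrans

universe u v w

section Basic

variable {F : Type u} [Field F] {V : Type v} [AddCommGroup V] [Module F V]

/-- alternating nondegenerate `B` with a skew-adjoint `J` with `J² = μ` -/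
structure JS (B : LinearMap.BilinForm F V) (J : V →ₗ[F] V) (μ : F) : Prop where
  sp : IsSp B
  sq : ∀ v, J (J v) = μ • v
  skew : ∀ u v, B (J u) v = - B u (J v)

/-- the quadratic form `v ↦ B(v, J v)` -/
noncomputable def qJ (B : LinearMap.BilinForm F V) (J : V →ₗ[F] V) : QuadraticForm F V :=
  LinearMap.BilinMap.toQuadraticMap (LinearMap.compl₂ B J)

theorem qJ_apply (B : LinearMap.BilinForm F V) (J : V →ₗ[F] V) (v : V) :
    qJ B J v = B v (J v) := rfl

variable {B : LinearMap.BilinForm F V} {J : V →ₗ[F] V} {μ : F}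

theorem JS.symm (h : JS B J μ) (u v : V) : B v (J u) = B u (J v) := by
  rw [h.sp.swap, h.skew, neg_neg]

theorem JS.polar (h : JS B J μ) (u v : V) : polar (qJ B J) u v = 2 * B u (J v) := by
  rw [qJ, LinearMap.BilinMap.polar_toQuadraticMap]
  change B u (J v) + B v (J u) = _
  rw [h.symm u v]
  ring

theorem JS.mem_of_J_mem (h : JS B J μ) (hμ : μ ≠ 0) {W : Submodule F V} (hJ : ∀ w ∈ W, J w ∈ W)
    {v : V} (hv : J v ∈ W) : v ∈ W := by
  have h1 := hJ _ hv
  rw [h.sq] at h1
  have h2 := W.smul_mem μ⁻¹ h1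
  rwa [smul_smul, inv_mul_cancel₀ hμ, one_smul] at h2

theorem JS.nondeg_res (h : JS B J μ) (h2 : (2 : F) ≠ 0) (hμ : μ ≠ 0) {W : Submodule F V}
    (hJ : ∀ w ∈ W, J w ∈ W) (hW : NdOn B W) : Nondeg (res (qJ B J) W) := by
  rw [nondeg_res_iff]
  intro x hx hxy
  refine hW x hx fun y hy => ?_
  have h1 := hxy (J y) (hJ y hy)
  rw [h.polar, h.sq, map_smul, smul_eq_mul] at h1
  exact (mul_eq_zero.1 ((mul_eq_zero.1 h1).resolve_left h2)).resolve_left hμ

theorem JS.nondeg (h : JS B J μ) (h2 : (2 : F) ≠ 0) (hμ : μ ≠ 0) : Nondeg (qJ B J) := by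
  intro x hxy
  refine h.sp.nd x fun y => ?_
  have h1 := hxy (J y)
  rw [h.polar, h.sq, map_smul, smul_eq_mul] at h1
  exact (mul_eq_zero.1 ((mul_eq_zero.1 h1).resolve_left h2)).resolve_left hμ

theorem JS.orth_inv (h : JS B J μ) {W : Submodule F V}
    (hJ : ∀ w ∈ W, J w ∈ W) : ∀ v ∈ orth B W, J v ∈ orth B W := by
  intro v hv w hw
  have h1 := hv (J w) (hJ w hw)
  rw [h.skew] at h1
  exact neg_eq_zero.1 h1

/-- the plane `⟨v, J v⟩` -/
def plJ (J : V →ₗ[F] V) (v : V) : Submodule F V := Submodule.span F {v, J v}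

theorem JS.plJ_inv (h : JS B J μ) (v : V) : ∀ w ∈ plJ J v, J w ∈ plJ J v := by
  intro w hw
  obtain ⟨a, b, rfl⟩ := Submodule.mem_span_pair.1 hw
  rw [map_add, map_smul, map_smul, h.sq]
  refine Submodule.mem_span_pair.2 ⟨b * μ, a, ?_⟩
  rw [mul_smul, add_comm]

theorem plJ_le {v : V} {W : Submodule F V} (hJ : ∀ w ∈ W, J w ∈ W) (hv : v ∈ W) :
    plJ J v ≤ W := by
  rw [plJ, Submodule.span_le]
  rintro x (rfl | rfl)
  · exact hv
  · exact hJ _ hv

theorem self_mem_plJ (v : V) : v ∈ plJ J v := Submodule.subset_span (by simp)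

end Basic

section Finite

variable {F : Type u} [Field F] [Finite F] {V : Type v} [AddCommGroup V] [Module F V]
  [FiniteDimensional F V]

/-- a nondegenerate form in positive even dimension takes the value one. -/
theorem exists_eq_one {Q : QuadraticForm F V} (hQ : Nondeg Q) {m : ℕ} (hm : 0 < m)
    (hd : finrank F V = 2 * m) : ∃ v, Q v = 1 := by
  have hq : 1 < Nat.card F := Finite.one_lt_card
  by_contra hcon
  push Not at hcon
  have h0 : Nat.card {v : V // Q v = 1} = 0 := by
    rw [Nat.card_eq_zero]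
    exact Or.inl ⟨fun v => hcon v.1 v.2⟩
  by_cases hP : IsPlus Q
  · have h1 := card_eq_one_of_isPlus hQ hd hP
    rw [h0, mul_zero, zero_add] at h1
    have h2 := Nat.pow_right_injective hq h1
    omega
  · have h1 := card_eq_one_of_not_isPlus hQ hd hP
    rw [h0, mul_zero] at h1
    have h2 : 0 < Nat.card F ^ m := pow_pos (by omega) _
    omega

variable {B : LinearMap.BilinForm F V} {J : V →ₗ[F] V} {μ : F}

theorem JS.exists_one (h : JS B J μ) (h2 : (2 : F) ≠ 0) (hμ : μ ≠ 0) {W : Submodule F V}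
    (hJ : ∀ w ∈ W, J w ∈ W) (hW : NdOn B W) (hpos : 0 < finrank F W) :
    ∃ v ∈ W, B v (J v) = 1 := by
  obtain ⟨m, hm⟩ := h.sp.even_of_ndOn hW
  obtain ⟨⟨v, hv⟩, hv1⟩ := exists_eq_one (h.nondeg_res h2 hμ hJ hW) (m := m) (by omega) (by omega)
  exact ⟨v, hv, hv1⟩

/-- splitting off a plane `⟨v, J v⟩` -/
theorem JS.exists_split (h : JS B J μ) (h2 : (2 : F) ≠ 0) (hμ : μ ≠ 0) {W : Submodule F V}
    (hJ : ∀ w ∈ W, J w ∈ W) (hW : NdOn B W) (hpos : 0 < finrank F W) :
    ∃ v ∈ W, B v (J v) = 1 ∧ NdOn B (plJ J v) ∧ plJ J v ≤ W ∧ finrank F (plJ J v) = 2 ∧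
      (∀ w ∈ W ⊓ orth B (plJ J v), J w ∈ W ⊓ orth B (plJ J v)) ∧
      NdOn B (W ⊓ orth B (plJ J v)) ∧ 2 + finrank F (W ⊓ orth B (plJ J v) : Submodule F V) = finrank F W := by
  obtain ⟨v, hv, hv1⟩ := h.exists_one h2 hμ hJ hW hpos
  have hne : B v (J v) ≠ 0 := by rw [hv1]; exact one_ne_zero
  have hP := ndOn_pair h.sp hne
  have hPd := finrank_pair h.sp hne
  have hPW := plJ_le hJ hv
  refine ⟨v, hv, hv1, hP, hPW, hPd, fun w hw => ⟨hJ w hw.1, h.orth_inv (h.plJ_inv v) w hw.2⟩,
    hW.inf_orth h.sp.eps hP hPW, ?_⟩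
  rw [← hPd]
  exact hP.finrank_inf_orth h.sp.eps hPW

/-- **adapted families** -/
theorem JS.exists_family (h : JS B J μ) (h2 : (2 : F) ≠ 0) (hμ : μ ≠ 0) (n : ℕ) :
    ∀ W : Submodule F V, (∀ w ∈ W, J w ∈ W) → NdOn B W → finrank F W = 2 * n →
    ∃ w : Fin n → V, (∀ i, w i ∈ W) ∧ (∀ i j, B (w i) (w j) = 0) ∧
      ∀ i j, B (w i) (J (w j)) = if i = j then 1 else 0 := by
  induction n with
  | zero => exact fun W _ _ _ => ⟨Fin.elim0, fun i => i.elim0, fun i => i.elim0, fun i => i.elim0⟩
  | succ n ih =>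
    intro W hJ hW hd
    obtain ⟨v, hv, hv1, -, hPW, -, hJ', hW', hd'⟩ := h.exists_split h2 hμ hJ hW (by omega)
    obtain ⟨w, hw, hw0, hw1⟩ := ih _ hJ' hW' (by omega)
    have h3 : ∀ i, B v (w i) = 0 := fun i => (hw i).2 v (self_mem_plJ v)
    have h4 : ∀ i, B (J v) (w i) = 0 := fun i => (hw i).2 (J v) (h.plJ_inv v v (self_mem_plJ v))
    refine ⟨Fin.cons v w, ?_, ?_, ?_⟩
    · intro i
      refine Fin.cases hv (fun i => ?_) i
      exact (hw i).1
    · intro i j
      refine Fin.cases ?_ (fun i => ?_) i <;> refine Fin.cases ?_ (fun j => ?_) j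
      · simp [h.sp.alt]
      · simpa using h3 j
      · simpa using h.sp.eps.zero (h3 i)
      · simpa using hw0 i j
    · intro i j
      refine Fin.cases ?_ (fun i => ?_) i <;> refine Fin.cases ?_ (fun j => ?_) j
      · simpa using hv1
      · have h5 := h4 j
        rw [h.skew, neg_eq_zero] at h5
        simpa [(Fin.succ_ne_zero j).symm] using h5
      · have h5 := h.sp.eps.zero (h4 i)
        simpa [Fin.succ_ne_zero] using h5
      · simpa using hw1 i j

/-- `J`-invariant nondegenerate subspaces of every even dimension -/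
theorem JS.exists_ndOn (h : JS B J μ) (h2 : (2 : F) ≠ 0) (hμ : μ ≠ 0) (a : ℕ)
    (ha : 2 * a ≤ finrank F V) :
    ∃ W : Submodule F V, NdOn B W ∧ (∀ w ∈ W, J w ∈ W) ∧ finrank F W = 2 * a := by
  induction a with
  | zero =>
    exact ⟨⊥, fun x hx _ => (Submodule.mem_bot F).1 hx, fun w hw => by
      rw [(Submodule.mem_bot F).1 hw, map_zero]; exact Submodule.zero_mem _, by rw [finrank_bot]⟩
  | succ a ih =>
    obtain ⟨W, hW, hJ, hWd⟩ := ih (by omega)
    have h1 := h.sp.finrank_orth hW
    have h3 := h.sp.ndOn_orth hW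
    have h4 := h.orth_inv hJ
    obtain ⟨v, hv, hv1, hP, hPW, hPd, -⟩ := h.exists_split h2 hμ h4 h3 (by omega)
    refine ⟨W ⊔ plJ J v, hW.sup h.sp.eps hP hPW, ?_, ?_⟩
    · intro w hw
      obtain ⟨a, ha, b, hb, rfl⟩ := Submodule.mem_sup.1 hw
      rw [map_add]
      exact Submodule.mem_sup.2 ⟨J a, hJ a ha, J b, h.plJ_inv v b hb, rfl⟩
    · have h5 := Submodule.finrank_sup_add_finrank_inf_eq W (plJ J v)
      rw [(disjoint_of_le_orth hW hPW h.sp.eps).eq_bot, finrank_bot, hPd] at h5
      omega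

omit [Finite F] in
/-- basis from an adapted family -/
theorem JS.exists_basis (h : JS B J μ) {d : ℕ} (hd : finrank F V = 2 * d) {w : Fin d → V}
    (h0 : ∀ i j, B (w i) (w j) = 0) (h1 : ∀ i j, B (w i) (J (w j)) = if i = j then 1 else 0) :
    ∃ b : Basis (Fin d ⊕ Fin d) F V, (∀ i, b (.inl i) = w i) ∧ (∀ i, b (.inr i) = J (w i)) := by
  classical
  have h1' : ∀ i j, B (J (w i)) (w j) = if i = j then -1 else 0 := by
    intro i j
    rw [h.skew, h1]
    split_ifs <;> simp
  have h3 : ∀ i j, B (J (w i)) (J (w j)) = 0 := by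
    intro i j
    rw [h.skew, h.sq, map_smul, h0, smul_zero, neg_zero]
  have hli : LinearIndependent F (Sum.elim w (fun i => J (w i))) := by
    rw [Fintype.linearIndependent_iff]
    intro g hg
    rw [Fintype.sum_sum_type] at hg
    simp only [Sum.elim_inl, Sum.elim_inr] at hg
    intro k
    rcases k with k | k
    · have h4 := congrArg (fun v => B v (J (w k))) hg
      simp only [map_add, map_sum, map_smul, LinearMap.add_apply, LinearMap.sum_apply,
        LinearMap.smul_apply, h1, h3, smul_eq_mul, map_zero, LinearMap.zero_apply] at h4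
      simpa using h4
    · have h4 := congrArg (fun v => B v (w k)) hg
      simp only [map_add, map_sum, map_smul, LinearMap.add_apply, LinearMap.sum_apply,
        LinearMap.smul_apply, h0, h1', smul_eq_mul, map_zero, LinearMap.zero_apply] at h4
      simpa using h4
  have hcard : Fintype.card (Fin d ⊕ Fin d) = finrank F V := by
    rw [Fintype.card_sum, Fintype.card_fin, hd]
    ring
  rcases Nat.eq_zero_or_pos d with rfl | hpos
  · have hs : Subsingleton V := Module.finrank_zero_iff.1 (by omega)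
    have : IsEmpty (Fin 0 ⊕ Fin 0) := inferInstance
    exact ⟨Basis.empty V, fun i => i.elim0, fun i => i.elim0⟩
  · have : Nonempty (Fin d ⊕ Fin d) := ⟨.inl ⟨0, hpos⟩⟩
    refine ⟨basisOfLinearIndependentOfCardEqFinrank hli hcard, fun i => ?_, fun i => ?_⟩ <;>
    simp

/-- **classification of `J`-structures** -/
theorem JS.exists_equiv {V' : Type w} [AddCommGroup V'] [Module F V'] [FiniteDimensional F V']
    {B' : LinearMap.BilinForm F V'} {J' : V' →ₗ[F] V'} (h : JS B J μ) (h' : JS B' J' μ)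
    (h2 : (2 : F) ≠ 0) (hμ : μ ≠ 0) (hd : finrank F V = finrank F V') :
    ∃ e : V ≃ₗ[F] V', (∀ u v, B' (e u) (e v) = B u v) ∧ ∀ v, e (J v) = J' (e v) := by
  obtain ⟨d, hdd⟩ := h.sp.even
  obtain ⟨w, -, h0, h1⟩ := h.exists_family h2 hμ d ⊤ (fun _ _ => trivial) h.sp.ndTop
    (by rw [finrank_top]; omega)
  obtain ⟨w', -, h0', h1'⟩ := h'.exists_family h2 hμ d ⊤ (fun _ _ => trivial) h'.sp.ndTop
    (by rw [finrank_top]; omega)
  obtain ⟨b, hb1, hb2⟩ := h.exists_basis (by omega) h0 h1
  obtain ⟨b', hb1', hb2'⟩ := h'.exists_basis (by omega) h0' h1'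
  have he : ∀ k, b.equiv b' (Equiv.refl _) (b k) = b' k := fun k => by simp
  refine ⟨b.equiv b' (Equiv.refl _), ?_, ?_⟩
  · have key : (LinearMap.compl₁₂ B' (b.equiv b' (Equiv.refl _) : V →ₗ[F] V')
        (b.equiv b' (Equiv.refl _) : V →ₗ[F] V')) = B := by
      apply LinearMap.BilinForm.ext_basis b
      intro i j
      rw [LinearMap.compl₁₂_apply]
      change B' (b.equiv b' (Equiv.refl _) (b i)) (b.equiv b' (Equiv.refl _) (b j)) = B (b i) (b j)
      rw [he, he]
      rcases i with i | i <;> rcases j with j | j <;>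
      simp only [hb1, hb2, hb1', hb2', h0, h0', h1, h1', h.skew, h'.skew, h.sq, h'.sq, map_smul,
        smul_zero, neg_zero]
    intro u v
    rw [← key]
    rfl
  · have key : (b.equiv b' (Equiv.refl _) : V →ₗ[F] V') ∘ₗ J =
        J' ∘ₗ (b.equiv b' (Equiv.refl _) : V →ₗ[F] V') := by
      apply b.ext
      intro i
      change b.equiv b' (Equiv.refl _) (J (b i)) = J' (b.equiv b' (Equiv.refl _) (b i))
      rw [he]
      rcases i with i | i
      · rw [hb1, ← hb2, he, hb2', hb1']
      · rw [hb2, h.sq, map_smul, ← hb1, he, hb2', h'.sq, hb1']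
    intro v
    exact LinearMap.congr_fun key v

/-- **type of `B(v, J v)`** when `μ` is not a square -/
theorem JS.isPlus_iff (h : JS B J μ) (h2 : (2 : F) ≠ 0) (hns : ¬ IsSquare μ) (n : ℕ) :
    ∀ W : Submodule F V, (∀ w ∈ W, J w ∈ W) → NdOn B W → finrank F W = 2 * n →
    (IsPlus (res (qJ B J) W) ↔ Even n) := by
  have hμ : μ ≠ 0 := by
    rintro rfl
    exact hns ⟨0, by simp⟩
  induction n with
  | zero =>
    intro W _ _ hd
    exact iff_of_true (isPlus_of_finrank_zero (by omega)) Even.zero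
  | succ n ih =>
    intro W hJ hW hd
    obtain ⟨v, hv, hv1, hP, hPW, hPd, hJ', hW', hd'⟩ := h.exists_split h2 hμ hJ hW (by omega)
    have hih := ih _ hJ' hW' (by omega)
    -- work inside `W`
    have hQW := h.nondeg_res h2 hμ hJ hW
    let P' : Submodule F W := (plJ J v).comap W.subtype
    have hmapP : P'.map W.subtype = plJ J v := by
      rw [Submodule.map_comap_subtype, inf_eq_right.2 hPW]
    -- the form on `P'`
    let eP : P' ≃ₗ[F] plJ J v := Submodule.comapSubtypeEquivOfLe hPW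
    have heP : ∀ x : P', res (qJ B J) (plJ J v) (eP x) = res (res (qJ B J) W) P' x := fun x => rfl
    have hPn : Nondeg (res (res (qJ B J) W) P') := by
      have := h.nondeg_res h2 hμ (h.plJ_inv v) hP
      exact nondeg_of_equiv eP.symm (fun x => by rw [← heP, LinearEquiv.apply_symm_apply]) this
    have hPd' : finrank F P' = 2 := by rw [eP.finrank_eq, hPd]
    -- anisotropic
    have hani : ¬ IsPlus (res (res (qJ B J) W) P') := by
      refine not_isPlus_of_aniso ?_ (by rw [hPd']; norm_num)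
      intro x hx
      have h3 : qJ B J ((x : W) : V) = 0 := hx
      have hxP : ((x : W) : V) ∈ plJ J v := x.2
      obtain ⟨a, b, hab⟩ := Submodule.mem_span_pair.1 hxP
      rw [← hab, qJ_apply] at h3
      simp only [map_add, map_smul, LinearMap.add_apply, LinearMap.smul_apply, h.sq, h.skew,
        hv1, h.sp.alt, smul_eq_mul, mul_zero, zero_add, add_zero, smul_zero, neg_zero, mul_one] at h3
      have h4 : a * a = μ * (b * b) := by linear_combination h3
      have hb0 : b = 0 := by
        by_contra hb0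
        apply hns
        refine ⟨a / b, ?_⟩
        field_simp
        linear_combination -h4
      have ha0 : a = 0 := by
        rw [hb0] at h4
        simpa using h4
      apply Subtype.ext
      apply Subtype.ext
      rw [← hab, ha0, hb0]
      simp
    -- the orthogonal complement
    have hperp : (perp (res (qJ B J) W) P').map W.subtype = W ⊓ orth B (plJ J v) := by
      ext x
      constructor
      · rintro ⟨y, hy, rfl⟩
        refine ⟨y.2, fun z hz => ?_⟩
        obtain ⟨z', hz', rfl⟩ : ∃ z', z' ∈ plJ J v ∧ J z' = z := by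
          refine ⟨μ⁻¹ • J z, Submodule.smul_mem _ _ (h.plJ_inv v z hz), ?_⟩
          rw [map_smul, h.sq, smul_smul, inv_mul_cancel₀ hμ, one_smul]
        have h3 := hy ⟨z', hPW hz'⟩ hz'
        rw [polar_res, h.polar] at h3
        have h4 := (mul_eq_zero.1 h3).resolve_left h2
        change B (J z') (y : V) = 0
        rw [h.skew]
        exact neg_eq_zero.2 h4
      · rintro ⟨hx1, hx2⟩
        refine ⟨⟨x, hx1⟩, fun z hz => ?_, rfl⟩
        rw [polar_res, h.polar]
        have h3 := hx2 (J (z : V)) (h.plJ_inv v _ hz)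
        rw [h.skew] at h3
        change 2 * B (z : V) (J x) = 0
        rw [neg_eq_zero.1 h3, mul_zero]
    have e2 : IsPlus (res (res (qJ B J) W) (perp (res (qJ B J) W) P')) ↔
        IsPlus (res (qJ B J) (W ⊓ orth B (plJ J v))) := by
      rw [← hperp]
      exact isPlus_iff_of_equiv (Submodule.equivMapOfInjective W.subtype W.injective_subtype
        (perp (res (qJ B J) W) P')) (fun x => rfl)
    rw [isPlus_iff_perp hQW hPn (by rw [hd]; exact even_two_mul _) (by rw [hPd']; exact even_two),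
      e2, hih, Nat.even_add_one]
    tauto

end Finite

end Cfsg.Agent.H955
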