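import Mathlib
import Cfsg.Agent.H955.Sp

/-!
# Forms over an extension field

`V` is a space over `L`, `L / F` finite; `B` an `F`-bilinear form with `B (a u) v = B u (a v)` for
`a ∈ L`. Then `B u v = t (g u v)` for an `L`-bilinear form `g`.
-/

set_option autoImplicit false

namespace Cfsg.Agent.H955

open Module

universe u v w

variable {F : Type u} [Field F] {L : Type w} [Field L] [Algebra F L]
  {V : Type v} [AddCommGroup V] [Module F V] [Module L V] [IsScalarTower F L V]

/-- a functional with `t 1 = 1` -/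
theorem exists_functional (F : Type u) [Field F] (L : Type w) [Field L] [Algebra F L] :
    ∃ t : L →ₗ[F] F, t 1 = 1 := by
  obtain ⟨t, ht⟩ := LinearMap.exists_leftInverse_of_injective (Algebra.linearMap F L)
    (LinearMap.ker_eq_bot.2 (algebraMap F L).injective)
  refine ⟨t, ?_⟩
  have := LinearMap.congr_fun ht 1
  simpa using this

theorem eq_of_functional {t : L →ₗ[F] F} (ht : t ≠ 0) {x y : L} (h : ∀ a, t (a * x) = t (a * y)) :
    x = y := by
  by_contra hxy
  apply ht
  ext a
  have h1 := h (a / (x - y))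
  have h2 : t (a / (x - y) * (x - y)) = 0 := by rw [mul_sub, map_sub, h1, sub_self]
  rw [div_mul_cancel₀ _ (sub_ne_zero.2 hxy)] at h2
  simpa using h2

theorem exists_repr [FiniteDimensional F L] {t : L →ₗ[F] F} (ht : t ≠ 0) (f : L →ₗ[F] F) :
    ∃ x : L, ∀ a, f a = t (a * x) := by
  let Φ : L →ₗ[F] (L →ₗ[F] F) :=
    { toFun := fun x => t ∘ₗ (LinearMap.mulRight F x)
      map_add' := fun x y => by
        ext a
        simp [mul_add]
      map_smul' := fun c x => by
        ext a
        simp }
  have hΦ : ∀ x a, Φ x a = t (a * x) := fun _ _ => rfl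
  have hinj : Function.Injective Φ := fun x y hxy =>
    eq_of_functional ht fun a => LinearMap.congr_fun hxy a
  have hsurj := (LinearMap.injective_iff_surjective_of_finrank_eq_finrank
    (f := Φ) (by rw [Subspace.dual_finrank_eq.symm])).1 hinj
  obtain ⟨x, hx⟩ := hsurj f
  exact ⟨x, fun a => by rw [← hx, hΦ]⟩

/-- **the `L`-bilinear form** -/
theorem exists_gform [FiniteDimensional F L] (B : LinearMap.BilinForm F V)
    (hsa : ∀ (a : L) (u v : V), B (a • u) v = B u (a • v)) {t : L →ₗ[F] F} (ht : t ≠ 0) :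
    ∃ g : LinearMap.BilinForm L V, ∀ u v, B u v = t (g u v) := by
  have h0 : ∀ u v : V, ∃ x : L, ∀ a : L, B (a • u) v = t (a * x) := fun u v =>
    exists_repr ht ((B.flip v) ∘ₗ (LinearMap.toSpanSingleton L V u).restrictScalars F)
  choose G hG using h0
  refine ⟨LinearMap.mk₂ L G ?_ ?_ ?_ ?_, fun u v => ?_⟩
  · intro u u' v
    apply eq_of_functional ht
    intro a
    rw [← hG, mul_add, map_add, ← hG, ← hG, smul_add, map_add, LinearMap.add_apply]
  · intro c u v
    apply eq_of_functional ht
    intro a
    rw [← hG, smul_smul, hG, smul_eq_mul, mul_assoc]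
  · intro u v v'
    apply eq_of_functional ht
    intro a
    rw [← hG, map_add, mul_add, map_add, ← hG, ← hG]
  · intro c u v
    apply eq_of_functional ht
    intro a
    rw [← hG, ← hsa, smul_smul, hG, smul_eq_mul]
    congr 1
    ring
  · have := hG u v 1
    rw [one_smul, one_mul] at this
    exact this

variable {B : LinearMap.BilinForm F V} {g : LinearMap.BilinForm L V} {t : L →ₗ[F] F}

omit [IsScalarTower F L V] in
theorem gform_eq_zero (ht : t ≠ 0) (hg : ∀ u v, B u v = t (g u v)) {u v : V}
    (h : ∀ a : L, B (a • u) v = 0) : g u v = 0 := by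
  apply eq_of_functional ht
  intro a
  have h1 := h a
  rw [hg, map_smul, LinearMap.smul_apply, smul_eq_mul] at h1
  rw [h1, mul_zero, map_zero]

omit [IsScalarTower F L V] in
theorem gform_alt (ht : t ≠ 0) (hg : ∀ u v, B u v = t (g u v))
    (halt : ∀ (a : L) (v : V), B (a • v) v = 0) (v : V) : g v v = 0 :=
  gform_eq_zero ht hg fun a => halt a v

omit [IsScalarTower F L V] in
theorem gform_symm (ht : t ≠ 0) (hg : ∀ u v, B u v = t (g u v))
    (hs : ∀ u v, B u v = B v u) (u v : V) : g u v = g v u := by
  apply eq_of_functional ht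
  intro a
  have h1 : B (a • u) v = t (a * g u v) := by
    rw [hg, map_smul, LinearMap.smul_apply, smul_eq_mul]
  have h2 : B v (a • u) = t (a * g v u) := by rw [hg, map_smul, smul_eq_mul]
  rw [← h1, hs, h2]

theorem gform_isSp (ht : t ≠ 0) (hg : ∀ u v, B u v = t (g u v)) (hB : IsSp B)
    (halt : ∀ (a : L) (v : V), B (a • v) v = 0) : IsSp g :=
  ⟨gform_alt ht hg halt, fun x hx => hB.nd x fun y => by rw [hg, hx, map_zero]⟩

theorem gform_ndOn (ht : t ≠ 0) (hg : ∀ u v, B u v = t (g u v)) {W : Submodule L V} :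
    NdOn g W ↔ NdOn B (W.restrictScalars F) := by
  constructor
  · intro h x hx hxy
    refine h x hx fun y hy => ?_
    apply eq_of_functional ht
    intro a
    have h1 := hxy (a • y) (W.smul_mem a hy)
    rw [hg, map_smul, smul_eq_mul] at h1
    rw [h1, mul_zero, map_zero]
  · intro h x hx hxy
    refine h x hx fun y hy => ?_
    rw [hg, hxy y hy, map_zero]

/-- an `L`-stable `F`-subspace as an `L`-subspace -/
def toL (W : Submodule F V) (h : ∀ (a : L), ∀ w ∈ W, a • w ∈ W) : Submodule L V :=
  { W.toAddSubmonoid with smul_mem' := fun a _ hw => h a _ hw }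

theorem toL_restrict (W : Submodule F V) (h : ∀ (a : L), ∀ w ∈ W, a • w ∈ W) :
    (toL W h).restrictScalars F = W := rfl

theorem finrank_toL [FiniteDimensional F L] (W : Submodule F V)
    (h : ∀ (a : L), ∀ w ∈ W, a • w ∈ W) :
    finrank F L * finrank L (toL W h) = finrank F W := by
  rw [Module.finrank_mul_finrank F L (toL W h)]
  rfl

theorem finiteDimensional_L [FiniteDimensional F V] : FiniteDimensional L V :=
  Module.Finite.of_restrictScalars_finite F L V

/-- **dimension of `L`-stable nondegenerate subspaces (alternating case)** -/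
theorem two_mul_dvd_finrank [FiniteDimensional F L] [FiniteDimensional F V] (hB : IsSp B)
    (hsa : ∀ (a : L) (u v : V), B (a • u) v = B u (a • v))
    (halt : ∀ (a : L) (v : V), B (a • v) v = 0) {W : Submodule F V}
    (h : ∀ (a : L), ∀ w ∈ W, a • w ∈ W) (hW : NdOn B W) : 2 * finrank F L ∣ finrank F W := by
  have : FiniteDimensional L V := finiteDimensional_L (F := F)
  obtain ⟨t, ht1⟩ := exists_functional F L
  have ht : t ≠ 0 := by
    rintro rfl
    simp at ht1
  obtain ⟨g, hg⟩ := exists_gform B hsa ht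
  have h1 : NdOn g (toL W h) := (gform_ndOn ht hg).2 hW
  have h2 := (gform_isSp ht hg hB halt).even_of_ndOn h1
  rw [← finrank_toL W h, mul_comm 2]
  exact Nat.mul_dvd_mul_left _ h2.two_dvd

/-- **isometries of `g` are isometries of `B`** -/
theorem exists_IsoB_hom [FiniteDimensional F V] (hg : ∀ u v, B u v = t (g u v)) :
    ∃ f : IsoB g →* (V ≃ₗ[F] V), Function.Injective f ∧
      ∀ A, f A ∈ IsoB B ∧ ∀ (a : L) (v : V), f A (a • v) = a • f A v := by
  let R : (V ≃ₗ[L] V) →* (V ≃ₗ[F] V) :=
    { toFun := fun g => g.restrictScalars F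
      map_one' := rfl
      map_mul' := fun _ _ => rfl }
  refine ⟨R.comp (Subgroup.subtype _), ?_, fun A => ⟨fun u v => ?_, fun a v => ?_⟩⟩
  · intro A A' h
    apply Subtype.ext
    ext v
    exact LinearEquiv.congr_fun h v
  · rw [hg, hg]
    exact congrArg t (A.2 u v)
  · exact map_smul A.1 a v

end Cfsg.Agent.H955
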