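import Cfsg.Prelude.Def_Characters
import Cfsg.Agent.LieClassical.OrthCore

/-!
# Frobenius-Schur indicators of orthogonal groups in characteristic two: definitions

* `fsi χ`: the indicator of `χ`;
* `FSGood w G`: every irreducible character has indicator `1`, or (if `w` holds) `0`.
  `FSGood False G`: all indicators are one; `FSGood True G`: no indicator is `-1`.
* the subgroups of orthogonal groups which occur in the induction.
-/

set_option autoImplicit false

universe u

namespace Cfsg.Agent.H955.FS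

open Cfsg QuadraticMap
open Cfsg.Agent.LieClassical.OrthCore

/-- the Frobenius-Schur indicator -/
noncomputable def fsi {G : Type u} [Group G] (χ : G → ℂ) : ℂ :=
  (Nat.card G : ℂ)⁻¹ * ∑ᶠ s : G, χ (s * s)

/-- All indicators are `1`, or `0` if `w` holds. -/
def FSGood (w : Prop) (G : Type u) [Group G] : Prop :=
  ∀ χ : G → ℂ, IsIrrCharacter G χ → fsi χ = 1 ∨ (w ∧ fsi χ = 0)

section Geo

variable {F V : Type u} [Field F] [AddCommGroup V] [Module F V]

/-- isometries fixing a vector -/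
def fixV (Q : QuadraticForm F V) (v : V) : Subgroup (V ≃ₗ[F] V) where
  carrier := {g | g ∈ O Q ∧ g v = v}
  mul_mem' := fun {a b} ha hb => ⟨mul_mem ha.1 hb.1, by
    show a (b v) = v
    rw [hb.2, ha.2]⟩
  one_mem' := ⟨one_mem _, rfl⟩
  inv_mem' := fun {a} ha => ⟨inv_mem ha.1, by
    show a.symm v = v
    rw [LinearEquiv.symm_apply_eq, ha.2]⟩

/-- isometries stabilising the line spanned by `v` -/
def lineV (Q : QuadraticForm F V) (v : V) : Subgroup (V ≃ₗ[F] V) where
  carrier := {g | g ∈ O Q ∧ ∃ β : Fˣ, g v = β • v}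
  mul_mem' := by
    rintro a b ⟨ha, β, hβ⟩ ⟨hb, γ, hγ⟩
    refine ⟨mul_mem ha hb, β * γ, ?_⟩
    show a (b v) = _
    rw [hγ, mul_comm, mul_smul, ← hβ]
    exact map_smul a (γ : F) v
  one_mem' := ⟨one_mem _, 1, by rw [one_smul]; rfl⟩
  inv_mem' := by
    rintro a ⟨ha, β, hβ⟩
    refine ⟨inv_mem ha, β⁻¹, ?_⟩
    show a.symm v = _
    rw [LinearEquiv.symm_apply_eq]
    have h : a (β⁻¹ • v) = β⁻¹ • a v := map_smul a ((β⁻¹ : Fˣ) : F) v
    rw [h, hβ, smul_smul, inv_mul_cancel, one_smul]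

/-- isometries `g` acting on the image of `ι : N → V` through an isometry of `κ` -/
def planeK {N : Type u} [AddCommGroup N] [Module F N] (Q : QuadraticForm F V)
    (κ : QuadraticForm F N) (ι : N →ₗ[F] V) : Subgroup (V ≃ₗ[F] V) where
  carrier := {g | g ∈ O Q ∧ ∃ d ∈ O κ, ∀ x, g (ι x) = ι (d x)}
  mul_mem' := by
    rintro a b ⟨ha, d, hd, hda⟩ ⟨hb, e, he, heb⟩
    refine ⟨mul_mem ha hb, d * e, mul_mem hd he, fun x => ?_⟩
    show a (b (ι x)) = ι (d (e x))
    rw [heb, hda]
  one_mem' := ⟨one_mem _, 1, one_mem _, fun x => rfl⟩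
  inv_mem' := by
    rintro a ⟨ha, d, hd, hda⟩
    refine ⟨inv_mem ha, d⁻¹, inv_mem hd, fun x => ?_⟩
    show a.symm (ι x) = ι (d.symm x)
    rw [LinearEquiv.symm_apply_eq, hda, LinearEquiv.apply_symm_apply]

/-- isometries fixing `s` and moving `u` by an element of `Γ s` -/
def transV (Q : QuadraticForm F V) (s u : V) (Γ : AddSubgroup F) : Subgroup (V ≃ₗ[F] V) where
  carrier := {g | g ∈ O Q ∧ g s = s ∧ ∃ γ ∈ Γ, g u = u + γ • s}
  mul_mem' := by
    rintro a b ⟨ha, has, γ, hγ, hau⟩ ⟨hb, hbs, δ, hδ, hbu⟩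
    refine ⟨mul_mem ha hb, ?_, γ + δ, add_mem hγ hδ, ?_⟩
    · show a (b s) = s
      rw [hbs, has]
    · show a (b u) = _
      rw [hbu, map_add, hau, map_smul, has, add_assoc, add_smul]
  one_mem' := ⟨one_mem _, rfl, 0, zero_mem _, by rw [zero_smul, add_zero]; rfl⟩
  inv_mem' := by
    rintro a ⟨ha, has, γ, hγ, hau⟩
    refine ⟨inv_mem ha, ?_, -γ, neg_mem hγ, ?_⟩
    · show a.symm s = s
      rw [LinearEquiv.symm_apply_eq, has]
    · show a.symm u = _
      rw [LinearEquiv.symm_apply_eq, map_add, hau, map_smul, has, neg_smul, add_assoc,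
        add_neg_cancel, add_zero]

theorem mem_fixV {Q : QuadraticForm F V} {v : V} {g : V ≃ₗ[F] V} :
    g ∈ fixV Q v ↔ g ∈ O Q ∧ g v = v := Iff.rfl

theorem mem_lineV {Q : QuadraticForm F V} {v : V} {g : V ≃ₗ[F] V} :
    g ∈ lineV Q v ↔ g ∈ O Q ∧ ∃ β : Fˣ, g v = β • v := Iff.rfl

theorem mem_planeK {N : Type u} [AddCommGroup N] [Module F N] {Q : QuadraticForm F V}
    {κ : QuadraticForm F N} {ι : N →ₗ[F] V} {g : V ≃ₗ[F] V} :
    g ∈ planeK Q κ ι ↔ g ∈ O Q ∧ ∃ d ∈ O κ, ∀ x, g (ι x) = ι (d x) := Iff.rfl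

theorem mem_transV {Q : QuadraticForm F V} {s u : V} {Γ : AddSubgroup F} {g : V ≃ₗ[F] V} :
    g ∈ transV Q s u Γ ↔ g ∈ O Q ∧ g s = s ∧ ∃ γ ∈ Γ, g u = u + γ • s := Iff.rfl

end Geo

/-! ### The statements of the induction; `n` is half of the dimension -/

/-- all orthogonal groups of dimension `2 n` in characteristic two -/
def T0 (n : ℕ) : Prop :=
  ∀ (F V : Type u) [Field F] [Finite F] [CharP F 2] [AddCommGroup V] [Module F V]
    [FiniteDimensional F V] (Q : QuadraticForm F V), Nondeg Q → Module.finrank F V = 2 * n →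
    FSGood False (O Q)

/-- stabilisers of singular vectors -/
def T1 (n : ℕ) : Prop :=
  ∀ (F V : Type u) [Field F] [Finite F] [CharP F 2] [AddCommGroup V] [Module F V]
    [FiniteDimensional F V] (Q : QuadraticForm F V), Nondeg Q → Module.finrank F V = 2 * n →
    ∀ v : V, v ≠ 0 → Q v = 0 → FSGood False (fixV Q v)

/-- stabilisers of nonsingular vectors -/
def T2 (n : ℕ) : Prop :=
  ∀ (F V : Type u) [Field F] [Finite F] [CharP F 2] [AddCommGroup V] [Module F V]
    [FiniteDimensional F V] (Q : QuadraticForm F V), Nondeg Q → Module.finrank F V = 2 * n →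
    ∀ v : V, Q v ≠ 0 → FSGood False (fixV Q v)

/-- stabilisers of singular lines -/
def T3 (n : ℕ) : Prop :=
  ∀ (F V : Type u) [Field F] [Finite F] [CharP F 2] [AddCommGroup V] [Module F V]
    [FiniteDimensional F V] (Q : QuadraticForm F V), Nondeg Q → Module.finrank F V = 2 * n →
    ∀ v : V, v ≠ 0 → Q v = 0 → FSGood True (lineV Q v)

/-- stabilisers of a totally singular plane with a quadratic form on it; the exceptional value
`0` of the indicator is only possible if the form on the plane is isotropic -/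
def T4 (n : ℕ) : Prop :=
  ∀ (F V : Type u) [Field F] [Finite F] [CharP F 2] [AddCommGroup V] [Module F V]
    [FiniteDimensional F V] (Q : QuadraticForm F V), Nondeg Q → Module.finrank F V = 2 * n →
    ∀ (N : Type u) [AddCommGroup N] [Module F N] [FiniteDimensional F N] (κ : QuadraticForm F N),
    Nondeg κ → Module.finrank F N = 2 → ∀ ι : N →ₗ[F] V, Function.Injective ι →
    (∀ x, Q (ι x) = 0) → FSGood (∃ x : N, x ≠ 0 ∧ κ x = 0) (planeK Q κ ι)

/-- the groups `transV` -/
def T5 (n : ℕ) : Prop :=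
  ∀ (F V : Type u) [Field F] [Finite F] [CharP F 2] [AddCommGroup V] [Module F V]
    [FiniteDimensional F V] (Q : QuadraticForm F V), Nondeg Q → Module.finrank F V = 2 * n →
    ∀ (s u : V) (Γ : AddSubgroup F), s ≠ 0 → Q s = 0 → Q u ≠ 0 → polar Q s u = 0 →
    FSGood False (transV Q s u Γ)

end Cfsg.Agent.H955.FS
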