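import Cfsg.Agent.H955.FSDefs
import Cfsg.Agent.H955.QElt

/-!
# Siegel transformations and the Levi factor attached to a hyperbolic pair
-/

set_option autoImplicit false

universe u

namespace Cfsg.Agent.H955.FS

open Module QuadraticMap Cfsg.Agent.LieClassical.OrthCore Cfsg.Agent.LieClassical.OrthTrans
open Cfsg.Agent.H955

variable {F V : Type u} [Field F] [AddCommGroup V] [Module F V] {Q : QuadraticForm F V}

/-- scalar multiplication as a linear equivalence of the field -/
def smulE (β : Fˣ) : F ≃ₗ[F] F := LinearEquiv.smulOfUnit β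

/-- the Levi factor: `g` on `hperp`, `β` on `x`, `β⁻¹` on `y` -/
def lev {x y : V} (h : Hyp Q x y) : (hperp Q x y ≃ₗ[F] hperp Q x y) × Fˣ →* (V ≃ₗ[F] V) where
  toFun p := tr (hypEquiv h)
    (LinearEquiv.prodCongr p.1 (LinearEquiv.prodCongr (smulE p.2) (smulE p.2⁻¹)))
  map_one' := by
    ext v
    rw [tr_apply]
    obtain ⟨w, rfl⟩ := (hypEquiv h).surjective v
    rw [LinearEquiv.symm_apply_apply]
    change hypEquiv h (w.1, (1 : Fˣ) • w.2.1, (1 : Fˣ)⁻¹ • w.2.2) = hypEquiv h w
    rw [inv_one, one_smul, one_smul]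
  map_mul' p q := by
    ext v
    rw [LinearEquiv.mul_apply, tr_apply, tr_apply, tr_apply]
    obtain ⟨w, rfl⟩ := (hypEquiv h).surjective v
    rw [LinearEquiv.symm_apply_apply, LinearEquiv.symm_apply_apply]
    change hypEquiv h (p.1 (q.1 w.1), (p.2 * q.2 : Fˣ) • w.2.1, (p.2 * q.2 : Fˣ)⁻¹ • w.2.2)
      = hypEquiv h (p.1 (q.1 w.1), p.2 • q.2 • w.2.1, p.2⁻¹ • q.2⁻¹ • w.2.2)
    rw [smul_smul, smul_smul, mul_inv]

theorem lev_apply {x y : V} (h : Hyp Q x y) (p : (hperp Q x y ≃ₗ[F] hperp Q x y) × Fˣ)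
    (m : hperp Q x y) (a b : F) :
    lev h p ((m : V) + a • x + b • y)
      = (p.1 m : V) + (p.2 * a) • x + (((p.2⁻¹ : Fˣ) : F) * b) • y := by
  have h1 : (m : V) + a • x + b • y = hypEquiv h (m, a, b) := rfl
  rw [h1]
  change tr (hypEquiv h) _ _ = _
  rw [tr_apply, LinearEquiv.symm_apply_apply]
  rfl

theorem lev_m {x y : V} (h : Hyp Q x y) (p : (hperp Q x y ≃ₗ[F] hperp Q x y) × Fˣ)
    (m : hperp Q x y) : lev h p (m : V) = (p.1 m : V) := by
  have h1 := lev_apply h p m 0 0
  simpa using h1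

theorem lev_x {x y : V} (h : Hyp Q x y) (p : (hperp Q x y ≃ₗ[F] hperp Q x y) × Fˣ) :
    lev h p x = p.2 • x := by
  have h1 := lev_apply h p 0 1 0
  simp only [mul_one, mul_zero, zero_smul, one_smul, add_zero, map_zero, Submodule.coe_zero,
    zero_add] at h1
  exact h1

theorem lev_y {x y : V} (h : Hyp Q x y) (p : (hperp Q x y ≃ₗ[F] hperp Q x y) × Fˣ) :
    lev h p y = p.2⁻¹ • y := by
  have h1 := lev_apply h p 0 0 1
  simp only [mul_one, mul_zero, zero_smul, one_smul, add_zero, map_zero, Submodule.coe_zero,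
    zero_add] at h1
  exact h1

theorem exists_coord {x y : V} (h : Hyp Q x y) (v : V) :
    ∃ (m : hperp Q x y) (a b : F), v = (m : V) + a • x + b • y := by
  obtain ⟨w, rfl⟩ := (hypEquiv h).surjective v
  exact ⟨w.1, w.2.1, w.2.2, rfl⟩

theorem Q_coord {x y : V} (h : Hyp Q x y) (m : hperp Q x y) (a b : F) :
    Q ((m : V) + a • x + b • y) = Q (m : V) + a * b := Q_hypEquiv h (m, a, b)

theorem lev_mem_O {x y : V} (h : Hyp Q x y) {p : (hperp Q x y ≃ₗ[F] hperp Q x y) × Fˣ} :
    lev h p ∈ O Q ↔ p.1 ∈ O (res Q (hperp Q x y)) := by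
  constructor
  · intro hp m
    have h1 := hp (m : V)
    rw [lev_m] at h1
    exact h1
  · intro hp v
    obtain ⟨m, a, b, rfl⟩ := exists_coord h v
    rw [lev_apply, Q_coord h, Q_coord h]
    have h1 : Q ((p.1 m : hperp Q x y) : V) = Q (m : V) := hp m
    rw [h1]
    congr 1
    have h2 : (p.2 : F) * ((p.2⁻¹ : Fˣ) : F) = 1 := by
      rw [← Units.val_mul, mul_inv_cancel, Units.val_one]
    calc (p.2 : F) * a * (((p.2⁻¹ : Fˣ) : F) * b)
        = ((p.2 : F) * ((p.2⁻¹ : Fˣ) : F)) * (a * b) := by ring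
      _ = a * b := by rw [h2, one_mul]

theorem lev_injective {x y : V} (h : Hyp Q x y) : Function.Injective (lev h) := by
  rw [injective_iff_map_eq_one]
  intro p hp
  have h1 : p.1 = 1 := by
    ext m
    have := lev_m h p m
    rw [hp] at this
    exact this.symm
  have h2 : p.2 = 1 := by
    have h3 := lev_x h p
    rw [hp] at h3
    have h4 : ((p.2 : F) - 1) • x = 0 := by
      rw [sub_smul, one_smul, sub_eq_zero]
      exact h3.symm
    rcases smul_eq_zero.1 h4 with h5 | h5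
    · exact Units.ext (sub_eq_zero.1 h5)
    · exact absurd h5 h.left_ne
  exact Prod.ext h1 h2

/-- the Siegel transformation `x, m` -/
def sg {x y : V} (h : Hyp Q x y) (m : hperp Q x y) : V ≃ₗ[F] V := siegel Q x m h.left m.2.1

theorem sg_mem_O {x y : V} (h : Hyp Q x y) (m : hperp Q x y) : sg h m ∈ O Q :=
  siegel_mem_O h.left m.2.1

theorem sg_add {x y : V} (h : Hyp Q x y) (m m' : hperp Q x y) :
    sg h (m + m') = sg h m * sg h m' :=
  (siegel_mul h.left m.2.1 m'.2.1 (m + m').2.1).symm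

theorem sg_x {x y : V} (h : Hyp Q x y) (m : hperp Q x y) : sg h m x = x := by
  unfold sg
  rw [siegel_apply, h.polar_left, polar_comm Q (m : V) x, m.2.1]
  simp

theorem sg_y {x y : V} (h : Hyp Q x y) (m : hperp Q x y) :
    sg h m y = (m : V) - Q (m : V) • x + y := by
  unfold sg
  rw [siegel_apply, h.pair, polar_comm Q (m : V) y, m.2.2]
  simp
  abel

theorem sg_m {x y : V} (h : Hyp Q x y) (m m' : hperp Q x y) :
    sg h m (m' : V) = (m' : V) - polar Q (m : V) (m' : V) • x := by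
  unfold sg
  rw [siegel_apply, m'.2.1]
  simp

theorem sg_zero {x y : V} (h : Hyp Q x y) : sg h (0 : hperp Q x y) = 1 := by
  have h1 := sg_add h 0 0
  rw [add_zero] at h1
  exact (mul_eq_left.1 h1.symm)

theorem sg_injective {x y : V} (h : Hyp Q x y) : Function.Injective (sg h) := by
  intro m m' hm
  have h1 := congrArg (fun g : V ≃ₗ[F] V => g y) hm
  simp only [sg_y] at h1
  have h2 : hypEquiv h (m, -Q (m : V), 1) = hypEquiv h (m', -Q (m' : V), 1) := by
    rw [hypEquiv_apply, hypEquiv_apply]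
    simp only [neg_smul, one_smul, ← sub_eq_add_neg]
    exact h1
  exact congrArg Prod.fst ((hypEquiv h).injective h2)

/-- the Levi factor acts on the Siegel transformations -/
theorem lev_sg {x y : V} (h : Hyp Q x y) {p : (hperp Q x y ≃ₗ[F] hperp Q x y) × Fˣ}
    (hp : p.1 ∈ O (res Q (hperp Q x y))) (m : hperp Q x y) :
    lev h p * sg h m * (lev h p)⁻¹ = sg h (p.2 • p.1 m) := by
  have hpO := (lev_mem_O h).2 hp
  have hx : Q (lev h p x) = 0 := by rw [hpO x, h.left]
  have hxm : polar Q (lev h p x) (lev h p (m : V)) = 0 := by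
    rw [polar_map hpO, m.2.1]
  unfold sg
  rw [siegel_conj hpO h.left m.2.1 hx hxm]
  ext v
  rw [siegel_apply, siegel_apply]
  have e1 : lev h p (m : V) = (p.1 m : V) := lev_m h p m
  have e2 : lev h p x = (p.2 : F) • x := lev_x h p
  have e3 : ((p.2 • p.1 m : hperp Q x y) : V) = (p.2 : F) • (p.1 m : V) := rfl
  rw [e1, e2, e3]
  rw [polar_smul_left, polar_smul_left, QuadraticMap.map_smul]
  have e4 : Q (p.1 m : V) = Q (m : V) := hp m
  simp only [smul_eq_mul, smul_smul, e4]
  have e5 : (p.2 : F) * polar Q x v = polar Q x v * (p.2 : F) := mul_comm _ _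
  have e6 : polar Q ((p.1 m : hperp Q x y) : V) v * (p.2 : F)
    = (p.2 : F) * polar Q ((p.1 m : hperp Q x y) : V) v := mul_comm _ _
  have e7 : Q (m : V) * ((p.2 : F) * polar Q x v) * (p.2 : F)
      = (p.2 : F) * (p.2 : F) * Q (m : V) * polar Q x v := by ring
  rw [e5, e6, ← e5, e7]

/-- the decomposition of the isometries stabilising the line of `x` -/
theorem exists_sg_lev {x y : V} (h : Hyp Q x y) {g : V ≃ₗ[F] V} (hg : g ∈ O Q) {β : Fˣ}
    (hx : g x = β • x) :
    ∃ (m : hperp Q x y) (k : hperp Q x y ≃ₗ[F] hperp Q x y), k ∈ O (res Q (hperp Q x y)) ∧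
      g = sg h m * lev h (k, β) := by
  classical
  obtain ⟨m, a, b, hgy⟩ := exists_coord h (g y)
  have hx' : g x = (β : F) • x := hx
  -- `b = β⁻¹`
  have hb : (β : F) * b = 1 := by
    have h1 : polar Q (g x) (g y) = 1 := by rw [polar_map hg, h.pair]
    rw [hx', hgy, polar_smul_left, polar_add_right, polar_add_right, polar_smul_right,
      polar_smul_right, m.2.1, h.polar_left, h.pair] at h1
    simpa using h1
  have hb' : b = ((β⁻¹ : Fˣ) : F) := by
    rw [Units.val_inv_eq_inv_val]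
    exact eq_inv_of_mul_eq_one_right hb
  have hbne : b ≠ 0 := fun h0 => by rw [h0, mul_zero] at hb; exact zero_ne_one hb
  have hQ : Q (m : V) + a * b = 0 := by
    have h1 : Q (g y) = 0 := by rw [hg y, h.right]
    rw [hgy, Q_coord h] at h1
    exact h1
  -- the translation part
  let m₀ : hperp Q x y := (β : F) • m
  have hm₀ : ((m₀ : hperp Q x y) : V) = (β : F) • (m : V) := rfl
  -- the inverse image of `x`, `y`
  let g' : V ≃ₗ[F] V := (sg h m₀)⁻¹ * g
  have hsginv : (sg h m₀)⁻¹ = sg h (-m₀) := by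
    rw [inv_eq_iff_mul_eq_one, ← sg_add, add_neg_cancel, sg_zero]
  have hg'O : g' ∈ O Q := mul_mem (inv_mem (sg_mem_O h m₀)) hg
  have hg'x : g' x = β • x := by
    change (sg h m₀)⁻¹ (g x) = _
    rw [hsginv, hx', map_smul, sg_x]
    rfl
  have hg'y : g' y = β⁻¹ • y := by
    have h2 : sg h m₀ (β⁻¹ • y) = g y := by
      have h3 : sg h m₀ (β⁻¹ • y) = b • sg h m₀ y := by
        rw [hb']
        exact map_smul (sg h m₀) _ y
      rw [h3, sg_y, hgy, hm₀, QuadraticMap.map_smul]
      have h4 : b * (β : F) = 1 := by rw [mul_comm]; exact hb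
      simp only [smul_add, smul_sub, smul_smul, smul_eq_mul, h4, one_smul]
      have h5 : b * (β * β * Q (m : V)) = -a := by
        have h6 : Q (m : V) = -(a * b) := by
          rw [eq_neg_iff_add_eq_zero]
          exact hQ
        rw [h6]
        calc b * (β * β * -(a * b)) = -(a * (b * β) * (b * β)) := by ring
          _ = -a := by rw [h4]; ring
      rw [h5, neg_smul, sub_neg_eq_add]
    change (sg h m₀)⁻¹ (g y) = _
    rw [← h2]
    exact (sg h m₀).symm_apply_apply _
  -- `g'` preserves `hperp`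
  have hpres : ∀ (k : V ≃ₗ[F] V), k ∈ O Q → (∀ γ : Fˣ, k x = γ • x → k y = γ⁻¹ • y →
      ∀ w ∈ hperp Q x y, k w ∈ hperp Q x y) := by
    intro k hk γ h1 h2 w hw
    have h1' : x = k (γ⁻¹ • x) := by
      have : k (γ⁻¹ • x) = γ⁻¹ • k x := map_smul k ((γ⁻¹ : Fˣ) : F) x
      rw [this, h1, smul_smul, inv_mul_cancel, one_smul]
    have h2' : y = k (γ • y) := by
      have : k (γ • y) = γ • k y := map_smul k (γ : F) y
      rw [this, h2, smul_smul, mul_inv_cancel, one_smul]
    constructor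
    · rw [h1', polar_map hk]
      have : polar Q (γ⁻¹ • x) w = ((γ⁻¹ : Fˣ) : F) • polar Q x w := polar_smul_left Q _ x w
      rw [this, hw.1, smul_zero]
    · rw [h2', polar_map hk]
      have : polar Q (γ • y) w = (γ : F) • polar Q y w := polar_smul_left Q _ y w
      rw [this, hw.2, smul_zero]
  have hg'i : (g'⁻¹ : V ≃ₗ[F] V) ∈ O Q := inv_mem hg'O
  have hg'ix : (g'⁻¹ : V ≃ₗ[F] V) x = β⁻¹ • x := by
    change g'.symm x = _
    rw [LinearEquiv.symm_apply_eq]
    have : g' (β⁻¹ • x) = β⁻¹ • g' x := map_smul g' ((β⁻¹ : Fˣ) : F) x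
    rw [this, hg'x, smul_smul, inv_mul_cancel, one_smul]
  have hg'iy : (g'⁻¹ : V ≃ₗ[F] V) y = (β⁻¹)⁻¹ • y := by
    change g'.symm y = _
    rw [LinearEquiv.symm_apply_eq, inv_inv]
    have : g' (β • y) = β • g' y := map_smul g' (β : F) y
    rw [this, hg'y, smul_smul, mul_inv_cancel, one_smul]
  let k : hperp Q x y ≃ₗ[F] hperp Q x y :=
    LinearEquiv.ofLinearMap
      ((g' : V →ₗ[F] V).restrict (hpres g' hg'O β hg'x hg'y))
      ((g'⁻¹ : V ≃ₗ[F] V).toLinearMap.restrict (hpres g'⁻¹ hg'i β⁻¹ hg'ix hg'iy))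
      (by
        ext w
        exact congrArg (fun t : V => t) (g'.apply_symm_apply (w : V)))
      (by
        ext w
        exact congrArg (fun t : V => t) (g'.symm_apply_apply (w : V)))
  refine ⟨m₀, k, fun w => hg'O (w : V), ?_⟩
  have h5 : g' = lev h (k, β) := by
    ext v
    obtain ⟨w, a', b', rfl⟩ := exists_coord h v
    rw [lev_apply, map_add, map_add, map_smul, map_smul, hg'x, hg'y]
    have h6 : a' • (β • x) = ((β : F) * a') • x := by
      rw [mul_comm, mul_smul]
      rfl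
    have h7 : b' • (β⁻¹ • y) = (((β⁻¹ : Fˣ) : F) * b') • y := by
      rw [mul_comm, mul_smul]
      rfl
    rw [h6, h7]
    rfl
  rw [← h5]
  exact (mul_inv_cancel_left _ _).symm

end Cfsg.Agent.H955.FS
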