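import Cfsg.Agent.H955.FSDefs

/-!
# Nondegenerate planes in characteristic two (task 690, for helper955: S4940, S4972, S4973)

* `plane_compl` : the orthogonal group of a nondegenerate plane is generalised dihedral over an abelian group `C` of
  odd order;
* `plane_two_forms` : the same for the intersection of two such groups.
-/

set_option autoImplicit false
set_option linter.unusedSectionVars false

universe u

namespace Cfsg.Agent.H955.FS

open Cfsg QuadraticMap
open Cfsg.Agent.LieClassical.OrthCore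

namespace Plane

variable {F N : Type u} [Field F] [CharP F 2] [AddCommGroup N] [Module F N] {κ : QuadraticForm F N}

theorem polar_self0 (v : N) : polar κ v v = 0 := by
  rw [polar_self', CharTwo.two_eq_zero, zero_mul]

theorem Q_add' (x y : N) : κ (x + y) = κ x + κ y + polar κ x y := Q_add x y

theorem polar_comm' (x y : N) : polar κ x y = polar κ y x := polar_comm _ _ _

/-- expansion in a symplectic basis -/
theorem expand (hd : Module.finrank F N = 2) [FiniteDimensional F N] {e₁ e₂ : N} (h12 : polar κ e₁ e₂ = 1) (v : N) :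
    v = polar κ v e₂ • e₁ + polar κ v e₁ • e₂ := by
  have h21 : polar κ e₂ e₁ = 1 := by rw [polar_comm', h12]
  have hli : LinearIndependent F ![e₁, e₂] := by
    rw [LinearIndependent.pair_iff]
    intro s t h
    constructor
    · have h1 := congrArg (fun x => polar κ x e₂) h
      simpa [polar_add_left, polar_smul_left, h12, CharTwo.two_eq_zero, polar_zero_left] using h1
    · have h1 := congrArg (fun x => polar κ x e₁) h
      simpa [polar_add_left, polar_smul_left, h21, CharTwo.two_eq_zero, polar_zero_left] using h1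
  have hsp : Submodule.span F (Set.range ![e₁, e₂]) = ⊤ :=
    hli.span_eq_top_of_card_eq_finrank (by rw [hd]; rfl)
  have hv : v ∈ Submodule.span F (Set.range ![e₁, e₂]) := hsp ▸ Submodule.mem_top
  rw [Matrix.range_cons, Matrix.range_cons, Matrix.range_empty, Set.union_empty, Set.singleton_union,
    Submodule.mem_span_pair] at hv
  obtain ⟨a, b, rfl⟩ := hv
  simp [polar_add_left, polar_smul_left, h12, h21, CharTwo.two_eq_zero]

theorem exists_pair (hκ : Nondeg κ) {v : N} (hv : v ≠ 0) : ∃ w, polar κ v w = 1 := hκ.exists_polar_eq hv 1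

/-- orthogonal vectors in a plane are proportional -/
theorem prop_of_polar (hκ : Nondeg κ) (hd : Module.finrank F N = 2) [FiniteDimensional F N] {x y : N} (hx : x ≠ 0)
    (h : polar κ x y = 0) : ∃ s : F, y = s • x := by
  obtain ⟨w, hw⟩ := exists_pair hκ hx
  refine ⟨polar κ y w, ?_⟩
  have h1 := expand hd hw y
  rw [polar_comm' y x, h, zero_smul, add_zero] at h1
  exact h1

theorem exists_ne_zero (hd : Module.finrank F N = 2) : ∃ v : N, v ≠ 0 := by
  have : Nontrivial N := Module.nontrivial_of_finrank_pos (R := F) (by omega)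
  exact exists_ne 0

/-- the key lemma on proportional endomorphisms -/
theorem scalar_of (hκ : Nondeg κ) (hd : Module.finrank F N = 2) [FiniteDimensional F N] (g : N ≃ₗ[F] N)
    (D : N →ₗ[F] N) (h : ∀ v, polar κ (g v) (D v) = 0) : ∃ s : F, ∀ v, D v = s • g v := by
  obtain ⟨v, hv⟩ := exists_ne_zero (F := F) hd
  obtain ⟨w, hw⟩ := exists_pair hκ hv
  have hw0 : w ≠ 0 := by
    rintro rfl
    rw [polar_zero_right] at hw
    exact zero_ne_one hw
  obtain ⟨e₁, rfl⟩ := g.surjective v
  obtain ⟨e₂, rfl⟩ := g.surjective w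
  obtain ⟨s, hs⟩ := prop_of_polar hκ hd hv (h e₁)
  obtain ⟨t, ht⟩ := prop_of_polar hκ hd hw0 (h e₂)
  have h1 := h (e₁ + e₂)
  rw [map_add, map_add, polar_add_left, polar_add_right, polar_add_right, h, h, hs, ht, polar_smul_right,
    polar_smul_right, hw, polar_comm' (g e₂), hw, zero_add, add_zero] at h1
  have hst : s = t := by
    simp only [smul_eq_mul, mul_one] at h1
    rw [CharTwo.add_eq_zero] at h1
    exact h1.symm
  subst hst
  refine ⟨s, fun x => ?_⟩
  have hx := expand hd hw (g x)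
  have hx' : x = polar κ (g x) (g e₂) • e₁ + polar κ (g x) (g e₁) • e₂ := by
    apply g.injective
    rw [map_add, map_smul, map_smul]
    exact hx
  rw [hx', map_add, map_smul, map_smul, hs, ht, map_add, map_smul, map_smul]
  module

/-- the endomorphism with `κ v = f (v, J v)` -/
theorem exists_J (hκ : Nondeg κ) (hd : Module.finrank F N = 2) [FiniteDimensional F N] :
    ∃ J : N →ₗ[F] N, ∀ v, polar κ v (J v) = κ v := by
  obtain ⟨e₁, hv⟩ := exists_ne_zero (F := F) hd
  obtain ⟨e₂, hw⟩ := exists_pair hκ hv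
  refine ⟨(polarBilin κ e₂).smulRight (e₁ + κ e₁ • e₂) + (polarBilin κ e₁).smulRight (κ e₂ • e₁), fun v => ?_⟩
  have h1 := expand hd hw v
  have e1 : ((polarBilin κ e₂).smulRight (e₁ + κ e₁ • e₂) + (polarBilin κ e₁).smulRight (κ e₂ • e₁) : N →ₗ[F] N) v
      = polar κ e₂ v • (e₁ + κ e₁ • e₂) + polar κ e₁ v • (κ e₂ • e₁) := rfl
  rw [e1]
  have e2 : κ v = (polar κ v e₂) ^ 2 * κ e₁ + (polar κ v e₁) ^ 2 * κ e₂ + polar κ v e₂ * polar κ v e₁ := by
    conv_lhs => rw [h1]
    rw [Q_add', QuadraticMap.map_smul, QuadraticMap.map_smul, polar_smul_left, polar_smul_right, hw]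
    simp only [smul_eq_mul]
    ring
  rw [e2]
  simp only [polar_add_right, polar_smul_right, smul_eq_mul, polar_comm' e₁ v, polar_comm' e₂ v]
  ring

variable {J : N →ₗ[F] N} (hJ : ∀ v, polar κ v (J v) = κ v)

include hJ in
theorem J_adj (v w : N) : polar κ v (J w) + polar κ w (J v) = polar κ v w := by
  have h := hJ (v + w)
  rw [map_add, polar_add_left, polar_add_right, polar_add_right, hJ, hJ, Q_add'] at h
  linear_combination h

include hJ in
theorem J_adj' (v w : N) : polar κ (J v) w + polar κ v (J w) = polar κ v w := by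
  rw [polar_comm' (J v) w, add_comm]
  exact J_adj hJ v w

include hJ in
theorem J_sq (hκ : Nondeg κ) (hd : Module.finrank F N = 2) [FiniteDimensional F N] :
    ∃ d : F, ∀ v, J (J v) = J v + d • v := by
  obtain ⟨d, h⟩ := scalar_of hκ hd (LinearEquiv.refl F N) (J ∘ₗ J + J) (fun v => by
    show polar κ v (J (J v) + J v) = 0
    have h1 := J_adj hJ v (J v)
    rw [polar_self0, add_zero] at h1
    rw [polar_add_right, h1]
    exact CharTwo.add_self_eq_zero _)
  refine ⟨d, fun v => ?_⟩
  have h1 : J (J v) + J v = d • v := h v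
  rw [← h1, add_comm (J (J v)), ← add_assoc]
  have h2 : J v + J v = 0 := by
    rw [← two_smul F, CharTwo.two_eq_zero, zero_smul]
  rw [h2, zero_add]

variable (κ J) in
/-- the centraliser of `J` -/
def C : Subgroup (N ≃ₗ[F] N) where
  carrier := {g | g ∈ O κ ∧ ∀ v, J (g v) = g (J v)}
  mul_mem' := fun {a b} ha hb => ⟨mul_mem ha.1 hb.1, fun v => by
    show J (a (b v)) = a (b (J v))
    rw [ha.2, hb.2]⟩
  one_mem' := ⟨one_mem _, fun v => rfl⟩
  inv_mem' := fun {a} ha => ⟨inv_mem ha.1, fun v => by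
    show J (a.symm v) = a.symm (J v)
    apply a.injective
    rw [← ha.2, LinearEquiv.apply_symm_apply, LinearEquiv.apply_symm_apply]⟩

theorem mem_C {g : N ≃ₗ[F] N} : g ∈ C κ J ↔ g ∈ O κ ∧ ∀ v, J (g v) = g (J v) := Iff.rfl

theorem C_le : C κ J ≤ O κ := fun _ h => h.1

theorem two_smul0 {F N : Type u} [Field F] [CharP F 2] [AddCommGroup N] [Module F N] (v : N) : v + v = 0 := by
  rw [← two_smul F, CharTwo.two_eq_zero, zero_smul]

include hJ in
/-- isometries commute with `J` up to `1` -/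
theorem comm_or (hκ : Nondeg κ) (hd : Module.finrank F N = 2) [FiniteDimensional F N] {g : N ≃ₗ[F] N} (hg : g ∈ O κ) :
    (∀ v, J (g v) = g (J v)) ∨ (∀ v, J (g v) = g (J v) + g v) := by
  obtain ⟨s, hs⟩ := scalar_of hκ hd g (J ∘ₗ g.toLinearMap - g.toLinearMap ∘ₗ J) (fun v => by
    show polar κ (g v) (J (g v) - g (J v)) = 0
    rw [polar_sub_right, hJ, mem_O.1 hg, polar_map hg, hJ, sub_self])
  have hs' : ∀ v, J (g v) = g (J v) + s • g v := by
    intro v
    have h1 : J (g v) - g (J v) = s • g v := hs v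
    rw [← h1]
    abel
  obtain ⟨d, hdd⟩ := J_sq hJ hκ hd
  obtain ⟨v, hv⟩ := exists_ne_zero (F := F) hd
  have h1 : J (J (g v)) = g (J (J v)) + (s * s) • g v := by
    rw [hs' v, map_add, map_smul, hs' (J v), hs' v, smul_add, smul_smul]
    have h2 : s • g (J v) + (s • g (J v) + (s * s) • g v) = (s * s) • g v := by
      rw [← add_assoc, two_smul0 (F := F), zero_add]
    rw [add_assoc, h2]
  have h3 : J (J (g v)) = g (J (J v)) + s • g v := by
    rw [hdd, hdd, hs' v, map_add, map_smul]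
    abel
  have h4 : (s * s) • g v = s • g v := by
    rw [h1] at h3
    exact add_left_cancel h3
  have hgv : g v ≠ 0 := by
    intro h
    exact hv ((LinearEquiv.map_eq_zero_iff g).1 h)
  have h5 : s * s = s := by
    by_contra h
    have h6 : (s * s - s) • g v = 0 := by rw [sub_smul, h4, sub_self]
    exact hgv ((smul_eq_zero.1 h6).resolve_left (sub_ne_zero.2 h))
  have h6 : s = 0 ∨ s = 1 := by
    have h7 : s * (s - 1) = 0 := by rw [mul_sub, h5, mul_one, sub_self]
    rcases mul_eq_zero.1 h7 with h | h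
    · exact Or.inl h
    · exact Or.inr (sub_eq_zero.1 h)
  rcases h6 with rfl | rfl
  · left
    intro v
    rw [hs' v, zero_smul, add_zero]
  · right
    intro v
    rw [hs' v, one_smul]

include hJ in
theorem twisted_of_not_mem (hκ : Nondeg κ) (hd : Module.finrank F N = 2) [FiniteDimensional F N] {g : N ≃ₗ[F] N}
    (hg : g ∈ O κ) (hgC : g ∉ C κ J) : ∀ v, J (g v) = g (J v) + g v :=
  (comm_or hJ hκ hd hg).resolve_left fun h => hgC ⟨hg, h⟩

include hJ in
/-- elements outside `C` are involutions -/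
theorem sq_of_not_mem (hκ : Nondeg κ) (hd : Module.finrank F N = 2) [FiniteDimensional F N] {g : N ≃ₗ[F] N}
    (hg : g ∈ O κ) (hgC : g ∉ C κ J) : g * g = 1 := by
  have hgJ := twisted_of_not_mem hJ hκ hd hg hgC
  obtain ⟨e₁, hv⟩ := exists_ne_zero (F := F) hd
  obtain ⟨e₂, hw⟩ := exists_pair hκ hv
  let B : N → N → F := fun v w => polar κ (g v) w + polar κ v (g w)
  have hBs : ∀ v, B v v = 0 := fun v => by
    show polar κ (g v) v + polar κ v (g v) = 0
    rw [polar_comm' (g v) v]
    exact CharTwo.add_self_eq_zero _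
  have hBadd : ∀ u v w, B (u + v) w = B u w + B v w := fun u v w => by
    simp only [B, map_add, polar_add_left]; ring
  have hBadd' : ∀ u v w, B u (v + w) = B u v + B u w := fun u v w => by
    simp only [B, map_add, polar_add_right]; ring
  have hBsm : ∀ (a : F) u v, B (a • u) v = a * B u v := fun a u v => by
    simp only [B, map_smul, polar_smul_left, smul_eq_mul]; ring
  have hBsm' : ∀ (a : F) u v, B u (a • v) = a * B u v := fun a u v => by
    simp only [B, map_smul, polar_smul_right, smul_eq_mul]; ring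
  have hBJ : ∀ v w, B (J v) w + B v (J w) = 0 := by
    intro v w
    have h1 : g (J v) = J (g v) + g v := by
      rw [hgJ v, add_assoc, two_smul0 (F := F), add_zero]
    have h2 : g (J w) = J (g w) + g w := by
      rw [hgJ w, add_assoc, two_smul0 (F := F), add_zero]
    show polar κ (g (J v)) w + polar κ (J v) (g w) + (polar κ (g v) (J w) + polar κ v (g (J w))) = 0
    rw [h1, h2, polar_add_left, polar_add_right]
    have h3 := J_adj' hJ (g v) w
    have h4 := J_adj' hJ v (g w)
    have h5 : (2 : F) = 0 := CharTwo.two_eq_zero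
    linear_combination h3 + h4 + h5 * (polar κ (g v) w + polar κ v (g w))
  have hB12 : B e₁ e₂ = 0 := by
    have h1 := hBJ e₁ e₂
    have h2 : J e₁ = polar κ (J e₁) e₂ • e₁ + polar κ (J e₁) e₁ • e₂ := expand hd hw _
    have h3 : J e₂ = polar κ (J e₂) e₂ • e₁ + polar κ (J e₂) e₁ • e₂ := expand hd hw _
    rw [h2, h3, hBadd, hBadd', hBsm, hBsm, hBsm', hBsm', hBs, hBs, mul_zero, mul_zero, add_zero, zero_add] at h1
    have h4 := J_adj' hJ e₁ e₂
    rw [hw, polar_comm' e₁ (J e₂)] at h4
    linear_combination h1 - B e₁ e₂ * h4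
  have hBsymm : ∀ v w, B v w = B w v := fun v w => by
    show polar κ (g v) w + polar κ v (g w) = polar κ (g w) v + polar κ w (g v)
    rw [polar_comm' (g v) w, polar_comm' v (g w), add_comm]
  have hB : ∀ v w, B v w = 0 := by
    intro v w
    rw [expand hd hw v, expand hd hw w]
    simp only [hBadd, hBadd', hBsm, hBsm', hBs, hB12, hBsymm e₂ e₁, mul_zero, add_zero]
  apply LinearEquiv.ext
  intro v
  show g (g v) = v
  rw [← sub_eq_zero]
  refine hκ _ fun y => ?_
  obtain ⟨w, rfl⟩ := g.surjective y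
  rw [polar_sub_left, polar_map hg]
  have h1 : polar κ (g v) w + polar κ v (g w) = 0 := hB v w
  have h5 : (2 : F) = 0 := CharTwo.two_eq_zero
  linear_combination h1 - h5 * polar κ v (g w)

include hJ in
/-- elements of `C` are fixed point free -/
theorem free (hκ : Nondeg κ) (hd : Module.finrank F N = 2) [FiniteDimensional F N] {a : N ≃ₗ[F] N}
    (ha : a ∈ C κ J) {v : N} (hv : v ≠ 0) (hav : a v = v) : a = 1 := by
  obtain ⟨w, hw⟩ := exists_pair hκ hv
  have hO := ha.1
  have hx : polar κ v (a w - w) = 0 := by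
    have h1 := polar_map hO v w
    rw [hav] at h1
    rw [polar_sub_right, h1, sub_self]
  obtain ⟨φ, hφ⟩ := prop_of_polar hκ hd hv hx
  have haw : a w = w + φ • v := by rw [← hφ]; abel
  have h1 : φ * φ * κ v + φ = 0 := by
    have h2 := mem_O.1 hO w
    rw [haw, Q_add', QuadraticMap.map_smul, polar_smul_right, polar_comm' w v, hw] at h2
    simp only [smul_eq_mul] at h2
    linear_combination h2
  have h2 : J v = polar κ (J v) w • v + κ v • w := by
    have h3 := expand hd hw (J v)
    rwa [polar_comm' (J v) v, hJ] at h3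
  have h3 : (κ v * φ) • v = 0 := by
    have h4 := ha.2 v
    rw [hav] at h4
    have h5 : a (J v) = J v + (κ v * φ) • v := by
      conv_lhs => rw [h2]
      rw [map_add, map_smul, map_smul, hav, haw]
      conv_rhs => rw [h2]
      module
    rw [h5] at h4
    exact (left_eq_add.1 h4)
  have h4 : κ v * φ = 0 := (smul_eq_zero.1 h3).resolve_right hv
  have h5 : φ = 0 := by linear_combination h1 - φ * h4
  rw [h5, zero_smul, add_zero] at haw
  apply LinearEquiv.ext
  intro x
  rw [expand hd hw x, map_add, map_smul, map_smul, hav, haw]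
  rfl

theorem exists_nonsing (hκ : Nondeg κ) (hd : Module.finrank F N = 2) : ∃ v, κ v ≠ 0 := by
  by_contra h
  push Not at h
  obtain ⟨v, hv⟩ := exists_ne_zero (F := F) hd
  exact hv (hκ v fun y => by simp [polar, h])

include hJ in
theorem refl_not_mem (hκ : Nondeg κ) (hd : Module.finrank F N = 2) [FiniteDimensional F N] {v : N} (hv : κ v ≠ 0) :
    refl κ v hv ∉ C κ J := by
  intro h
  have hv0 : v ≠ 0 := by
    rintro rfl
    exact hv (by simp)
  have h1 : refl κ v hv = 1 := by
    refine free hJ hκ hd h hv0 ?_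
    rw [refl_apply, polar_self0, mul_zero, zero_smul, sub_zero]
  obtain ⟨w, hw⟩ := exists_pair hκ hv0
  have h2 := refl_apply hv w
  rw [h1, hw, mul_one] at h2
  have h3 : (κ v)⁻¹ • v = 0 := by
    have h4 : w = w - (κ v)⁻¹ • v := h2
    exact sub_eq_self.1 h4.symm
  exact hv0 ((smul_eq_zero.1 h3).resolve_left (inv_ne_zero hv))

include hJ in
theorem mul_not_mem (hκ : Nondeg κ) (hd : Module.finrank F N = 2) [FiniteDimensional F N] {g h : N ≃ₗ[F] N}
    (hg : g ∈ O κ) (hh : h ∈ O κ) (hgC : g ∉ C κ J) (hhC : h ∉ C κ J) : g * h ∈ C κ J := by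
  refine ⟨mul_mem hg hh, fun v => ?_⟩
  show J (g (h v)) = g (h (J v))
  rw [twisted_of_not_mem hJ hκ hd hg hgC, twisted_of_not_mem hJ hκ hd hh hhC, map_add, add_assoc,
    two_smul0 (F := F), add_zero]

include hJ in
theorem inverts (hκ : Nondeg κ) (hd : Module.finrank F N = 2) [FiniteDimensional F N] {g a : N ≃ₗ[F] N}
    (hg : g ∈ O κ) (hgC : g ∉ C κ J) (ha : a ∈ C κ J) : g * a * g⁻¹ = a⁻¹ := by
  have h1 := sq_of_not_mem hJ hκ hd hg hgC
  have h2 : g * a ∉ C κ J := fun h => hgC (by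
    have := mul_mem h (inv_mem ha)
    rwa [mul_inv_cancel_right] at this)
  have h3 := sq_of_not_mem hJ hκ hd (mul_mem hg ha.1) h2
  have h4 : g⁻¹ = g := inv_eq_of_mul_eq_one_left h1
  rw [h4, eq_inv_iff_mul_eq_one, ← h3]
  group

include hJ in
theorem comm (hκ : Nondeg κ) (hd : Module.finrank F N = 2) [FiniteDimensional F N] {a b : N ≃ₗ[F] N}
    (ha : a ∈ C κ J) (hb : b ∈ C κ J) : a * b = b * a := by
  obtain ⟨v, hv⟩ := exists_nonsing hκ hd
  have hr := refl_mem_O hv
  have hrC := refl_not_mem hJ hκ hd hv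
  have h1 := inverts hJ hκ hd hr hrC ha
  have h2 := inverts hJ hκ hd hr hrC hb
  have h3 := inverts hJ hκ hd hr hrC (mul_mem ha hb)
  have h4 : refl κ v hv * (a * b) * (refl κ v hv)⁻¹ =
      (refl κ v hv * a * (refl κ v hv)⁻¹) * (refl κ v hv * b * (refl κ v hv)⁻¹) := by group
  rw [h3, h1, h2, mul_inv_rev] at h4
  have h5 := congrArg (fun x => x⁻¹) h4
  simp only [mul_inv_rev, inv_inv] at h5
  exact h5

include hJ in
theorem odd_card (hκ : Nondeg κ) (hd : Module.finrank F N = 2) [FiniteDimensional F N] [Finite F] :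
    Odd (Nat.card (C κ J)) := by
  have : Finite N := Module.finite_of_finite F
  have : Finite (N ≃ₗ[F] N) := Finite.of_injective (fun g : N ≃ₗ[F] N => (g : N → N)) DFunLike.coe_injective
  rw [← Nat.not_even_iff_odd]
  intro he
  have : Fact (Nat.Prime 2) := ⟨Nat.prime_two⟩
  obtain ⟨⟨t, ht⟩, ht2⟩ := exists_prime_orderOf_dvd_card' 2 he.two_dvd
  have h1 : t * t = 1 := by
    have h2 := pow_orderOf_eq_one (⟨t, ht⟩ : C κ J)
    rw [ht2, pow_two] at h2
    exact congrArg Subtype.val h2
  have h3 : t ≠ 1 := by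
    rintro rfl
    have : (⟨1, ht⟩ : C κ J) = 1 := rfl
    rw [this, orderOf_one] at ht2
    omega
  obtain ⟨w, hw⟩ : ∃ w, t w ≠ w := by
    by_contra h
    push Not at h
    exact h3 (LinearEquiv.ext h)
  apply h3
  refine free hJ hκ hd ht (v := t w - w) (sub_ne_zero.2 hw) ?_
  have h4 : t (t w) = w := congrArg (fun f : N ≃ₗ[F] N => f w) h1
  rw [map_sub, h4]
  have h5 := two_smul0 (F := F) (w - t w)
  have h6 : t w - w = -(w - t w) := by abel
  rw [h6]
  exact eq_neg_of_add_eq_zero_left h5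

include hJ in
/-- elements of `C` are `α + β J` -/
theorem eq_of_mem (hκ : Nondeg κ) (hd : Module.finrank F N = 2) [FiniteDimensional F N] {c : N ≃ₗ[F] N}
    (hc : c ∈ C κ J) (hc1 : c ≠ 1) : ∃ β : F, β ≠ 0 ∧ ∀ v, polar κ v (c v) = β * κ v := by
  obtain ⟨v, hv⟩ := exists_nonsing hκ hd
  have hv0 : v ≠ 0 := by
    rintro rfl
    exact hv (by simp)
  -- `v, (κ v)⁻¹ J v` is a symplectic basis
  have h12 : polar κ v ((κ v)⁻¹ • J v) = 1 := by
    rw [polar_smul_right, hJ, smul_eq_mul, inv_mul_cancel₀ hv]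
  obtain ⟨α, β, hαβ⟩ : ∃ α β : F, c v = α • v + β • J v := by
    refine ⟨polar κ (c v) ((κ v)⁻¹ • J v), polar κ (c v) v * (κ v)⁻¹, ?_⟩
    have h1 := expand hd h12 (c v)
    rw [smul_smul] at h1
    exact h1
  obtain ⟨d, hdd⟩ := J_sq hJ hκ hd
  have hcJ : c (J v) = α • J v + β • J (J v) := by
    rw [← hc.2, hαβ, map_add, map_smul, map_smul]
  have hall : ∀ x, c x = α • x + β • J x := by
    intro x
    have h1 := expand hd h12 x
    rw [h1, map_add, map_smul, map_smul, map_smul, hαβ, hcJ, map_add, map_smul, map_smul, map_smul]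
    module
  refine ⟨β, ?_, fun x => ?_⟩
  · rintro rfl
    apply hc1
    have hall' : ∀ x, c x = α • x := fun x => by rw [hall x, zero_smul, add_zero]
    have h1 := mem_O.1 hc.1 v
    rw [hall' v, QuadraticMap.map_smul, smul_eq_mul] at h1
    have h2 : α * α = 1 := by
      have h3 : (α * α - 1) * κ v = 0 := by rw [sub_mul, h1, one_mul, sub_self]
      exact sub_eq_zero.1 ((mul_eq_zero.1 h3).resolve_right hv)
    have h3 : α = 1 := by
      have h4 : (α - 1) * (α - 1) = 0 := by
        have h5 : (2 : F) = 0 := CharTwo.two_eq_zero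
        linear_combination h2 + h5 * (1 - α)
      exact sub_eq_zero.1 (mul_self_eq_zero.1 h4)
    apply LinearEquiv.ext
    intro x
    rw [hall' x, h3, one_smul]
    rfl
  · rw [hall x, polar_add_right, polar_smul_right, polar_smul_right, polar_self0, hJ, smul_eq_mul, smul_eq_mul,
      mul_zero, zero_add]

/-- alternating forms on a plane are proportional -/
theorem polar_prop (hκ : Nondeg κ) (hd : Module.finrank F N = 2) [FiniteDimensional F N] (κ' : QuadraticForm F N) :
    ∃ γ : F, ∀ v w, polar κ' v w = γ * polar κ v w := by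
  obtain ⟨e₁, hv⟩ := exists_ne_zero (F := F) hd
  obtain ⟨e₂, hw⟩ := exists_pair hκ hv
  refine ⟨polar κ' e₁ e₂, fun v w => ?_⟩
  have h1 : polar κ' v w = polar κ' (polar κ v e₂ • e₁ + polar κ v e₁ • e₂)
      (polar κ w e₂ • e₁ + polar κ w e₁ • e₂) := by
    rw [← expand hd hw v, ← expand hd hw w]
  have h2 : polar κ v w = polar κ (polar κ v e₂ • e₁ + polar κ v e₁ • e₂)
      (polar κ w e₂ • e₁ + polar κ w e₁ • e₂) := by
    rw [← expand hd hw v, ← expand hd hw w]
  rw [h1, h2]
  simp only [polar_add_left, polar_add_right, polar_smul_left, polar_smul_right, polar_self0, smul_eq_mul, hw,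
    polar_comm' e₂ e₁, mul_zero, zero_add, add_zero, mul_one]
  ring

end Plane

open Plane

theorem plane_compl {F N : Type u} [Field F] [Finite F] [CharP F 2] [AddCommGroup N] [Module F N]
    [FiniteDimensional F N] (κ : QuadraticForm F N) (hκ : Nondeg κ) (hd : Module.finrank F N = 2) :
    ∃ C : Subgroup (N ≃ₗ[F] N), C ≤ O κ ∧ Odd (Nat.card C) ∧ (∀ g ∈ O κ, g ∉ C → g * g = 1) ∧ (∃ g ∈ O κ, g ∉ C) ∧
      (∀ a ∈ C, ∀ b ∈ C, a * b = b * a) ∧ (∀ g ∈ O κ, g ∉ C → ∀ a ∈ C, g * a * g⁻¹ = a⁻¹) ∧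
      (∀ a ∈ C, ∀ v, v ≠ 0 → a v = v → a = 1) ∧ (∀ g ∈ O κ, ∀ h ∈ O κ, g ∉ C → h ∉ C → g * h ∈ C) := by
  obtain ⟨J, hJ⟩ := exists_J hκ hd
  obtain ⟨v, hv⟩ := exists_nonsing hκ hd
  exact ⟨C κ J, C_le, odd_card hJ hκ hd, fun g hg hgC => sq_of_not_mem hJ hκ hd hg hgC,
    ⟨refl κ v hv, refl_mem_O hv, refl_not_mem hJ hκ hd hv⟩, fun a ha b hb => Plane.comm hJ hκ hd ha hb,
    fun g hg hgC a ha => inverts hJ hκ hd hg hgC ha, fun a ha v hv hav => free hJ hκ hd ha hv hav,
    fun g hg h hh hgC hhC => mul_not_mem hJ hκ hd hg hh hgC hhC⟩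

theorem plane_two_forms {F N : Type u} [Field F] [Finite F] [CharP F 2] [AddCommGroup N] [Module F N]
    [FiniteDimensional F N] (κ κ' : QuadraticForm F N) (hκ : Nondeg κ) (hκ' : Nondeg κ')
    (hd : Module.finrank F N = 2) :
    ∃ C' : Subgroup (N ≃ₗ[F] N), C' ≤ O κ ⊓ O κ' ∧ Odd (Nat.card C') ∧ (∀ g ∈ O κ ⊓ O κ', g ∉ C' → g * g = 1) ∧
      (C' = O κ ⊓ O κ' → C' = ⊥) := by
  obtain ⟨J, hJ⟩ := exists_J hκ hd
  obtain ⟨J', hJ'⟩ := exists_J hκ' hd
  have : Finite N := Module.finite_of_finite F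
  have : Finite (N ≃ₗ[F] N) := Finite.of_injective (fun g : N ≃ₗ[F] N => (g : N → N)) DFunLike.coe_injective
  have hodd := odd_card hJ hκ hd
  refine ⟨C κ J ⊓ O κ', inf_le_inf_right _ C_le, ?_, ?_, ?_⟩
  · exact hodd.of_dvd_nat (Subgroup.card_dvd_of_le inf_le_left)
  · intro g hg hgC
    exact sq_of_not_mem hJ hκ hd hg.1 fun h => hgC ⟨h, hg.2⟩
  · intro heq
    rw [eq_bot_iff]
    intro c hc
    rw [Subgroup.mem_bot]
    by_contra hc1
    -- `c` lies in `C κ' J'`
    have hc' : c ∈ C κ' J' := by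
      by_contra h
      have h1 := sq_of_not_mem hJ' hκ' hd hc.2 h
      have h2 : orderOf (⟨c, hc.1⟩ : C κ J) ∣ 2 := orderOf_dvd_of_pow_eq_one (by
        rw [pow_two]
        exact Subtype.ext h1)
      have h3 : orderOf (⟨c, hc.1⟩ : C κ J) ∣ Nat.card (C κ J) := orderOf_dvd_natCard _
      have h4 : orderOf (⟨c, hc.1⟩ : C κ J) = 1 :=
        Nat.eq_one_of_dvd_coprimes (Nat.coprime_two_left.2 hodd) h2 h3
      exact hc1 (congrArg Subtype.val (orderOf_eq_one_iff.1 h4))
    obtain ⟨β, hβ, h1⟩ := eq_of_mem hJ hκ hd hc.1 hc1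
    obtain ⟨β', hβ', h2⟩ := eq_of_mem hJ' hκ' hd hc' hc1
    obtain ⟨γ, h3⟩ := polar_prop hκ hd κ'
    have h4 : ∀ v, κ' v = (β'⁻¹ * (γ * β)) * κ v := by
      intro v
      have h5 := h2 v
      rw [h3, h1] at h5
      rw [mul_assoc, mul_assoc, h5, inv_mul_cancel_left₀ hβ']
    obtain ⟨v, hv⟩ := exists_nonsing hκ hd
    have h5 : refl κ v hv ∈ O κ ⊓ O κ' := by
      refine ⟨refl_mem_O hv, fun x => ?_⟩
      rw [h4, h4, mem_O.1 (refl_mem_O hv)]
    rw [← heq] at h5
    exact refl_not_mem hJ hκ hd hv h5.1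

end Cfsg.Agent.H955.FS
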