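import Cfsg.Agent.H955.FSDefs
import Cfsg.Agent.S0752

/-!
# The extension field form in characteristic two (task 688, for S4940, S4972, S4973; helper809)

`exists_extension` : for a selfadjoint `x` with `f (x v, v) = 0` and irreducible minimal polynomial, the centraliser of
`x` in `O Q` is the orthogonal group of a nondegenerate quadratic form over the field `F[x]`.
-/

set_option autoImplicit false
set_option linter.unusedSectionVars false

universe u

namespace Cfsg.Agent.H955.FS

open Cfsg QuadraticMap
open Cfsg.Agent.LieClassical.OrthCore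

namespace Field2

theorem even_finrank {F V : Type u} [Field F] [CharP F 2] [AddCommGroup V] [Module F V] [FiniteDimensional F V]
    {R : QuadraticForm F V} (hR : Nondeg R) : Even (Module.finrank F V) := by
  have hA : LinearMap.BilinForm.IsAlt (polarBilin R) := by
    intro v
    show polar R v v = 0
    rw [polar_self', CharTwo.two_eq_zero, zero_mul]
  obtain ⟨m, k, b, -, -, -, hk⟩ := Cfsg.Agent.S0752.result (polarBilin R) hA
  have hk0 : k = 0 := by
    by_contra hne
    exact b.ne_zero (Sum.inr (⟨0, by omega⟩ : Fin k)) (hR _ fun v => hk _ v)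
  subst hk0
  rw [Module.finrank_eq_card_basis b]
  simp

/-- the square root -/
noncomputable def rt (E : Type u) [Field E] [Finite E] [CharP E 2] : E ≃+* E := (frobeniusEquiv E 2).symm

theorem rt_mul_rt {E : Type u} [Field E] [Finite E] [CharP E 2] (e : E) : rt E e * rt E e = e := by
  have h : frobeniusEquiv E 2 ((frobeniusEquiv E 2).symm e) = e := RingEquiv.apply_symm_apply _ _
  rw [frobeniusEquiv_apply, frobenius_def, pow_two] at h
  exact h

theorem eq_rt {E : Type u} [Field E] [Finite E] [CharP E 2] {e c : E} (h : c * c = e) : rt E e = c := by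
  have h1 : rt E e * rt E e - c * c = 0 := by rw [rt_mul_rt, h, sub_self]
  have h2 : (rt E e - c) * (rt E e - c) = 0 := by
    have h3 : (2 : E) = 0 := CharTwo.two_eq_zero
    linear_combination h1 + h3 * (c * c - rt E e * c)
  exact sub_eq_zero.1 (mul_self_eq_zero.1 h2)

section Ext

variable {F E V : Type u} [Field F] [Finite F] [CharP F 2] [Field E] [Finite E] [CharP E 2] [Algebra F E]
  [AddCommGroup V] [Module F V] [Module E V] [IsScalarTower F E V] [FiniteDimensional F V] {Q : QuadraticForm F V}

theorem exists_t (F E : Type u) [Field F] [Field E] [Algebra F E] : ∃ t : E →ₗ[F] F, t ≠ 0 := by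
  by_contra h
  push Not at h
  have h1 := (Module.forall_dual_apply_eq_zero_iff F (1 : E)).1 fun φ => by rw [h φ]; rfl
  exact one_ne_zero h1

theorem t_unique {t : E →ₗ[F] F} (ht : t ≠ 0) {c : E} (h : ∀ e, t (e * c) = 0) : c = 0 := by
  by_contra hc
  apply ht
  ext e
  have h1 := h (e * c⁻¹)
  rwa [mul_assoc, inv_mul_cancel₀ hc, mul_one] at h1

theorem t_unique' {t : E →ₗ[F] F} (ht : t ≠ 0) {c d : E} (h : ∀ e, t (e * c) = t (e * d)) : c = d := by
  rw [← sub_eq_zero]
  refine t_unique ht fun e => ?_
  rw [mul_sub, map_sub, h, sub_self]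

theorem exists_rep {t : E →ₗ[F] F} (ht : t ≠ 0) (l : E →ₗ[F] F) : ∃ c, ∀ e, t (e * c) = l e := by
  have : Module.Finite F E := inferInstance
  let Φ : E →ₗ[F] (E →ₗ[F] F) := (LinearMap.mul F E).compr₂ t
  have hΦ : ∀ c e, Φ c e = t (c * e) := fun c e => rfl
  have hinj : Function.Injective Φ := by
    rw [injective_iff_map_eq_zero]
    intro c hc
    refine t_unique ht fun e => ?_
    rw [mul_comm, ← hΦ, hc]
    rfl
  have hsurj : Function.Surjective Φ :=
    (LinearMap.injective_iff_surjective_of_finrank_eq_finrank (Subspace.dual_finrank_eq (K := F) (V := E)).symm).1 hinj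
  obtain ⟨c, hc⟩ := hsurj l
  refine ⟨c, fun e => ?_⟩
  rw [mul_comm, ← hΦ, hc]

variable (hs : ∀ (e : E) (v w : V), polar Q (e • v) w = polar Q v (e • w))
  (ha : ∀ (e : E) (v : V), polar Q (e • v) v = 0)

include hs ha in
/-- the functional `e ↦ Q (√e v)` -/
theorem exists_lam (v : V) : ∃ l : E →ₗ[F] F, ∀ e, l e = Q (rt E e • v) := by
  refine ⟨{ toFun := fun e => Q (rt E e • v), map_add' := fun a b => ?_, map_smul' := fun a b => ?_ }, fun e => rfl⟩
  · have h1 : polar Q (rt E a • v) (rt E b • v) = 0 := by
      rw [← hs, smul_smul, ha]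
    rw [map_add, add_smul, Q_add, h1, add_zero]
  · have h1 : rt E (a • b) = algebraMap F E (rt F a) * rt E b := by
      apply eq_rt
      rw [mul_mul_mul_comm, rt_mul_rt, ← map_mul, rt_mul_rt, Algebra.smul_def]
    have h2 : (algebraMap F E (rt F a) * rt E b) • v = rt F a • (rt E b • v) := by
      rw [mul_smul, algebraMap_smul]
    rw [h1, h2, QuadraticMap.map_smul, rt_mul_rt]
    rfl

include hs in
/-- the functional `e ↦ f (e v, w)` -/
theorem exists_mu (v w : V) : ∃ l : E →ₗ[F] F, ∀ e, l e = polar Q (e • v) w := by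
  refine ⟨{ toFun := fun e => polar Q (e • v) w, map_add' := fun a b => ?_, map_smul' := fun a b => ?_ }, fun e => rfl⟩
  · rw [add_smul, polar_add_left]
  · rw [smul_assoc, polar_smul_left]
    rfl

include hs ha in
/-- **the quadratic form over `E`** -/
theorem exists_QE {t : E →ₗ[F] F} (ht : t ≠ 0) : ∃ QE : QuadraticForm E V,
    (∀ (e : E) (v : V), t (e * QE v) = Q (rt E e • v)) ∧
      ∀ (e : E) (v w : V), t (e * polar QE v w) = polar Q (e • v) w := by
  choose l hl using exists_lam hs ha
  choose q hq using fun v => exists_rep ht (l v)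
  choose m hm using exists_mu hs
  choose f hf using fun v w => exists_rep ht (m v w)
  have hq' : ∀ (v : V) (e : E), t (e * q v) = Q (rt E e • v) := fun v e => by rw [hq, hl]
  have hf' : ∀ (v w : V) (e : E), t (e * f v w) = polar Q (e • v) w := fun v w e => by rw [hf, hm]
  have hadd : ∀ x y, q (x + y) = q x + q y + f x y := by
    intro x y
    refine t_unique' ht fun e => ?_
    have h1 : polar Q (rt E e • x) (rt E e • y) = polar Q (e • x) y := by
      rw [← hs, smul_smul, rt_mul_rt]
    rw [hq', mul_add, mul_add, map_add, map_add, hq', hq', hf', smul_add, Q_add, h1]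
  have hpol : ∀ x y, q (x + y) - q x - q y = f x y := fun x y => by rw [hadd]; ring
  let B : LinearMap.BilinMap E V E := LinearMap.mk₂ E f
    (fun a b c => t_unique' ht fun e => by
      rw [mul_add, map_add, hf', hf', hf', smul_add, polar_add_left])
    (fun a b c => t_unique' ht fun e => by
      rw [smul_eq_mul, ← mul_assoc, hf', hf', smul_smul])
    (fun a b c => t_unique' ht fun e => by
      rw [mul_add, map_add, hf', hf', hf', polar_add_right])
    (fun a b c => t_unique' ht fun e => by
      rw [smul_eq_mul, ← mul_assoc, hf', hf', ← hs, smul_smul, mul_comm])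
  refine ⟨{ toFun := q, toFun_smul := fun a v => ?_, exists_companion' := ⟨B, hadd⟩ }, fun e v => hq' v e,
    fun e v w => ?_⟩
  · refine t_unique' ht fun e => ?_
    rw [smul_eq_mul, ← mul_assoc, hq', hq', smul_smul]
    congr 2
    symm
    apply eq_rt
    rw [mul_mul_mul_comm, rt_mul_rt]
  · rw [← hf' v w e, ← hpol]
    rfl

variable {t : E →ₗ[F] F} (ht : t ≠ 0) {QE : QuadraticForm E V}
  (h1 : ∀ (e : E) (v : V), t (e * QE v) = Q (rt E e • v))
  (h2 : ∀ (e : E) (v w : V), t (e * polar QE v w) = polar Q (e • v) w)

include h2 in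
theorem nondeg_QE (hQ : Nondeg Q) : Nondeg QE := by
  intro v hv
  refine hQ v fun w => ?_
  have h := h2 1 v w
  rw [hv, mul_zero, map_zero, one_smul] at h
  exact h.symm

/-- restriction of scalars -/
def resS (F : Type u) {E V : Type u} [Field F] [Field E] [Algebra F E] [AddCommGroup V] [Module F V] [Module E V]
    [IsScalarTower F E V] : (V ≃ₗ[E] V) →* (V ≃ₗ[F] V) where
  toFun g := g.restrictScalars F
  map_one' := rfl
  map_mul' _ _ := rfl

include ht h1 in
theorem mem_range (g : V ≃ₗ[F] V) : (g ∈ ((resS F).comp (O QE).subtype).range ↔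
    g ∈ O Q ∧ ∀ (e : E) (v : V), g (e • v) = e • g v) := by
  constructor
  · rintro ⟨⟨h, hh⟩, rfl⟩
    refine ⟨fun v => ?_, fun e v => map_smul h e v⟩
    have h3 := h1 1 (h v)
    have h4 := h1 1 v
    rw [map_one, one_smul] at h3 h4
    show Q (h v) = Q v
    rw [← h3, ← h4, mem_O.1 hh]
  · rintro ⟨hg, hc⟩
    refine ⟨⟨{ g with map_smul' := hc }, fun v => ?_⟩, ?_⟩
    · refine t_unique' ht fun e => ?_
      show t (e * QE (g v)) = t (e * QE v)
      rw [h1, h1, ← hc, mem_O.1 hg]
    · rfl

end Ext

end Field2

open Field2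

open Polynomial in
theorem exists_extension {F V : Type u} [Field F] [Finite F] [CharP F 2] [AddCommGroup V] [Module F V]
    [FiniteDimensional F V] (Q : QuadraticForm F V) (hQ : Nondeg Q) (x : Module.End F V)
    (hself : ∀ v w, polar Q (x v) w = polar Q v (x w)) (halt : ∀ v, polar Q (x v) v = 0)
    (hirr : Irreducible (minpoly F x)) :
    ∃ (E : Type u) (_ : Field E) (_ : Finite E) (_ : CharP E 2) (_ : Module E V) (_ : FiniteDimensional E V)
      (QE : QuadraticForm E V) (f : ↥(O QE) →* (V ≃ₗ[F] V)), Nondeg QE ∧
      Module.finrank E V * (minpoly F x).natDegree = Module.finrank F V ∧ Even (Module.finrank E V) ∧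
      (∀ (g : O QE) (v : V), f g v = (g : V ≃ₗ[E] V) v) ∧
      (∀ g : V ≃ₗ[F] V, g ∈ f.range ↔ g ∈ O Q ∧ ∀ v, g (x v) = x (g v)) := by
  have : Fact (Irreducible (minpoly F x)) := ⟨hirr⟩
  have hx : IsIntegral F x := Algebra.IsIntegral.isIntegral x
  let E : Type u := AdjoinRoot (minpoly F x)
  let _ : Field E := AdjoinRoot.instField
  let _ : Algebra F E := inferInstanceAs (Algebra F (AdjoinRoot (minpoly F x)))
  have hfin : Module.Finite F E := (AdjoinRoot.powerBasis hirr.ne_zero).finite
  have : Finite E := Module.finite_of_finite F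
  have : CharP E 2 := charP_of_injective_algebraMap (algebraMap F E).injective 2
  have hφ0 : ∀ a : F[X], a ∈ Ideal.span {minpoly F x} → (aeval x : F[X] →ₐ[F] Module.End F V) a = 0 := by
    intro a ha
    obtain ⟨b, rfl⟩ := Ideal.mem_span_singleton.1 ha
    rw [map_mul, minpoly.aeval, zero_mul]
  let φ : E →ₐ[F] Module.End F V := Ideal.Quotient.liftₐ (Ideal.span {minpoly F x}) (aeval x) hφ0
  have hφ : ∀ a : F[X], φ (AdjoinRoot.mk (minpoly F x) a) = aeval x a := fun a => rfl
  let _ : Module E V := Module.compHom V φ.toRingHom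
  have hsm : ∀ (e : E) (v : V), e • v = φ e v := fun e v => rfl
  have hroot : ∀ v : V, (AdjoinRoot.root (minpoly F x) : E) • v = x v := by
    intro v
    rw [hsm]
    have h1 := hφ X
    rw [aeval_X] at h1
    exact congrArg (fun f : Module.End F V => f v) h1
  have : IsScalarTower F E V := ⟨fun a e v => by
    rw [hsm, hsm, map_smul]
    rfl⟩
  have hsp : ∀ (a : F[X]) (v w : V), polar Q (aeval x a v) w = polar Q v (aeval x a w) := by
    intro a
    induction a using Polynomial.induction_on' with
    | add p q hp hq => intro v w; simp only [map_add, LinearMap.add_apply, polar_add_left, polar_add_right, hp, hq]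
    | monomial n a =>
      intro v w
      simp only [aeval_monomial, Module.End.mul_apply, Module.algebraMap_end_apply, polar_smul_left, polar_smul_right]
      congr 1
      induction n generalizing v w with
      | zero => simp
      | succ n ih =>
        rw [pow_succ, Module.End.mul_apply, ih, hself, ← Module.End.mul_apply, ← pow_succ', ← pow_succ]
  have hpow : ∀ (n : ℕ) (v w : V), polar Q ((x ^ n) v) w = polar Q v ((x ^ n) w) := by
    intro n v w
    have h1 := hsp (X ^ n) v w
    rwa [map_pow, aeval_X] at h1
  have hself0 : ∀ v : V, polar Q v v = 0 := fun v => by rw [polar_self', CharTwo.two_eq_zero, zero_mul]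
  have hap : ∀ (a : F[X]) (v : V), polar Q (aeval x a v) v = 0 := by
    intro a
    induction a using Polynomial.induction_on' with
    | add p q hp hq => intro v; rw [map_add, LinearMap.add_apply, polar_add_left, hp, hq, add_zero]
    | monomial n a =>
      intro v
      simp only [aeval_monomial, Module.End.mul_apply, Module.algebraMap_end_apply, polar_smul_left]
      rw [smul_eq_zero]
      right
      rcases Nat.even_or_odd' n with ⟨k, rfl | rfl⟩
      · rw [two_mul, pow_add, Module.End.mul_apply, hpow, hself0]
      · have h1 : x ^ (2 * k + 1) = x ^ k * (x * x ^ k) := by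
          rw [← pow_succ', ← pow_add]
          congr 1
          omega
        rw [h1, Module.End.mul_apply, Module.End.mul_apply, hpow, halt]
  have hs : ∀ (e : E) (v w : V), polar Q (e • v) w = polar Q v (e • w) := by
    intro e v w
    obtain ⟨a, rfl⟩ := AdjoinRoot.mk_surjective e
    rw [hsm, hsm, hφ]
    exact hsp a v w
  have ha : ∀ (e : E) (v : V), polar Q (e • v) v = 0 := by
    intro e v
    obtain ⟨a, rfl⟩ := AdjoinRoot.mk_surjective e
    rw [hsm, hφ]
    exact hap a v
  have hfd : FiniteDimensional E V := Module.Finite.of_restrictScalars_finite F E V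
  obtain ⟨t, ht⟩ := exists_t F E
  obtain ⟨QE, h1, h2⟩ := exists_QE hs ha ht
  have hnd := nondeg_QE h2 hQ
  refine ⟨E, inferInstance, inferInstance, inferInstance, inferInstance, hfd, QE, (resS F).comp (O QE).subtype,
    hnd, ?_, even_finrank hnd, fun g v => rfl, fun g => ?_⟩
  · have h3 : Module.finrank F E = (minpoly F x).natDegree := by
      rw [(AdjoinRoot.powerBasis hirr.ne_zero).finrank, AdjoinRoot.powerBasis_dim]
    rw [← h3, mul_comm]
    exact Module.finrank_mul_finrank F E V
  · rw [mem_range ht h1]
    refine and_congr_right fun _ => ⟨fun h v => ?_, fun h e v => ?_⟩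
    · rw [← hroot, ← hroot, h]
    · obtain ⟨a, rfl⟩ := AdjoinRoot.mk_surjective e
      rw [hsm, hsm, hφ]
      induction a using Polynomial.induction_on' generalizing v with
      | add p q hp hq => rw [map_add, LinearMap.add_apply, LinearMap.add_apply, map_add, hp, hq]
      | monomial n a =>
        simp only [aeval_monomial, Module.End.mul_apply, Module.algebraMap_end_apply, map_smul]
        congr 1
        induction n generalizing v with
        | zero => simp
        | succ n ih => rw [pow_succ, Module.End.mul_apply, Module.End.mul_apply, ih, h]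

end Cfsg.Agent.H955.FS
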