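import Cfsg.Agent.H955.FSVec
import Cfsg.Agent.H955.FSField

/-!
# The induction step for the full orthogonal groups: tools
-/

set_option autoImplicit false

universe u

namespace Cfsg.Agent.H955.FS

open Module QuadraticMap Cfsg.Agent.LieClassical.OrthCore Cfsg.Agent.LieClassical.OrthTrans
open Cfsg.Agent.H955

/-- a `2`-group of linear maps fixes a nonzero vector in characteristic two -/
theorem exists_fixed {F V : Type u} [Field F] [Finite F] [CharP F 2] [AddCommGroup V] [Module F V]
    [FiniteDimensional F V] (hpos : 0 < finrank F V) (P : Subgroup (V ≃ₗ[F] V))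
    (hP : IsPGroup 2 P) : ∃ w : V, w ≠ 0 ∧ ∀ g ∈ P, g w = w := by
  classical
  have : Finite V := Module.finite_of_finite F
  have : Fact (Nat.Prime 2) := ⟨Nat.prime_two⟩
  have := finite_equiv F V
  let _ : MulAction P V := MulAction.compHom V P.subtype
  have hcard : 2 ∣ Nat.card V := by
    rw [Module.natCard_eq_pow_finrank (K := F)]
    refine dvd_pow ?_ hpos.ne'
    let _ := Fintype.ofFinite F
    obtain ⟨n, hp, h⟩ := FiniteField.card F 2
    rw [Nat.card_eq_fintype_card, h]
    exact dvd_pow_self 2 n.ne_zero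
  obtain ⟨b, hb, hne⟩ := hP.exists_fixed_point_of_prime_dvd_card_of_fixed_point V hcard
    (a := 0) (fun g => by
      change (g : V ≃ₗ[F] V) 0 = 0
      exact map_zero _)
  exact ⟨b, hne.symm, fun g hg => hb ⟨g, hg⟩⟩

section Stab

variable {F V : Type u} [Field F] [AddCommGroup V] [Module F V] [FiniteDimensional F V]
  {Q : QuadraticForm F V}

/-- an isometry preserving a nondegenerate subspace is a product -/
theorem exists_glue {U : Submodule F V} (hU : Nondeg (res Q U)) {g : V ≃ₗ[F] V} (hg : g ∈ O Q)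
    (hgU : ∀ w ∈ U, g w ∈ U) :
    ∃ p : (U ≃ₗ[F] U) × (perp Q U ≃ₗ[F] perp Q U), p.1 ∈ O (res Q U) ∧
      p.2 ∈ O (res Q (perp Q U)) ∧ glue hU p = g := by
  have hgP : ∀ w ∈ perp Q U, g w ∈ perp Q U := inv_perp hg hgU
  refine ⟨(resT g U hgU, resT g (perp Q U) hgP), resT_mem_O hg hgU, resT_mem_O hg hgP, ?_⟩
  ext v
  obtain ⟨a, b, rfl⟩ := exists_add_perp hU v
  rw [glue_apply, map_add]
  rfl

/-- the stabiliser of a nondegenerate subspace -/
theorem good_stab [Finite F] [CharP F 2] (hQ : Nondeg Q) {n : ℕ} (hd : finrank F V = 2 * n)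
    (ih : ∀ m < n, T0.{u} m) {U : Submodule F V} (hU : Nondeg (res Q U)) (h0 : U ≠ ⊥)
    (h1 : U ≠ ⊤) :
    ∃ Y : Subgroup (V ≃ₗ[F] V), Y ≤ O Q ∧ (∀ g ∈ O Q, (∀ w ∈ U, g w ∈ U) → g ∈ Y) ∧
      FSGood False Y := by
  have := finite_equiv F V
  have := finite_equiv F U
  have := finite_equiv F (perp Q U)
  obtain ⟨a, ha⟩ := (Field2.even_finrank hU).exists_two_nsmul
  obtain ⟨b, hb⟩ := (Field2.even_finrank (nondeg_perp hQ hU)).exists_two_nsmul
  have hsum := finrank_add_perp hQ U
  have hUpos : 0 < finrank F U := by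
    rw [Nat.pos_iff_ne_zero]
    intro h
    exact h0 (Submodule.finrank_eq_zero.1 h)
  have hUlt : finrank F U < finrank F V := Submodule.finrank_lt h1
  rw [smul_eq_mul] at ha hb
  have hga : FSGood False (O (res Q U)) := ih a (by omega) F U (res Q U) hU (by omega)
  have hgb : FSGood False (O (res Q (perp Q U))) :=
    ih b (by omega) F _ (res Q (perp Q U)) (nondeg_perp hQ hU) (by omega)
  let f : O (res Q U) × O (res Q (perp Q U)) →* (V ≃ₗ[F] V) :=
    (glue hU).comp ((O (res Q U)).subtype.prodMap (O (res Q (perp Q U))).subtype)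
  refine ⟨f.range, ?_, ?_, ?_⟩
  · rintro _ ⟨p, rfl⟩
    exact (glue_mem_O hU).2 ⟨p.1.2, p.2.2⟩
  · intro g hg hgU
    obtain ⟨p, hp1, hp2, rfl⟩ := exists_glue hU hg hgU
    exact ⟨(⟨p.1, hp1⟩, ⟨p.2, hp2⟩), rfl⟩
  · exact (hga.prod hgb).of_surjective f.rangeRestrict f.rangeRestrict_surjective

end Stab

section Plane

variable {F V : Type u} [Field F] [AddCommGroup V] [Module F V] {Q : QuadraticForm F V}

/-- the form `a² + τ a b + b²` on the plane -/
def kap (F : Type u) [Field F] (τ : F) : QuadraticForm F (F × F) where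
  toFun p := p.1 * p.1 + τ * (p.1 * p.2) + p.2 * p.2
  toFun_smul := by
    intro a p
    simp only [Prod.smul_fst, Prod.smul_snd, smul_eq_mul]
    ring
  exists_companion' := by
    refine ⟨LinearMap.mk₂ F (fun p q => 2 * (p.1 * q.1) + τ * (p.1 * q.2 + p.2 * q.1)
      + 2 * (p.2 * q.2)) ?_ ?_ ?_ ?_, ?_⟩
    · intro p p' q
      simp only [Prod.fst_add, Prod.snd_add]
      ring
    · intro c p q
      simp only [Prod.smul_fst, Prod.smul_snd, smul_eq_mul]
      ring
    · intro p q q'
      simp only [Prod.fst_add, Prod.snd_add]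
      ring
    · intro c p q
      simp only [Prod.smul_fst, Prod.smul_snd, smul_eq_mul]
      ring
    · intro p q
      simp only [Prod.fst_add, Prod.snd_add, LinearMap.mk₂_apply]
      ring

theorem kap_apply (τ : F) (p : F × F) :
    kap F τ p = p.1 * p.1 + τ * (p.1 * p.2) + p.2 * p.2 := rfl

theorem polar_kap [CharP F 2] (τ : F) (p q : F × F) :
    polar (kap F τ) p q = τ * (p.1 * q.2 + p.2 * q.1) := by
  have h2 : (2 : F) = 0 := CharTwo.two_eq_zero
  unfold polar
  rw [kap_apply, kap_apply, kap_apply]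
  simp only [Prod.fst_add, Prod.snd_add]
  linear_combination (p.1 * q.1 + p.2 * q.2) * h2

theorem nondeg_kap [CharP F 2] {τ : F} (hτ : τ ≠ 0) : Nondeg (kap F τ) := by
  intro p hp
  have h1 := hp (0, 1)
  have h2 := hp (1, 0)
  rw [polar_kap] at h1 h2
  simp only [mul_one, mul_zero, add_zero, zero_add] at h1 h2
  exact Prod.ext ((mul_eq_zero.1 h1).resolve_left hτ) ((mul_eq_zero.1 h2).resolve_left hτ)

end Plane

end Cfsg.Agent.H955.FS
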