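import Cfsg.Agent.H955.FSDefs
import Cfsg.Agent.H705.Indicator
import Cfsg.Agent.H604.FS
import Cfsg.Agent.CharactersDeep.NormalInd
import Cfsg.Agent.CharactersDeep.ExtUnique
import Cfsg.Agent.S0854
import Cfsg.Agent.S1489
import Cfsg.Agent.S0158

/-!
# Indicators and Clifford theory for sign characters of a complemented normal subgroup

* `clifford` : `A ⊴ G`, `lam : A → {1,-1}` linear, `A ⊔ Y` its inertia group, `A ⊓ Y = 1`; the
  indicators of `G` over `lam` are among those of `Y`.
* `exists_linear` : a sign character of `A` below a given irreducible character.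
-/

set_option autoImplicit false
set_option linter.style.haveILetI false
set_option linter.unusedVariables false

universe u

namespace Cfsg.Agent.H955.FS

open Cfsg QuadraticMap
open Cfsg.Agent.LieClassical.OrthCore
open Cfsg.Agent.Characters.Core
open scoped ComplexConjugate

theorem fsi_eq_sum_c {G : Type u} [Group G] [Fintype G] (χ : G → ℂ) :
    fsi χ = (Nat.card G : ℂ)⁻¹ * ∑ s : G, χ (s * s) := by
  unfold fsi
  rw [finsum_eq_sum_of_fintype]

/-- The indicator is `0`, `1` or `-1`, and `0` exactly if the character is not real valued. -/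
theorem fsi_irr {G : Type u} [Group G] [Finite G] {χ : G → ℂ} (hχ : IsIrrCharacter G χ) :
    (fsi χ = 0 ∨ fsi χ = 1 ∨ fsi χ = -1) ∧ (fsi χ = 0 ↔ ∃ s : G, (χ s).im ≠ 0) := by
  haveI := Fintype.ofFinite G
  rw [fsi_eq_sum_c]
  obtain ⟨n, ρ, hρ, rfl⟩ := hχ
  haveI := hρ
  exact Cfsg.Agent.S0158.result ρ

theorem real_of_fsi_ne_zero_c {G : Type u} [Group G] [Finite G] {χ : G → ℂ}
    (hχ : IsIrrCharacter G χ) (h : fsi χ ≠ 0) (g : G) : (χ g).im = 0 := by
  by_contra hg
  exact h ((fsi_irr hχ).2.2 ⟨g, hg⟩)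

/-- `A` acts by the scalars of an invariant linear character. -/
theorem act_lin {T : Type*} [Group T] [Fintype T] {A : Type*} [Group A] [Fintype A] (j : A →* T)
    (c : T → A → A) (hc : ∀ t a, j (c t a) = t * j a * t⁻¹) (hj : Function.Injective j)
    (l : A → ℂ) (hl : ∀ a b, l (a * b) = l a * l b) (hl1 : ∀ a, l a * conj (l a) = 1)
    (hinv : ∀ t a, l (c t a) = l a) {ψ : T → ℂ} (hψ : IsIrrCharacter T ψ)
    (hover : classInner (fun a : A => ψ (j a)) l ≠ 0) (a : A) (t : T) :
    ψ (j a * t) = l a * ψ t := by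
  classical
  obtain ⟨n, ρ, hρ, rfl⟩ := hψ
  let E : Module.End ℂ (Fin n → ℂ) := ∑ a : A, conj (l a) • ρ (j a)
  have hbij : ∀ t, Function.Bijective (c t) := by
    intro t
    rw [← Finite.injective_iff_bijective]
    intro x y hxy
    apply hj
    have h1 := congrArg j hxy
    rw [hc, hc] at h1
    simpa using h1
  have hcomm : ∀ (t : T) (v : Fin n → ℂ), E (ρ t v) = ρ t (E v) := by
    intro t v
    have h2 : E * ρ t = ρ t * E := by
      simp only [E, Finset.sum_mul, Finset.mul_sum]
      symm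
      refine Fintype.sum_equiv (Equiv.ofBijective _ (hbij t)) _ _ fun b => ?_
      rw [Equiv.ofBijective_apply, hinv, hc, smul_mul_assoc, mul_smul_comm, ← map_mul, ← map_mul]
      congr 2
      group
    exact LinearMap.congr_fun h2 v
  obtain ⟨e, he⟩ := Cfsg.Agent.CharactersDeep.ExtUnique.exists_smul_of_comm ρ hρ E hcomm
  have hEe : E = e • (1 : Module.End ℂ (Fin n → ℂ)) := by
    apply LinearMap.ext
    intro v
    rw [he v]
    rfl
  have htr : LinearMap.trace ℂ _ E = ∑ a : A, conj (l a) * ρ.character (j a) := by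
    simp only [E, map_sum, map_smul, smul_eq_mul]
    rfl
  have he0 : e ≠ 0 := by
    rintro rfl
    rw [zero_smul] at hEe
    rw [hEe, map_zero] at htr
    apply hover
    rw [classInner_def]
    have h1 : ∑ g : A, ρ.character (j g) * conj (l g) = 0 := by
      rw [htr]
      exact Finset.sum_congr rfl fun x _ => mul_comm _ _
    rw [h1, mul_zero]
  have hmul : ρ (j a) * E = l a • E := by
    simp only [E, Finset.mul_sum, Finset.smul_sum]
    refine Fintype.sum_equiv (Equiv.mulLeft a) _ _ fun b => ?_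
    rw [Equiv.coe_mulLeft, hl, map_mul (starRingEnd ℂ), mul_smul_comm, map_mul j, map_mul ρ,
      smul_smul]
    congr 1
    rw [← mul_assoc, hl1, one_mul]
  have hsc : ρ (j a) = l a • (1 : Module.End ℂ (Fin n → ℂ)) := by
    rw [hEe, mul_smul_comm, mul_one, smul_comm] at hmul
    exact smul_right_injective _ he0 hmul
  show LinearMap.trace ℂ _ (ρ (j a * t)) = l a * LinearMap.trace ℂ _ (ρ t)
  rw [map_mul, hsc, smul_mul_assoc, one_mul, map_smul, smul_eq_mul]

/-- The indicator of an irreducible character of a semidirect product over an invariant sign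
character of the normal subgroup. -/
theorem fsi_over_sign {T : Type u} [Group T] [Fintype T] {A : Type*} [Group A] [Fintype A]
    {Y : Type u} [Group Y] [Fintype Y] (j : A →* T) (k : Y →* T) (c : T → A → A)
    (hc : ∀ t a, j (c t a) = t * j a * t⁻¹)
    (hb : Function.Bijective fun x : A × Y => j x.1 * k x.2)
    (l : A → ℂ) (hl : ∀ a b, l (a * b) = l a * l b) (hpm : ∀ a, l a = 1 ∨ l a = -1)
    (hinv : ∀ t a, l (c t a) = l a) {ψ : T → ℂ} (hψ : IsIrrCharacter T ψ)
    (hover : classInner (fun a : A => ψ (j a)) l ≠ 0) :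
    IsIrrCharacter Y (fun y => ψ (k y)) ∧ fsi ψ = fsi (fun y => ψ (k y)) := by
  classical
  have hll : ∀ a, l a * l a = 1 := by
    intro a
    rcases hpm a with h | h <;> rw [h] <;> norm_num
  have hconj : ∀ a, conj (l a) = l a := by
    intro a
    rcases hpm a with h | h <;> rw [h] <;> simp
  have hj : Function.Injective j := by
    intro x y hxy
    have h1 := hb.1 (a₁ := (x, 1)) (a₂ := (y, 1)) (by simp [hxy])
    exact congrArg Prod.fst h1
  have hact : ∀ a t, ψ (j a * t) = l a * ψ t := fun a t =>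
    act_lin j c hc hj l hl (fun a => by rw [hconj, hll]) hinv hψ hover a t
  have hcard : (Nat.card T : ℂ) = Nat.card A * Nat.card Y := by
    rw [← Nat.card_congr (Equiv.ofBijective _ hb), Nat.card_prod, Nat.cast_mul]
  have hA0 : (Nat.card A : ℂ) ≠ 0 := card_ne_zero_complex
  have hY0 : (Nat.card Y : ℂ) ≠ 0 := card_ne_zero_complex
  have hsum : ∀ f : T → ℂ, ∑ t, f t = ∑ a : A, ∑ y : Y, f (j a * k y) := by
    intro f
    rw [← Fintype.sum_prod_type' (f := fun a y => f (j a * k y))]
    exact (Fintype.sum_equiv (Equiv.ofBijective _ hb) _ _ fun x => rfl).symm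
  refine ⟨?_, ?_⟩
  · refine (isIrr_iff_classInner_self (isCharacter_comp k (isIrr_isCharacter hψ))).2 ?_
    have h1 := classInner_irr_self hψ
    rw [classInner_def, hsum] at h1
    have h2 : ∀ (a : A) (y : Y), ψ (j a * k y) * conj (ψ (j a * k y)) =
        ψ (k y) * conj (ψ (k y)) := by
      intro a y
      rw [hact, map_mul, hconj]
      calc l a * ψ (k y) * (l a * conj (ψ (k y))) = (l a * l a) * (ψ (k y) * conj (ψ (k y))) := by
            ring
        _ = _ := by rw [hll, one_mul]
    simp_rw [h2] at h1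
    rw [Finset.sum_const, Finset.card_univ, ← Nat.card_eq_fintype_card, nsmul_eq_mul, hcard] at h1
    rw [classInner_def]
    rw [← h1]
    simp only [Function.comp]
    field_simp
  · rw [fsi_eq_sum_c, fsi_eq_sum_c, hsum]
    have h2 : ∀ (a : A) (y : Y), ψ (j a * k y * (j a * k y)) = ψ (k (y * y)) := by
      intro a y
      have h3 : j a * k y * (j a * k y) = j a * (j (c (k y) a) * k (y * y)) := by
        rw [hc, map_mul]
        group
      rw [h3, hact, hact, hinv, ← mul_assoc, hll, one_mul]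
    simp_rw [h2]
    rw [Finset.sum_const, Finset.card_univ, ← Nat.card_eq_fintype_card, nsmul_eq_mul, hcard]
    simp only [map_mul]
    field_simp

/-- Sign functions which are multiplicative are irreducible characters. -/
theorem isIrr_sign {A : Type*} [Group A] (lam : A → ℂ)
    (hlam : ∀ a b : A, lam (a * b) = lam a * lam b) (hpm : ∀ a, lam a = 1 ∨ lam a = -1) :
    IsIrrCharacter A lam := by
  have hll : ∀ a, lam a * lam a = 1 := by
    intro a
    rcases hpm a with h | h <;> rw [h] <;> norm_num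
  let f : A →* ℂˣ := MonoidHom.mk' (fun a => ⟨lam a, lam a, hll a, hll a⟩) fun a b =>
    Units.ext (hlam a b)
  exact Characters.Linear.isIrrCharacter_hom f

/-- Induction commutes with complex conjugation. -/
theorem indFun_conj {G : Type*} [Group G] [Fintype G] (H : Subgroup G) (θ : H → ℂ) :
    indFun H (fun h => conj (θ h)) = fun g => conj (indFun H θ g) := by
  funext g
  rw [indFun_apply, indFun_apply, map_mul, map_inv₀, Complex.conj_natCast, map_sum]
  congr 1
  refine Finset.sum_congr rfl fun x _ => ?_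
  by_cases h : x⁻¹ * g * x ∈ H
  · rw [extendByZero_of_mem H _ h, extendByZero_of_mem H _ h]
  · rw [extendByZero_of_notMem H _ h, extendByZero_of_notMem H _ h, map_zero]

theorem clifford {G : Type u} [Group G] [Finite G] (A Y : Subgroup G) [hA : A.Normal]
    (hAY : A ⊓ Y = ⊥) (lam : A → ℂ) (hlam : ∀ a b : A, lam (a * b) = lam a * lam b)
    (hpm : ∀ a, lam a = 1 ∨ lam a = -1)
    (hT : ∀ g : G, g ∈ A ⊔ Y ↔ ∀ a : A, lam ⟨g * a * g⁻¹, hA.conj_mem a a.2 g⟩ = lam a)
    {w : Prop} (hY : FSGood w Y) {χ : G → ℂ} (hχ : IsIrrCharacter G χ)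
    (hover : ∑ᶠ a : A, χ a * lam a ≠ 0) : fsi χ = 1 ∨ (w ∧ fsi χ = 0) := by
  classical
  have := Fintype.ofFinite G
  have := Fintype.ofFinite A
  have := Fintype.ofFinite Y
  have := Fintype.ofFinite ↥(A ⊔ Y)
  have hlamI : IsIrrCharacter A lam := isIrr_sign lam hlam hpm
  have hconj : ∀ a, conj (lam a) = lam a := by
    intro a
    rcases hpm a with h | h <;> rw [h] <;> simp
  have hcon : classInner (fun n : A => χ n) lam ≠ 0 := by
    rw [finsum_eq_sum_of_fintype] at hover
    rw [classInner_def]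
    refine mul_ne_zero (inv_ne_zero card_ne_zero_complex) ?_
    simp_rw [hconj]
    exact hover
  obtain ⟨ψ, hψ, hind, hcc⟩ := Cfsg.Agent.S0854.result A lam hlamI (A ⊔ Y) hT le_sup_left χ hχ hcon
  let j : A →* ↥(A ⊔ Y) := Subgroup.inclusion le_sup_left
  let k : Y →* ↥(A ⊔ Y) := Subgroup.inclusion le_sup_right
  let c : ↥(A ⊔ Y) → A → A := fun t a => ⟨t * a * (t : G)⁻¹, hA.conj_mem a a.2 t⟩
  have hb : Function.Bijective fun x : A × Y => j x.1 * k x.2 := by
    constructor
    · rintro ⟨a, y⟩ ⟨a', y'⟩ h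
      have h1 : (a : G) * y = a' * y' := congrArg Subtype.val h
      have h2 : (a' : G)⁻¹ * a = y' * (y : G)⁻¹ := by
        rw [inv_mul_eq_iff_eq_mul, ← mul_assoc, ← h1, mul_inv_cancel_right]
      have h3 : (a' : G)⁻¹ * a ∈ A ⊓ Y :=
        ⟨A.mul_mem (A.inv_mem a'.2) a.2, by
        rw [h2]
        exact Y.mul_mem y'.2 (Y.inv_mem y.2)⟩
      rw [hAY, Subgroup.mem_bot] at h3
      have h4 : a = a' := Subtype.ext (inv_mul_eq_one.1 h3).symm
      subst h4
      have h5 : y = y' := Subtype.ext (mul_left_cancel h1)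
      rw [h5]
    · rintro ⟨t, ht⟩
      obtain ⟨a, ha, y, hy, rfl⟩ := Subgroup.mem_sup_of_normal_left.1 ht
      exact ⟨(⟨a, ha⟩, ⟨y, hy⟩), Subtype.ext rfl⟩
  obtain ⟨hirr, hfs⟩ := fsi_over_sign j k c (fun t a => Subtype.ext rfl) hb lam hlam hpm
    (fun t a => (hT t).1 t.2 a) hψ (by
      intro h0
      apply hcon
      rw [← hcc]
      exact h0)
  have hmult : classInner (fun h : ↥(A ⊔ Y) => χ ((A ⊔ Y).subtype h)) ψ = 1 := by
    have h1 := CharactersDeep.NormalInd.classInner_indFun (A ⊔ Y) ψ χ (isIrr_isClassFunction hχ)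
    rw [hind, classInner_irr_self hχ] at h1
    rw [← classInner_conj_symm]
    show conj (classInner ψ fun h : ↥(A ⊔ Y) => χ h) = 1
    rw [← h1, map_one]
  rcases hY _ hirr with h1 | ⟨hw, h0⟩
  · left
    have hψr : ∀ t, (ψ t).im = 0 := real_of_fsi_ne_zero_c hψ (by rw [hfs, h1]; exact one_ne_zero)
    have hχr : ∀ g, (χ g).im = 0 := by
      intro g
      rw [← hind, ← Complex.conj_eq_iff_im]
      have h2 : (fun h => conj (ψ h)) = ψ := funext fun h => Complex.conj_eq_iff_im.2 (hψr h)
      have h3 := indFun_conj (A ⊔ Y) ψ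
      rw [h2] at h3
      exact (congrFun h3 g).symm
    rw [fsi_eq_sum_c]
    refine Cfsg.Agent.H705.Indicator.indicator_restrict (A ⊔ Y).subtype hχ hχr hψ ?_ hmult
    rw [← fsi_eq_sum_c, hfs, h1]
  · right
    refine ⟨hw, ?_⟩
    by_contra hne
    have hχr := real_of_fsi_ne_zero_c hχ hne
    have hχc : (fun g => conj (χ g)) = χ := funext fun g => Complex.conj_eq_iff_im.2 (hχr g)
    have hψ0 : fsi ψ = 0 := by rw [hfs, h0]
    obtain ⟨s, hs⟩ := (fsi_irr hψ).2.1 hψ0
    -- the character of the subgroup is above `lam`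
    have habove : ∀ η : ↥(A ⊔ Y) → ℂ, IsIrrCharacter _ η →
        classInner (fun a : A => η (j a)) lam ≠ 0 →
        classInner (indFun (A.subgroupOf (A ⊔ Y)) (fun x => lam ⟨(x : ↥(A ⊔ Y)),
          Subgroup.mem_subgroupOf.mp x.2⟩)) η ≠ 0 := by
      intro η hη h2
      rw [CharactersDeep.NormalInd.classInner_indFun _ _ _ (isIrr_isClassFunction hη)]
      intro h3
      apply h2
      rw [← classInner_conj_symm]
      rw [← map_zero (starRingEnd ℂ)]
      congr 1
      rw [← h3, classInner_def, classInner_def]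
      let e := Subgroup.subgroupOfEquivOfLe (le_sup_left : A ≤ A ⊔ Y)
      congr 1
      · rw [Nat.card_congr e.toEquiv]
      · refine (Fintype.sum_equiv e.toEquiv _ _ fun x => ?_).symm
        rfl
    have hψ' := isIrr_conj hψ
    have h4 : classInner (fun a : A => ψ (j a)) lam ≠ 0 := by
      intro h0
      apply hcon
      rw [← hcc]
      exact h0
    have h5 : classInner (fun a : A => conj (ψ (j a))) lam ≠ 0 := by
      intro h6
      apply h4
      have h7 : classInner (fun a : A => conj (ψ (j a))) lam =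
          conj (classInner (fun a : A => ψ (j a)) lam) := by
        rw [classInner_def, classInner_def, map_mul, map_inv₀, Complex.conj_natCast, map_sum]
        congr 1
        refine Finset.sum_congr rfl fun x _ => ?_
        rw [map_mul, hconj, hconj]
      rw [h7] at h6
      exact (map_eq_zero _).1 h6
    have h8 := (Cfsg.Agent.S1489.result A (A ⊔ Y) lam hlamI hT le_sup_left ψ
      (fun t => conj (ψ t)) hψ hψ' (habove ψ hψ h4) (habove _ hψ' h5)).2 (by
        rw [indFun_conj, hind, hχc])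
    apply hs
    rw [← Complex.conj_eq_iff_im]
    exact (congrFun h8 s).symm

theorem exists_linear {G : Type u} [Group G] [Finite G] (A Z : Subgroup G) (hZA : Z ≤ A)
    (hsq : ∀ a ∈ A, a * a ∈ Z) {χ : G → ℂ} (hχ : IsIrrCharacter G χ)
    (hker : ∀ z ∈ Z, χ z = χ 1) : ∃ lam : A → ℂ, (∀ a b : A, lam (a * b) = lam a * lam b) ∧
      (∀ a, lam a = 1 ∨ lam a = -1) ∧ (∀ z : A, (z : G) ∈ Z → lam z = 1) ∧
      ∑ᶠ a : A, χ a * lam a ≠ 0 := by
  classical
  have := Fintype.ofFinite G
  have := Fintype.ofFinite A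
  -- commutators and conjugates
  let Z' : Subgroup A := Z.subgroupOf A
  have hsq' : ∀ a : A, a * a ∈ Z' := fun a => Subgroup.mem_subgroupOf.2 (hsq a a.2)
  have hnorm : Z'.Normal := by
    refine ⟨fun z hz a => ?_⟩
    have h1 : a * z * a⁻¹ = (a * z) * (a * z) * z⁻¹ * (a⁻¹ * a⁻¹) := by group
    rw [h1]
    exact mul_mem (mul_mem (hsq' _) (inv_mem hz)) (hsq' _)
  have hcomm : ∀ x y : A ⧸ Z', x * y = y * x := by
    have h1 : ∀ x : A ⧸ Z', x * x = 1 := by
      intro x
      obtain ⟨a, rfl⟩ := QuotientGroup.mk_surjective x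
      rw [← QuotientGroup.mk_mul]
      exact (QuotientGroup.eq_one_iff _).2 (hsq' a)
    intro x y
    have h2 := h1 (x * y)
    calc x * y = x * ((x * y) * (x * y)) * y := by rw [h2, mul_one]
      _ = (x * x) * (y * x) * (y * y) := by group
      _ = y * x := by rw [h1, h1, one_mul, mul_one]
  let inst : CommGroup (A ⧸ Z') := { (inferInstance : Group (A ⧸ Z')) with mul_comm := hcomm }
  have hfin : Finite (A ⧸ Z') := inferInstance
  have := Fintype.ofFinite (A ⧸ Z')
  by_contra hcon
  push Not at hcon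
  -- all sign characters have inner product zero
  have h1 : ∀ l : AddChar (Additive (A ⧸ Z')) ℂ,
      ∑ a : A, χ a * l (Additive.ofMul (a : A ⧸ Z')) = 0 := by
    intro l
    have h2 := hcon (fun a => l (Additive.ofMul (a : A ⧸ Z'))) (fun a b => by
        rw [QuotientGroup.mk_mul, ofMul_mul, AddChar.map_add_eq_mul]) (fun a => by
        have h3 : l (Additive.ofMul (a : A ⧸ Z')) * l (Additive.ofMul (a : A ⧸ Z')) = 1 := by
          rw [← AddChar.map_add_eq_mul, ← ofMul_mul, ← QuotientGroup.mk_mul,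
            (QuotientGroup.eq_one_iff _).2 (hsq' a), ofMul_one, AddChar.map_zero_eq_one]
        exact mul_self_eq_one_iff.1 h3) (fun z hz => by
        rw [(QuotientGroup.eq_one_iff _).2 (Subgroup.mem_subgroupOf.2 hz), ofMul_one,
          AddChar.map_zero_eq_one])
    rwa [finsum_eq_sum_of_fintype] at h2
  have h2 : ∑ l : AddChar (Additive (A ⧸ Z')) ℂ,
      ∑ a : A, χ a * l (Additive.ofMul (a : A ⧸ Z')) = 0 :=
    Finset.sum_eq_zero fun l _ => h1 l
  rw [Finset.sum_comm] at h2
  have h3 : ∀ a : A, ∑ l : AddChar (Additive (A ⧸ Z')) ℂ,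
      χ a * l (Additive.ofMul (a : A ⧸ Z')) =
      if a ∈ Z' then χ 1 * Fintype.card (Additive (A ⧸ Z')) else 0 := by
    intro a
    rw [← Finset.mul_sum, AddChar.sum_apply_eq_ite]
    have h4 : Additive.ofMul (a : A ⧸ Z') = 0 ↔ a ∈ Z' := by
      rw [← QuotientGroup.eq_one_iff]
      exact Iff.rfl
    by_cases ha : a ∈ Z'
    · rw [if_pos ha, if_pos (h4.2 ha), hker a (Subgroup.mem_subgroupOf.1 ha)]
    · rw [if_neg ha, if_neg (fun h => ha (h4.1 h)), mul_zero]
  simp_rw [h3] at h2
  rw [← Finset.sum_filter, Finset.sum_const, nsmul_eq_mul] at h2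
  have h5 : χ 1 ≠ 0 := isIrr_apply_one_ne_zero hχ
  have h6 : (Fintype.card (Additive (A ⧸ Z')) : ℂ) ≠ 0 := Nat.cast_ne_zero.2 Fintype.card_ne_zero
  have h7 : ((Finset.univ.filter (fun a : A => a ∈ Z')).card : ℂ) ≠ 0 := by
    refine Nat.cast_ne_zero.2 (Finset.card_ne_zero.2 ⟨1, ?_⟩)
    rw [Finset.mem_filter]
    exact ⟨Finset.mem_univ _, one_mem _⟩
  exact (mul_ne_zero h7 (mul_ne_zero h5 h6)) h2

end Cfsg.Agent.H955.FS
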