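import Cfsg.Agent.H955.FSBase
import Cfsg.Agent.H592.FSAdapt
import Cfsg.Agent.H955.FSClifford
import Cfsg.Agent.H692.SqRoot
import Cfsg.Agent.Characters.Core

/-!
# Indicators: ambient forms of the character theoretic tools
-/

set_option autoImplicit false

universe u

namespace Cfsg.Agent.H955.FS

open Cfsg QuadraticMap
open Cfsg.Agent.LieClassical.OrthCore
open scoped ComplexConjugate

theorem FSGood.of_equiv {G H : Type u} [Group G] [Group H] [Finite G] (e : G ≃* H) {w : Prop}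
    (h : FSGood w G) : FSGood w H :=
  h.of_surjective e.toMonoidHom e.surjective

/-- **The covering principle.** -/
theorem fsGood_of_cover {G : Type u} [Group G] [Finite G]
    (h : ∀ c : G, Odd (orderOf c) → ∀ P : Subgroup G, IsPGroup 2 P →
      (∀ g ∈ P, g * c * g⁻¹ = c ∨ g * c * g⁻¹ = c⁻¹) →
      ∃ Y : Subgroup G, c ∈ Y ∧ P ≤ Y ∧ FSGood True Y) :
    FSGood True G :=
  Cfsg.Agent.H592.FSPar.fsGood_of_cover fun c P hc hP hcP _ => h c hc P hP hcP

/-- The covering principle for a subgroup of an ambient group. -/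
theorem fsGood_of_cover_amb {Γ : Type u} [Group Γ] (G : Subgroup Γ) [Finite G]
    (h : ∀ c ∈ G, Odd (orderOf c) → ∀ P : Subgroup Γ, P ≤ G → IsPGroup 2 P →
      (∀ g ∈ P, g * c * g⁻¹ = c ∨ g * c * g⁻¹ = c⁻¹) →
      ∃ Y : Subgroup Γ, Y ≤ G ∧ c ∈ Y ∧ P ≤ Y ∧ FSGood True Y) :
    FSGood True G := by
  refine fsGood_of_cover fun c hc P hP hcP => ?_
  obtain ⟨Y, hYG, hcY, hPY, hY⟩ := h c c.2 (by rwa [Subgroup.orderOf_coe]) (P.map G.subtype)
    (by
      rintro _ ⟨x, -, rfl⟩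
      exact x.2)
    (hP.map G.subtype)
    (by
      rintro _ ⟨x, hx, rfl⟩
      rcases hcP x hx with h | h
      · exact Or.inl (congrArg Subtype.val h)
      · exact Or.inr (congrArg Subtype.val h))
  refine ⟨Y.subgroupOf G, Subgroup.mem_subgroupOf.2 hcY, fun x hx => ?_, ?_⟩
  · exact Subgroup.mem_subgroupOf.2 (hPY ⟨x, hx, rfl⟩)
  · have : Finite Y := Finite.of_injective (Subgroup.inclusion hYG)
      (Subgroup.inclusion_injective hYG)
    exact hY.of_equiv (Subgroup.subgroupOfEquivOfLe hYG).symm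

/-- elements of a good subgroup are inverted in it -/
theorem FSGood.exists_inv {Γ : Type u} [Group Γ] {Y : Subgroup Γ} [Finite Y]
    (h : FSGood False Y) {g : Γ} (hg : g ∈ Y) : ∃ x ∈ Y, x * g * x⁻¹ = g⁻¹ := by
  obtain ⟨c, hc⟩ := isConj_iff.1 (h.isConj_inv ⟨g, hg⟩)
  exact ⟨c, c.2, congrArg Subtype.val hc⟩

/-- no `-1`, and all elements are inverted -/
theorem fsGood_of_inv {Γ : Type u} [Group Γ] {Y : Subgroup Γ} [Finite Y]
    (h : FSGood True Y) (hr : ∀ g ∈ Y, ∃ x ∈ Y, x * g * x⁻¹ = g⁻¹) : FSGood False Y := by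
  refine h.of_isConj_inv fun g => ?_
  obtain ⟨x, hx, hxg⟩ := hr g g.2
  exact isConj_iff.2 ⟨⟨x, hx⟩, Subtype.ext hxg⟩

/-- **Clifford theory for a normal subgroup with a complement**, for subgroups of an ambient
group. -/
theorem clifford_amb {Γ : Type u} [Group Γ] (X A : Subgroup Γ) [Finite X] (hAX : A ≤ X)
    (hAn : ∀ x ∈ X, ∀ a ∈ A, x * a * x⁻¹ ∈ A)
    {Y : Type u} [Group Y] [Finite Y] (φ : Y →* Γ) (hφX : ∀ y, φ y ∈ X)
    (hφA : ∀ y, φ y ∈ A → y = 1) (hdec : ∀ x ∈ X, ∃ a ∈ A, ∃ y, x = a * φ y)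
    (lam : Γ → ℂ) (hlam : ∀ a ∈ A, ∀ b ∈ A, lam (a * b) = lam a * lam b)
    (hpm : ∀ a ∈ A, lam a = 1 ∨ lam a = -1) {w : Prop} (S : Subgroup Y)
    (hS : ∀ y, y ∈ S ↔ ∀ a ∈ A, lam (φ y * a * (φ y)⁻¹) = lam a) (hSg : FSGood w S)
    {χ : X → ℂ} (hχ : IsIrrCharacter X χ)
    (hover : ∑ᶠ a : A, χ ⟨a, hAX a.2⟩ * lam a ≠ 0) : fsi χ = 1 ∨ (w ∧ fsi χ = 0) := by
  classical
  -- the normal subgroup inside `X`
  let A' : Subgroup X := A.subgroupOf X
  have hA' : A'.Normal := ⟨fun a ha x => Subgroup.mem_subgroupOf.2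
    (hAn x x.2 a (Subgroup.mem_subgroupOf.1 ha))⟩
  let φX : Y →* X := φ.codRestrict X hφX
  let Y' : Subgroup X := S.map φX
  have hne : ∀ a ∈ A, lam a ≠ 0 := fun a ha => by
    rcases hpm a ha with h | h <;> rw [h] <;> norm_num
  have hone : lam 1 = 1 := by
    have h := hlam 1 (one_mem _) 1 (one_mem _)
    rw [mul_one] at h
    have h1 := hne 1 (one_mem _)
    exact (mul_left_cancel₀ h1 (by rw [mul_one]; exact h)).symm
  have hinv : ∀ a ∈ A, ∀ b ∈ A, lam (a * b * a⁻¹) = lam b := by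
    intro a ha b hb
    rw [hlam _ (mul_mem ha hb) _ (inv_mem ha), hlam _ ha _ hb]
    have h2 : lam a * lam a⁻¹ = 1 := by
      rw [← hlam _ ha _ (inv_mem ha), mul_inv_cancel, hone]
    calc lam a * lam b * lam a⁻¹ = lam b * (lam a * lam a⁻¹) := by ring
      _ = lam b := by rw [h2, mul_one]
  have hAY : A' ⊓ Y' = ⊥ := by
    rw [eq_bot_iff]
    rintro x ⟨h1, y, hy, rfl⟩
    have h2 : φ y ∈ A := Subgroup.mem_subgroupOf.1 h1
    rw [Subgroup.mem_bot]
    rw [hφA y h2, map_one]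
  have hYg : FSGood w Y' := by
    have hinj : Function.Injective φX := by
      rw [injective_iff_map_eq_one]
      intro y hy
      exact hφA y (by
        have : φ y = 1 := congrArg Subtype.val hy
        rw [this]
        exact one_mem _)
    exact hSg.of_equiv (S.equivMapOfInjective φX hinj)
  have hT : ∀ g : X, g ∈ A' ⊔ Y' ↔ ∀ a : A', lam ((g : Γ) * (a : X) * (g : Γ)⁻¹) = lam (a : X) := by
    intro g
    constructor
    · intro hg
      obtain ⟨b, hb, z, hz, rfl⟩ := Subgroup.mem_sup_of_normal_left.1 hg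
      obtain ⟨y, hy, rfl⟩ := hz
      intro a
      have ha : ((a : X) : Γ) ∈ A := Subgroup.mem_subgroupOf.1 a.2
      have hb' : (b : Γ) ∈ A := Subgroup.mem_subgroupOf.1 hb
      have h1 : ((b * φX y : X) : Γ) * (a : X) * ((b * φX y : X) : Γ)⁻¹
          = (b : Γ) * (φ y * (a : X) * (φ y)⁻¹) * (b : Γ)⁻¹ := by
        show ((b : Γ) * φ y) * (a : X) * ((b : Γ) * φ y)⁻¹ = _
        group
      rw [h1, hinv _ hb' _ (hAn _ (hφX y) _ ha)]
      exact (hS y).1 hy _ ha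
    · intro h
      obtain ⟨a, ha, y, hy⟩ := hdec g g.2
      have hyS : y ∈ S := by
        rw [hS]
        intro b hb
        have h1 := h ⟨⟨b, hAX hb⟩, Subgroup.mem_subgroupOf.2 hb⟩
        have h2 : (g : Γ) * b * (g : Γ)⁻¹ = a * (φ y * b * (φ y)⁻¹) * a⁻¹ := by
          rw [hy]
          group
        change lam ((g : Γ) * b * (g : Γ)⁻¹) = lam b at h1
        rw [h2, hinv _ ha _ (hAn _ (hφX y) _ hb)] at h1
        exact h1
      have h3 : g = (⟨a, hAX ha⟩ : X) * φX y := Subtype.ext hy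
      rw [h3]
      exact mul_mem (Subgroup.mem_sup_left (Subgroup.mem_subgroupOf.2 ha))
        (Subgroup.mem_sup_right ⟨y, hyS, rfl⟩)
  refine clifford A' Y' hAY (fun a => lam (a : X)) ?_ ?_ hT hYg hχ ?_
  · intro a b
    exact hlam _ (Subgroup.mem_subgroupOf.1 a.2) _ (Subgroup.mem_subgroupOf.1 b.2)
  · intro a
    exact hpm _ (Subgroup.mem_subgroupOf.1 a.2)
  · intro h
    apply hover
    rw [← h]
    let e : A ≃ A' := (Subgroup.subgroupOfEquivOfLe hAX).symm.toEquiv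
    exact finsum_eq_of_bijective e e.bijective (fun a => rfl)

/-- Clifford theory for a normal elementary abelian `2`-subgroup with a complement. -/
theorem good_semidirect {Γ : Type u} [Group Γ] (X A : Subgroup Γ) [Finite X] (hAX : A ≤ X)
    (hAn : ∀ x ∈ X, ∀ a ∈ A, x * a * x⁻¹ ∈ A) (hsq : ∀ a ∈ A, a * a = 1)
    {Y : Type u} [Group Y] [Finite Y] (φ : Y →* Γ) (hφX : ∀ y, φ y ∈ X)
    (hφA : ∀ y, φ y ∈ A → y = 1) (hdec : ∀ x ∈ X, ∃ a ∈ A, ∃ y, x = a * φ y) {w : Prop}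
    (H : ∀ lam : Γ → ℂ, (∀ a ∈ A, ∀ b ∈ A, lam (a * b) = lam a * lam b) →
      (∀ a ∈ A, lam a = 1 ∨ lam a = -1) → ∃ S : Subgroup Y,
        (∀ y, y ∈ S ↔ ∀ a ∈ A, lam (φ y * a * (φ y)⁻¹) = lam a) ∧ FSGood w S) :
    FSGood w X := by
  classical
  intro χ hχ
  obtain ⟨lam, h1, h2, -, h4⟩ := exists_linear (A.subgroupOf X) ⊥ bot_le (fun a ha =>
    Subgroup.mem_bot.2 (Subtype.ext (hsq a (Subgroup.mem_subgroupOf.1 ha)))) hχ
    (fun z hz => by rw [Subgroup.mem_bot.1 hz])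
  let lam' : Γ → ℂ := fun g => if h : ∃ hg : g ∈ X, (⟨g, hg⟩ : X) ∈ A.subgroupOf X then
    lam ⟨⟨g, h.1⟩, h.2⟩ else 0
  have hl : ∀ (a : A.subgroupOf X), lam' ((a : X) : Γ) = lam a := by
    intro a
    simp only [lam']
    rw [dif_pos ⟨a.1.2, a.2⟩]
  have hl' : ∀ (a : Γ) (ha : a ∈ A), lam' a
      = lam ⟨⟨a, hAX ha⟩, Subgroup.mem_subgroupOf.2 ha⟩ := fun a ha =>
    hl ⟨⟨a, hAX ha⟩, Subgroup.mem_subgroupOf.2 ha⟩
  have hm : ∀ a ∈ A, ∀ b ∈ A, lam' (a * b) = lam' a * lam' b := by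
    intro a ha b hb
    rw [hl' _ (mul_mem ha hb), hl' _ ha, hl' _ hb, ← h1]
    rfl
  have hp : ∀ a ∈ A, lam' a = 1 ∨ lam' a = -1 := by
    intro a ha
    rw [hl' _ ha]
    exact h2 _
  obtain ⟨S, hS, hSg⟩ := H lam' hm hp
  refine clifford_amb X A hAX hAn φ hφX hφA hdec lam' hm hp S hS hSg hχ ?_
  intro h
  apply h4
  rw [← h]
  let e : A.subgroupOf X ≃ A := (Subgroup.subgroupOfEquivOfLe hAX).toEquiv
  refine finsum_eq_of_bijective e e.bijective (fun a => ?_)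
  rw [← hl a]
  rfl

end Cfsg.Agent.H955.FS
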