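import Mathlib
import Cfsg.Agent.H955.FSDefs

/-!
# Additive characters of quadratic spaces over finite fields of characteristic two
-/

set_option autoImplicit false

universe u

namespace Cfsg.Agent.H955.FS

open Module QuadraticMap Cfsg.Agent.LieClassical.OrthCore

/-- a nontrivial additive character -/
theorem exists_psi (F : Type u) [Field F] [Finite F] : ∃ ψ : AddChar F ℂ, ∃ a, ψ a ≠ 1 := by
  obtain ⟨ψ, h⟩ := (AddChar.exists_apply_ne_zero (a := (1 : F))).2 one_ne_zero
  exact ⟨ψ, 1, h⟩

section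

variable {F : Type u} [Field F] {ψ : AddChar F ℂ}

theorem eq_zero_of_psi (hψ : ∃ a, ψ a ≠ 1) {a : F} (h : ∀ c : F, ψ (c * a) = 1) : a = 0 := by
  by_contra ha
  obtain ⟨b, hb⟩ := hψ
  apply hb
  have h1 := h (b * a⁻¹)
  rwa [mul_assoc, inv_mul_cancel₀ ha, mul_one] at h1

theorem eq_of_psi (hψ : ∃ a, ψ a ≠ 1) {a b : F} (h : ∀ c : F, ψ (c * a) = ψ (c * b)) : a = b := by
  rw [← sub_eq_zero]
  refine eq_zero_of_psi hψ fun c => ?_
  have h1 : ψ (c * b) ≠ 0 := by
    intro h0
    have h2 := AddChar.map_add_eq_mul ψ (c * b) (-(c * b))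
    rw [add_neg_cancel, AddChar.map_zero_eq_one, h0, zero_mul] at h2
    exact one_ne_zero h2
  have h2 : ψ (c * (a - b)) * ψ (c * b) = ψ (c * b) := by
    rw [← AddChar.map_add_eq_mul, ← h c]
    congr 1
    ring
  exact mul_right_cancel₀ h1 (by rw [h2, one_mul])

variable {M : Type u} [AddCommGroup M] [Module F M]

/-- the additive character `m ↦ ψ (f (m', m))` -/
def polChar (Q : QuadraticForm F M) (ψ : AddChar F ℂ) (m' : M) : AddChar M ℂ where
  toFun m := ψ (polar Q m' m)
  map_zero_eq_one' := by rw [polar_zero_right, AddChar.map_zero_eq_one]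
  map_add_eq_mul' a b := by rw [polar_add_right, AddChar.map_add_eq_mul]

theorem polChar_apply (Q : QuadraticForm F M) (ψ : AddChar F ℂ) (m' m : M) :
    polChar Q ψ m' m = ψ (polar Q m' m) := rfl

theorem polar_eq_of_psi (Q : QuadraticForm F M) (hψ : ∃ a, ψ a ≠ 1) {a b : M} (T : M →ₗ[F] M)
    (h : ∀ m, ψ (polar Q a (T m)) = ψ (polar Q b m)) (m : M) :
    polar Q a (T m) = polar Q b m := by
  refine eq_of_psi hψ fun c => ?_
  have h1 := h (c • m)
  rw [map_smul, polar_smul_right, polar_smul_right] at h1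
  exact h1

theorem polChar_injective {Q : QuadraticForm F M} (hQ : Nondeg Q) (hψ : ∃ a, ψ a ≠ 1) :
    Function.Injective (polChar Q ψ) := by
  intro a b hab
  have h1 : ∀ m, polar Q a m = polar Q b m := fun m =>
    polar_eq_of_psi Q hψ LinearMap.id (fun m => congrArg (fun t : AddChar M ℂ => t m) hab) m
  rw [← sub_eq_zero]
  refine hQ _ fun y => ?_
  rw [sub_eq_add_neg, polar_add_left, polar_neg_left, h1]
  exact add_neg_cancel _

/-- every additive character is given by a vector -/
theorem exists_dual [Finite F] [FiniteDimensional F M] {Q : QuadraticForm F M} (hQ : Nondeg Q)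
    (hψ : ∃ a, ψ a ≠ 1) (l : AddChar M ℂ) : ∃ m', ∀ m, l m = ψ (polar Q m' m) := by
  classical
  have : Finite M := Module.finite_of_finite F
  let _ := Fintype.ofFinite M
  let _ : Fintype (AddChar M ℂ) := Fintype.ofFinite _
  have hb : Function.Bijective (polChar Q ψ) :=
    (Fintype.bijective_iff_injective_and_card _).2
      ⟨polChar_injective hQ hψ, AddChar.card_eq.symm⟩
  obtain ⟨m', hm'⟩ := hb.2 l
  exact ⟨m', fun m => by rw [← hm']; rfl⟩

end

/-- extension of `±1`-valued characters in groups of exponent two -/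
theorem exists_extend {M : Type u} [AddCommGroup M] (h2 : ∀ m : M, m + m = 0) (S : AddSubgroup M)
    (l : M → ℂ) (hl : ∀ a ∈ S, ∀ b ∈ S, l (a + b) = l a * l b)
    (hpm : ∀ a ∈ S, l a = 1 ∨ l a = -1) : ∃ l' : AddChar M ℂ, ∀ a ∈ S, l' a = l a := by
  classical
  let _ : Module (ZMod 2) M := AddCommGroup.zmodModule (n := 2) (fun m => by
    rw [two_nsmul]; exact h2 m)
  let S' : Submodule (ZMod 2) M := AddSubgroup.toZModSubmodule 2 S
  obtain ⟨π, hπ⟩ := LinearMap.exists_leftInverse_of_injective S'.subtype (by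
    rw [LinearMap.ker_eq_bot]; exact Subtype.val_injective)
  have hS : ∀ m : M, ((π m : S') : M) ∈ S := fun m => (π m).2
  have h0 : l 0 = 1 := by
    rcases hpm 0 (zero_mem _) with h | h
    · exact h
    · have h1 := hl 0 (zero_mem _) 0 (zero_mem _)
      rw [add_zero, h] at h1
      norm_num at h1
  refine ⟨⟨fun m => l (π m : S'), ?_, ?_⟩, ?_⟩
  · rw [map_zero]
    exact h0
  · intro a b
    rw [map_add]
    exact hl _ (hS a) _ (hS b)
  · intro a ha
    have h1 := LinearMap.congr_fun hπ ⟨a, ha⟩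
    change l (π a : S') = l a
    have h3 : ((π a : S') : M) = a := congrArg Subtype.val h1
    rw [h3]

end Cfsg.Agent.H955.FS
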