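import Cfsg.Agent.H955.FSDefs
import Cfsg.Agent.S2580

/-!
# Isometries which stabilise two complementary totally singular subspaces are real (helper956, task 689 [J])
-/

set_option autoImplicit false

namespace Cfsg.Agent.H955.FS

open Cfsg QuadraticMap
open Cfsg.Agent.LieClassical.OrthCore

universe u

/-- an endomorphism is selfadjoint for some nondegenerate bilinear form -/
theorem exists_selfadjoint_form {F W : Type u} [Field F] [AddCommGroup W] [Module F W] [FiniteDimensional F W]
    (φ : W →ₗ[F] W) : ∃ B : W →ₗ[F] W →ₗ[F] F, (∀ x, (∀ y, B x y = 0) → x = 0) ∧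
      ∀ x y, B (φ x) y = B x (φ y) := by
  have htor : Module.IsTorsion (Polynomial F) (Module.AEval' φ) := by
    exact Module.AEval.isTorsion_of_finiteDimensional F W φ
  obtain ⟨B, hB1, hB2⟩ := S2580.exists_form_module (Module.AEval' φ) htor
  let o : W ≃ₗ[F] Module.AEval' φ := Module.AEval'.of φ
  refine ⟨B.compl₁₂ o.toLinearMap o.toLinearMap, ?_, ?_⟩
  · intro x hx
    have : o x = 0 := by
      apply hB1
      intro y
      simpa using hx (o.symm y)
    exact (LinearEquiv.map_eq_zero_iff o).1 this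
  · intro x y
    have h := hB2 (o x) (o y) Polynomial.X
    have h1 : ∀ z, (Polynomial.X : Polynomial F) • o z = o (φ z) := fun z => Module.AEval'.X_smul_of φ z
    rw [h1, h1] at h
    simpa using h

theorem polar_eq_zero_of_sing {F V : Type u} [Field F] [AddCommGroup V] [Module F V] {Q : QuadraticForm F V}
    {W : Submodule F V} (hW : ∀ w ∈ W, Q w = 0) {x y : V} (hx : x ∈ W) (hy : y ∈ W) : polar Q x y = 0 := by
  rw [polar, hW _ (W.add_mem hx hy), hW _ hx, hW _ hy, sub_zero, sub_zero]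

/-- **Task J.** -/
theorem isConj_inv_split {F V : Type u} [Field F] [CharP F 2] [AddCommGroup V] [Module F V] [FiniteDimensional F V]
    (Q : QuadraticForm F V) (hQ : Nondeg Q) {g : V ≃ₗ[F] V} (hg : g ∈ O Q) (W W' : Submodule F V) (hc : IsCompl W W')
    (hW : ∀ w ∈ W, Q w = 0) (hW' : ∀ w ∈ W', Q w = 0) (h1 : ∀ w ∈ W, g w ∈ W) (h2 : ∀ w ∈ W', g w ∈ W') :
    ∃ h ∈ O Q, h * g * h⁻¹ = g⁻¹ ∧ (∀ w ∈ W, h w ∈ W') ∧ (∀ w ∈ W', h w ∈ W) := by
  classical
  -- the pairing
  have sepW' : ∀ z ∈ W', (∀ y ∈ W, polar Q z y = 0) → z = 0 := by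
    intro z hz h
    apply hQ
    intro v
    obtain ⟨y, hy, z', hz', rfl⟩ := Submodule.mem_sup.1 (hc.sup_eq_top ▸ Submodule.mem_top : v ∈ W ⊔ W')
    rw [polar_add_right, h y hy, polar_eq_zero_of_sing hW' hz hz', add_zero]
  have sepW : ∀ y ∈ W, (∀ z ∈ W', polar Q z y = 0) → y = 0 := by
    intro y hy h
    apply hQ
    intro v
    obtain ⟨y', hy', z, hz, rfl⟩ := Submodule.mem_sup.1 (hc.sup_eq_top ▸ Submodule.mem_top : v ∈ W ⊔ W')
    rw [polar_add_right, polar_eq_zero_of_sing hW hy hy', polar_comm _ y z, h z hz, add_zero]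
  let A' : W' →ₗ[F] Module.Dual F W := ((polarBilin Q).compl₁₂ W'.subtype W.subtype)
  let A : W →ₗ[F] Module.Dual F W' := ((polarBilin Q).compl₁₂ W.subtype W'.subtype)
  have hA'app : ∀ (z : W') (y : W), A' z y = polar Q (z : V) (y : V) := fun z y => rfl
  have hAapp : ∀ (y : W) (z : W'), A y z = polar Q (y : V) (z : V) := fun z y => rfl
  have hA' : Function.Injective A' := by
    rw [injective_iff_map_eq_zero]
    intro z hz
    apply Subtype.ext
    refine sepW' z z.2 fun y hy => ?_
    exact congrArg (fun l : Module.Dual F W => l ⟨y, hy⟩) hz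
  have hA : Function.Injective A := by
    rw [injective_iff_map_eq_zero]
    intro y hy
    apply Subtype.ext
    refine sepW y y.2 fun z hz => ?_
    rw [polar_comm]
    exact congrArg (fun l : Module.Dual F W' => l ⟨z, hz⟩) hy
  have hdW : Module.finrank F W' ≤ Module.finrank F W := by
    have := LinearMap.finrank_le_finrank_of_injective hA'
    rwa [Subspace.dual_finrank_eq] at this
  have hdW' : Module.finrank F W ≤ Module.finrank F W' := by
    have := LinearMap.finrank_le_finrank_of_injective hA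
    rwa [Subspace.dual_finrank_eq] at this
  have hdim : Module.finrank F W' = Module.finrank F W := le_antisymm hdW hdW'
  let eA' : W' ≃ₗ[F] Module.Dual F W := LinearMap.linearEquivOfInjective A' hA'
    (by rw [Subspace.dual_finrank_eq, hdim])
  let eA : W ≃ₗ[F] Module.Dual F W' := LinearMap.linearEquivOfInjective A hA
    (by rw [Subspace.dual_finrank_eq, hdim])
  -- the selfadjoint form on `W`
  let gW : W →ₗ[F] W := (g : V →ₗ[F] V).restrict h1
  obtain ⟨B, hB1, hB2⟩ := exists_selfadjoint_form gW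
  have hBinj : Function.Injective B := by
    rw [injective_iff_map_eq_zero]
    intro x hx
    exact hB1 x fun y => by rw [hx]; rfl
  let eB : W ≃ₗ[F] Module.Dual F W := LinearMap.linearEquivOfInjective B hBinj
    (by rw [Subspace.dual_finrank_eq])
  let k1 : W ≃ₗ[F] W' := eB.trans eA'.symm
  have hk1 : ∀ x y : W, polar Q (k1 x : V) (y : V) = B x y := by
    intro x y
    have h3 : A' (k1 x) = B x := eA'.apply_symm_apply (eB x)
    rw [← hA'app, h3]
  let C : W' →ₗ[F] Module.Dual F W' := (((polarBilin Q).compl₁₂ W'.subtype W.subtype).compl₁₂ LinearMap.id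
    k1.symm.toLinearMap)
  have hCapp : ∀ z u : W', C z u = polar Q (z : V) ((k1.symm u : W) : V) := fun z u => rfl
  have hC : Function.Injective C := by
    rw [injective_iff_map_eq_zero]
    intro z hz
    apply Subtype.ext
    refine sepW' z z.2 fun y hy => ?_
    have := congrArg (fun l => l (k1 ⟨y, hy⟩)) hz
    simp only [hCapp, LinearEquiv.symm_apply_apply] at this
    exact this
  let eC : W' ≃ₗ[F] Module.Dual F W' := LinearMap.linearEquivOfInjective C hC (by rw [Subspace.dual_finrank_eq])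
  let k2 : W' ≃ₗ[F] W := eC.trans eA.symm
  have hk2 : ∀ (x : W) (z : W'), polar Q (k1 x : V) (k2 z : V) = polar Q (x : V) (z : V) := by
    intro x z
    have h3 : A (k2 z) = C z := eA.apply_symm_apply (eC z)
    have h4 := congrArg (fun l => l (k1 x)) h3
    simp only [hCapp, hAapp, LinearEquiv.symm_apply_apply] at h4
    rw [polar_comm, h4, polar_comm]
  -- the isometry
  let e : (W × W') ≃ₗ[F] V := Submodule.prodEquivOfIsCompl W W' hc
  let h : V ≃ₗ[F] V := e.symm ≪≫ₗ (LinearEquiv.prodCongr k1 k2) ≪≫ₗ (LinearEquiv.prodComm F W' W) ≪≫ₗ e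
  have he : ∀ (w : W) (z : W'), e (w, z) = (w : V) + z := fun w z => Submodule.coe_prodEquivOfIsCompl' W W' hc (w, z)
  have hh : ∀ (w : W) (z : W'), h ((w : V) + z) = (k2 z : V) + k1 w := by
    intro w z
    have h3 : h (e (w, z)) = e (k2 z, k1 w) := by
      show e (((LinearEquiv.prodComm F W' W)) ((LinearEquiv.prodCongr k1 k2) (e.symm (e (w, z))))) = _
      rw [LinearEquiv.symm_apply_apply]
      rfl
    rw [he, he] at h3
    exact h3
  have hhW : ∀ w : W, h (w : V) = k1 w := by
    intro w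
    have h3 := hh w 0
    simpa using h3
  have hhW' : ∀ z : W', h (z : V) = k2 z := by
    intro z
    have h3 := hh 0 z
    simpa using h3
  have hdec : ∀ v : V, ∃ (w : W) (z : W'), v = (w : V) + z := by
    intro v
    obtain ⟨y, hy, z, hz, rfl⟩ := Submodule.mem_sup.1 (hc.sup_eq_top ▸ Submodule.mem_top : v ∈ W ⊔ W')
    exact ⟨⟨y, hy⟩, ⟨z, hz⟩, rfl⟩
  have hO : h ∈ O Q := by
    intro v
    obtain ⟨w, z, rfl⟩ := hdec v
    rw [hh, Q_add, Q_add, hW _ (k2 z).2, hW' _ (k1 w).2, hW _ w.2, hW' _ z.2, polar_comm, hk2]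
  -- `g` on `W` and on `W'` is surjective
  have hgW : ∀ y ∈ W, ∃ y' ∈ W, g y' = y := by
    have h3 : Function.Injective gW := by
      intro a b hab
      apply Subtype.ext
      apply g.injective
      exact congrArg Subtype.val hab
    intro y hy
    obtain ⟨y', hy'⟩ := LinearMap.surjective_of_injective h3 ⟨y, hy⟩
    exact ⟨y', y'.2, congrArg Subtype.val hy'⟩
  have key1 : ∀ w : W, g (k1 (gW w) : V) = k1 w := by
    intro w
    have h3 : g (k1 (gW w) : V) - k1 w ∈ W' := W'.sub_mem (h2 _ (k1 (gW w)).2) (k1 w).2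
    have h4 := sepW' _ h3 (by
      intro y hy
      obtain ⟨y', hy', rfl⟩ := hgW y hy
      rw [polar_sub_left, polar_map hg]
      have h5 : polar Q (k1 (gW w) : V) y' = B (gW w) ⟨y', hy'⟩ := hk1 _ ⟨y', hy'⟩
      have h6 : polar Q (k1 w : V) (g y') = B w (gW ⟨y', hy'⟩) := hk1 w (gW ⟨y', hy'⟩)
      rw [h5, h6, hB2, sub_self])
    exact sub_eq_zero.1 h4
  have key2 : ∀ z : W', g (k2 ⟨g z, h2 _ z.2⟩ : V) = k2 z := by
    intro z
    have h3 : g (k2 ⟨g z, h2 _ z.2⟩ : V) - k2 z ∈ W := W.sub_mem (h1 _ (k2 _).2) (k2 z).2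
    have h4 := sepW _ h3 (by
      intro u hu
      obtain ⟨x, hx⟩ := k1.surjective ⟨u, hu⟩
      have hux : u = k1 x := (congrArg Subtype.val hx).symm
      rw [hux, polar_sub_right, hk2]
      conv_lhs => enter [1]; rw [← key1 x]
      rw [polar_map hg, hk2]
      show polar Q (g (x : V)) (g (z : V)) - _ = 0
      rw [polar_map hg, sub_self])
    exact sub_eq_zero.1 h4
  have hgh : ∀ v, g (h (g v)) = h v := by
    intro v
    obtain ⟨w, z, rfl⟩ := hdec v
    rw [map_add g]
    have h3 : g (w : V) + g (z : V) = ((gW w : W) : V) + ((⟨g z, h2 _ z.2⟩ : W') : V) := rfl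
    rw [h3, hh, hh, map_add, key1, key2]
  refine ⟨h, hO, ?_, ?_, ?_⟩
  · rw [mul_inv_eq_iff_eq_mul, eq_inv_mul_iff_mul_eq]
    apply LinearEquiv.ext
    intro v
    exact hgh v
  · intro w hw
    rw [show h w = k1 ⟨w, hw⟩ from hhW ⟨w, hw⟩]
    exact (k1 _).2
  · intro w hw
    rw [show h w = k2 ⟨w, hw⟩ from hhW' ⟨w, hw⟩]
    exact (k2 _).2

end Cfsg.Agent.H955.FS
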