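import Cfsg.Agent.H955.FSDefs
import Cfsg.Agent.S0765

/-!
# `Sp(2n,q)`, `q` even, is a quotient of the stabiliser of a nonsingular vector in `O^+(2n+2,q)`
(helper956, task 693 [M])
-/

set_option autoImplicit false

universe u

namespace Cfsg.Agent.H955.FS

open Cfsg QuadraticMap
open Cfsg.Agent.LieClassical.OrthCore

namespace Symp

variable {F : Type u} [Field F] {n : ℕ}

/-- the natural module of `Sp(2n,F)` -/
abbrev M (n : ℕ) (F : Type u) : Type u := Fin n ⊕ Fin n → F

/-- the form `∑ x_i y_i` -/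
def Q0 (n : ℕ) (F : Type u) [Field F] : QuadraticForm F (M n F) :=
  ∑ i : Fin n, QuadraticMap.linMulLin (LinearMap.proj (Sum.inl i)) (LinearMap.proj (Sum.inr i))

theorem Q0_apply (x : M n F) : Q0 n F x = ∑ i : Fin n, x (Sum.inl i) * x (Sum.inr i) := by
  simp [Q0]

theorem sympForm_eq (x y : M n F) :
    Cfsg.sympForm n F x y = ∑ i : Fin n, (x (Sum.inr i) * y (Sum.inl i) - x (Sum.inl i) * y (Sum.inr i)) := by
  unfold Cfsg.sympForm Matrix.J
  simp [Matrix.fromBlocks_mulVec, dotProduct, Fintype.sum_sum_type, Matrix.neg_mulVec, Finset.sum_sub_distrib]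
  ring

theorem polar_Q0 [CharP F 2] (x y : M n F) : polar (Q0 n F) x y = Cfsg.sympForm n F x y := by
  rw [polar, Q0_apply, Q0_apply, Q0_apply, sympForm_eq, ← Finset.sum_sub_distrib, ← Finset.sum_sub_distrib]
  refine Finset.sum_congr rfl fun i _ => ?_
  simp only [Pi.add_apply]
  have h2 : (2 : F) = 0 := CharTwo.two_eq_zero
  linear_combination (x (Sum.inl i) * y (Sum.inr i)) * h2

/-- the space `F × F × M` with the form `a b + Q0 m` -/
abbrev V (n : ℕ) (F : Type u) : Type u := F × F × M n F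

def Q (n : ℕ) (F : Type u) [Field F] : QuadraticForm F (V n F) :=
  QuadraticMap.linMulLin (LinearMap.fst F F (F × M n F)) ((LinearMap.fst F F (M n F)).comp (LinearMap.snd F F (F × M n F)))
    + (Q0 n F).comp ((LinearMap.snd F F (M n F)).comp (LinearMap.snd F F (F × M n F)))

theorem Q_apply (a b : F) (m : M n F) : Q n F (a, b, m) = a * b + Q0 n F m := by
  simp [Q]

theorem polar_Q (a b a' b' : F) (m m' : M n F) :
    polar (Q n F) (a, b, m) (a', b', m') = a * b' + a' * b + polar (Q0 n F) m m' := by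
  have h : (a, b, m) + (a', b', m') = (a + a', b + b', m + m') := rfl
  rw [polar, h, Q_apply, Q_apply, Q_apply, Q_add]
  ring

theorem nondeg_Q [CharP F 2] : Nondeg (Q n F) := by
  rintro ⟨a, b, m⟩ h
  have h1 := h (1, 0, 0)
  have h2 := h (0, 1, 0)
  rw [polar_Q, polar_zero_right] at h1 h2
  have hb : b = 0 := by simpa using h1
  have ha : a = 0 := by simpa using h2
  have hm : m = 0 := by
    by_contra hne
    obtain ⟨x, hx⟩ := S0765.form_nondeg m hne
    apply hx
    have h3 := h (0, 0, x)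
    rw [polar_Q, polar_comm, polar_Q0] at h3
    simpa using h3
  rw [ha, hb, hm]
  rfl

theorem finrank_V : Module.finrank F (V n F) = 2 * (n + 1) := by
  simp [V]
  ring

/-- the nonsingular vector -/
def u0 (n : ℕ) (F : Type u) [Field F] : V n F := (1, 1, 0)

theorem Q_u0 : Q n F (u0 n F) ≠ 0 := by
  rw [u0, Q_apply, map_zero]
  simp

/-- the induced map on `M` -/
def indL (g : V n F ≃ₗ[F] V n F) : M n F →ₗ[F] M n F :=
  ((LinearMap.snd F F (M n F)).comp (LinearMap.snd F F (F × M n F))).comp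
    (g.toLinearMap.comp ((LinearMap.inr F F (F × M n F)).comp (LinearMap.inr F F (M n F))))

theorem indL_apply (g : V n F ≃ₗ[F] V n F) (m : M n F) : indL g m = (g (0, 0, m)).2.2 := rfl

theorem map_of_mem [CharP F 2] {g : V n F ≃ₗ[F] V n F} (hg : g ∈ fixV (Q n F) (u0 n F)) (m : M n F) :
    ∃ c : F, g (0, 0, m) = (c, c, indL g m) := by
  obtain ⟨h1, h2⟩ := mem_fixV.1 hg
  have h3 := polar_map h1 (0, 0, m) (u0 n F)
  rw [h2] at h3
  obtain ⟨a, b, m', h4⟩ : ∃ a b m', g (0, 0, m) = (a, b, m') := ⟨_, _, _, rfl⟩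
  rw [h4, u0, polar_Q, polar_Q, polar_zero_right, polar_zero_right] at h3
  have h5 : a + b = 0 := by simpa using h3
  have h6 : a = b := by
    rw [← sub_eq_zero, CharTwo.sub_eq_add]
    exact h5
  refine ⟨a, ?_⟩
  rw [indL_apply, h4, h6]

theorem indL_form [CharP F 2] {g : V n F ≃ₗ[F] V n F} (hg : g ∈ fixV (Q n F) (u0 n F)) (x y : M n F) :
    Cfsg.sympForm n F (indL g x) (indL g y) = Cfsg.sympForm n F x y := by
  obtain ⟨c, hc⟩ := map_of_mem hg x
  obtain ⟨d, hd⟩ := map_of_mem hg y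
  have h1 := polar_map (mem_fixV.1 hg).1 (0, 0, x) (0, 0, y)
  rw [hc, hd, polar_Q, polar_Q, polar_Q0, polar_Q0] at h1
  have h2 : c * d + d * c = 0 := by
    rw [mul_comm d c]
    exact CharTwo.add_self_eq_zero _
  rw [h2, zero_add] at h1
  rw [h1]
  ring

theorem indL_mul [CharP F 2] {g h : V n F ≃ₗ[F] V n F} (hg : g ∈ fixV (Q n F) (u0 n F))
    (hh : h ∈ fixV (Q n F) (u0 n F)) : indL (g * h) = indL g ∘ₗ indL h := by
  refine LinearMap.ext fun m => ?_
  obtain ⟨c, hc⟩ := map_of_mem hh m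
  rw [LinearMap.comp_apply, indL_apply]
  have h1 : (g * h) (0, 0, m) = g (h (0, 0, m)) := rfl
  have h2 : ((c, c, indL h m) : V n F) = c • u0 n F + (0, 0, indL h m) := by
    simp [u0]
  rw [h1, hc, h2, map_add, map_smul, (mem_fixV.1 hg).2, indL_apply]
  simp [u0]
  rfl

theorem mem_symplectic (L : M n F →ₗ[F] M n F)
    (h : ∀ x y, Cfsg.sympForm n F (L x) (L y) = Cfsg.sympForm n F x y) :
    LinearMap.toMatrix' L ∈ Matrix.symplecticGroup (Fin n) F := by
  rw [SymplecticGroup.mem_iff']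
  ext i j
  have h1 := h (Pi.single i 1) (Pi.single j 1)
  rw [← LinearMap.toMatrix'_mulVec, ← LinearMap.toMatrix'_mulVec] at h1
  unfold Cfsg.sympForm at h1
  rw [← Matrix.vecMul_transpose, ← Matrix.dotProduct_mulVec, Matrix.mulVec_mulVec, Matrix.mulVec_mulVec,
    single_one_dotProduct, single_one_dotProduct, Matrix.mulVec_single_one, Matrix.mulVec_single_one] at h1
  simpa [Matrix.mul_assoc] using h1

/-- the homomorphism onto the symplectic group -/
noncomputable def toSp [CharP F 2] : ↥(fixV (Q n F) (u0 n F)) →* Matrix.symplecticGroup (Fin n) F where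
  toFun g := ⟨LinearMap.toMatrix' (indL g.1), mem_symplectic _ (indL_form g.2)⟩
  map_one' := by
    apply Subtype.ext
    show LinearMap.toMatrix' (indL (1 : V n F ≃ₗ[F] V n F)) = 1
    have : indL (1 : V n F ≃ₗ[F] V n F) = LinearMap.id := by
      ext1 m
      rfl
    rw [this, LinearMap.toMatrix'_id]
  map_mul' g h := by
    apply Subtype.ext
    show LinearMap.toMatrix' (indL (g.1 * h.1)) = LinearMap.toMatrix' (indL g.1) * LinearMap.toMatrix' (indL h.1)
    rw [indL_mul g.2 h.2, LinearMap.toMatrix'_comp]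

theorem toSp_surjective [Finite F] [CharP F 2] : Function.Surjective (toSp (n := n) (F := F)) := by
  rw [← MonoidHom.range_eq_top, eq_top_iff, ← S0765.result n, Subgroup.closure_le]
  rintro A ⟨w, c, hA⟩
  rw [SetLike.mem_coe, MonoidHom.mem_range]
  rcases eq_or_ne c 0 with rfl | hc
  · refine ⟨1, ?_⟩
    rw [map_one]
    apply Subtype.ext
    rw [hA]
    unfold Cfsg.sympTransvection
    rw [zero_smul, add_zero]
    rfl
  · obtain ⟨a, ha⟩ : ∃ a : F, a * a = c⁻¹ + Q0 n F w := by
      obtain ⟨a, ha⟩ := FiniteField.isSquare_of_char_two (ringChar.eq F 2) (c⁻¹ + Q0 n F w)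
      exact ⟨a, ha.symm⟩
    have hQw : Q n F (a, a, w) = c⁻¹ := by
      rw [Q_apply, ha, add_assoc, CharTwo.add_self_eq_zero, add_zero]
    have hne : Q n F (a, a, w) ≠ 0 := by
      rw [hQw]
      exact inv_ne_zero hc
    have hfix : refl (Q n F) (a, a, w) hne ∈ fixV (Q n F) (u0 n F) := by
      refine mem_fixV.2 ⟨refl_mem_O hne, ?_⟩
      rw [refl_apply, u0, polar_Q, polar_zero_right, mul_one, one_mul, add_zero, CharTwo.add_self_eq_zero, mul_zero,
        zero_smul, sub_zero]
    refine ⟨⟨_, hfix⟩, ?_⟩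
    apply Subtype.ext
    rw [hA]
    apply Matrix.toLin'.injective
    refine LinearMap.ext fun x => ?_
    show Matrix.toLin' (LinearMap.toMatrix' (indL (refl (Q n F) (a, a, w) hne))) x = _
    rw [Matrix.toLin'_toMatrix', Matrix.toLin'_apply, S0765.trans_mulVec, indL_apply, refl_apply, hQw, inv_inv,
      polar_Q, polar_Q0, S0765.form_swap w x]
    simp only [mul_zero, zero_add, CharTwo.neg_eq, zero_mul, Prod.snd_sub, Prod.smul_snd, add_zero]
    rw [sub_eq_add_neg, ← neg_smul, CharTwo.neg_eq]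

end Symp

/-- **Task M**, from the quotient property of `FSGood` (FSBase). -/
theorem symplectic_of_T2_of (hsurj : ∀ {G H : Type u} [Group G] [Group H] [Finite G] (f : G →* H),
    Function.Surjective f → FSGood False G → FSGood False H) (h : ∀ n, T2.{u} n) {F : Type u} [Field F] [Fintype F]
    [CharP F 2] (n : ℕ) : FSGood False (Matrix.symplecticGroup (Fin n) F) := by
  have : Finite (Symp.V n F ≃ₗ[F] Symp.V n F) := by
    have : Finite (Symp.V n F →ₗ[F] Symp.V n F) := Module.finite_of_finite F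
    exact Finite.of_injective (fun e : Symp.V n F ≃ₗ[F] Symp.V n F => (e : Symp.V n F →ₗ[F] Symp.V n F))
      LinearEquiv.toLinearMap_injective
  exact hsurj Symp.toSp Symp.toSp_surjective
    (h (n + 1) F (Symp.V n F) (Symp.Q n F) Symp.nondeg_Q Symp.finrank_V (Symp.u0 n F) Symp.Q_u0)

end Cfsg.Agent.H955.FS
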