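import Cfsg.Agent.H955.FSFive
import Cfsg.Agent.H955.FSSymp
import Cfsg.Agent.H592.FSFour
import Cfsg.Agent.H636.FSTwo
import Cfsg.Agent.H646.FSOmega
import Cfsg.Agent.H892.FSUniC

/-!
# All Frobenius-Schur indicators of orthogonal and symplectic groups in characteristic two
-/

set_option autoImplicit false

universe u

namespace Cfsg.Agent.H955.FS

/-- the induction -/
theorem all (n : ℕ) : T0.{u} n ∧ T1.{u} n ∧ T2.{u} n ∧ T3.{u} n ∧ T4.{u} n ∧ T5.{u} n :=
  all_of (fun n h5 h0 => Cfsg.Agent.H636.FSTwo.T2_step n h5 h0)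
    (fun n ih => Cfsg.Agent.H592.FSFour.T4_step n ih) (fun n ih => T5_step n ih) n

end Cfsg.Agent.H955.FS
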