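import Cfsg.Agent.H955.FSZero3

/-!
# The groups `transV` (`T5`)
-/

set_option autoImplicit false

universe u

namespace Cfsg.Agent.H955.FS

open Module QuadraticMap Cfsg.Agent.LieClassical.OrthCore Cfsg.Agent.LieClassical.OrthTrans
open Cfsg.Agent.H955

section Aux

variable {F M : Type u} [Field F] [AddCommGroup M] [Module F M] {R : QuadraticForm F M}

theorem eq_smul_of_perp (hR : Nondeg R) {w d : M} (hw : w ≠ 0)
    (h : ∀ m, polar R w m = 0 → polar R d m = 0) : ∃ t : F, d = t • w := by
  obtain ⟨m₁, hm₁⟩ := hR.exists_polar_eq hw 1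
  refine ⟨polar R d m₁, ?_⟩
  rw [← sub_eq_zero]
  refine hR _ fun m => ?_
  have h1 : polar R w (m - polar R w m • m₁) = 0 := by
    rw [sub_eq_add_neg, polar_add_right, polar_neg_right, polar_smul_right, hm₁, smul_eq_mul,
      mul_one]
    exact add_neg_cancel _
  have h2 := h _ h1
  rw [sub_eq_add_neg, polar_add_right, polar_neg_right, polar_smul_right, smul_eq_mul] at h2
  rw [sub_eq_add_neg, polar_add_left, polar_neg_left, polar_smul_left, smul_eq_mul, mul_comm]
  exact h2

/-- the group fixing a nonsingular `w` and moving `m'` by multiples of `w` -/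
theorem good_trans [Finite F] [CharP F 2] [FiniteDimensional F M] {k : ℕ}
    (h0 : ∀ m < k, T0.{u} m) (h2 : T2.{u} k) (h5 : T5.{u} k) (hR : Nondeg R)
    (hd : finrank F M = 2 * k) {w : M} (hw : R w ≠ 0) (m' : M) (Γ : AddSubgroup F) :
    FSGood False (transV R w m' Γ) := by
  classical
  have := finite_equiv F M
  have two : (2 : F) = 0 := CharTwo.two_eq_zero
  have hw0 : w ≠ 0 := by
    rintro rfl
    exact hw (QuadraticMap.map_zero R)
  by_cases hm' : polar R w m' = 0
  · -- translations are trivial
    have htriv : ∀ g ∈ transV R w m' Γ, g w = w ∧ g m' = m' := by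
      rintro g ⟨hg, hgw, γ, hγ, hgm⟩
      refine ⟨hgw, ?_⟩
      have h6 := hg m'
      rw [hgm, Q_add, QuadraticMap.map_smul, polar_smul_right, polar_comm, hm', smul_eq_mul,
        smul_eq_mul, mul_zero, add_zero] at h6
      have h7 : γ * γ * R w = 0 := by
        have := add_eq_left.1 h6
        exact this
      have h8 : γ = 0 := by
        rcases mul_eq_zero.1 h7 with h | h
        · exact mul_self_eq_zero.1 h
        · exact absurd h hw
      rw [hgm, h8, zero_smul, add_zero]
    by_cases hline : ∃ c : F, m' = c • w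
    · obtain ⟨c, hc⟩ := hline
      have heq : transV R w m' Γ = fixV R w := by
        ext g
        constructor
        · intro hg
          exact ⟨hg.1, hg.2.1⟩
        · rintro ⟨hg, hgw⟩
          exact ⟨hg, hgw, 0, zero_mem _, by rw [hc, map_smul, hgw, zero_smul, add_zero]⟩
      rw [heq]
      exact h2 F M R hR hd w hw
    · -- a singular vector
      obtain ⟨τ, hτ⟩ : ∃ τ : F, τ * τ = (R w)⁻¹ * R m' :=
        ⟨Field2.rt F _, Field2.rt_mul_rt _⟩
      have hs : R (m' + τ • w) = 0 := by
        rw [Q_add, QuadraticMap.map_smul, polar_smul_right, polar_comm, hm', smul_zero, add_zero,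
          smul_eq_mul, hτ, mul_assoc, mul_comm (R m'), ← mul_assoc, inv_mul_cancel₀ hw, one_mul,
          ← two_mul, two, zero_mul]
      have hs0 : m' + τ • w ≠ 0 := by
        intro h
        exact hline ⟨-τ, by rw [neg_smul]; exact eq_neg_of_add_eq_zero_left h⟩
      have hperp : polar R (m' + τ • w) w = 0 := by
        rw [polar_add_left, polar_smul_left, polar_self', two, zero_mul, smul_zero, add_zero,
          polar_comm, hm']
      have heq : transV R w m' Γ = transV R (m' + τ • w) w ⊥ := by
        ext g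
        constructor
        · intro hg
          obtain ⟨h6, h7⟩ := htriv g hg
          exact ⟨hg.1, by rw [map_add, map_smul, h6, h7], 0, zero_mem _, by
            rw [zero_smul, add_zero, h6]⟩
        · rintro ⟨hg, hgs, γ, hγ, hgw⟩
          have hγ0 : γ = 0 := by simpa using hγ
          rw [hγ0, zero_smul, add_zero] at hgw
          refine ⟨hg, hgw, 0, zero_mem _, ?_⟩
          rw [map_add, map_smul, hgw] at hgs
          rw [zero_smul, add_zero]
          exact add_right_cancel hgs
      rw [heq]
      exact h5 F M R hR hd _ w ⊥ hs0 hs hw hperp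
  · -- a nondegenerate plane
    let U : Submodule F M := Submodule.span F {w, m'}
    have hmemU : ∀ v, v ∈ U ↔ ∃ a b : F, a • w + b • m' = v := fun v =>
      Submodule.mem_span_pair
    have hwU : w ∈ U := Submodule.subset_span (by simp)
    have hmU : m' ∈ U := Submodule.subset_span (by simp)
    have hU : Nondeg (res R U) := by
      rw [nondeg_res_iff]
      intro x hx hxy
      obtain ⟨a, b, rfl⟩ := (hmemU x).1 hx
      have hww : polar R w w = 0 := by rw [polar_self', two, zero_mul]
      have hcc' : polar R m' m' = 0 := by rw [polar_self', two, zero_mul]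
      have e1 := hxy w hwU
      have e2 := hxy m' hmU
      rw [polar_add_left, polar_smul_left, polar_smul_left, hww, polar_comm R m' w] at e1
      rw [polar_add_left, polar_smul_left, polar_smul_left, hcc'] at e2
      simp only [smul_eq_mul, mul_zero, zero_add, add_zero] at e1 e2
      rw [(mul_eq_zero.1 e1).resolve_right hm', (mul_eq_zero.1 e2).resolve_right hm', zero_smul,
        zero_smul, add_zero]
    have hUdim : finrank F U = 2 := by
      have h6 := finrank_span_finset_le_card (R := F) (M := M) ({w, m'} : Finset M)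
      have h7 : (({w, m'} : Finset M)).card ≤ 2 := Finset.card_le_two
      have h8 : U = Submodule.span F (({w, m'} : Finset M) : Set M) := by
        simp [U]
      have h9 : finrank F U ≤ 2 := by
        rw [h8]
        exact h6.trans h7
      have h10 : 0 < finrank F U := by
        rw [Module.finrank_pos_iff]
        exact ⟨⟨w, hwU⟩, 0, fun h => hw0 (congrArg Subtype.val h)⟩
      obtain ⟨a, ha⟩ := (Field2.even_finrank hU).exists_two_nsmul
      rw [smul_eq_mul] at ha
      omega
    have hsum := finrank_add_perp hR U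
    have := finite_equiv F U
    have := finite_equiv F (perp R U)
    have hgood : FSGood False (O (res R (perp R U))) :=
      h0 (k - 1) (by omega) F _ _ (nondeg_perp hR hU) (by omega)
    let w' : U := ⟨w, hwU⟩
    let n' : U := ⟨m', hmU⟩
    have hone : FSGood False (transV (res R U) w' n' Γ) := by
      refine fsGood_of_sq fun g => Subtype.ext ?_
      obtain ⟨g, hg, hgw, γ, hγ, hgm⟩ := g
      ext v
      obtain ⟨v, hv⟩ := v
      obtain ⟨a, b, rfl⟩ := (hmemU v).1 hv
      have h6 : (⟨a • w + b • m', hv⟩ : U) = a • w' + b • n' := rfl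
      change ((g (g ⟨a • w + b • m', hv⟩) : U) : M) = _
      rw [h6, map_add, map_smul, map_smul, hgw, hgm, map_add, map_smul, map_smul, map_add,
        map_smul, hgw, hgm, add_assoc, ← add_smul, CharTwo.add_self_eq_zero, zero_smul, add_zero]
      rfl
    let f : transV (res R U) w' n' Γ × O (res R (perp R U)) →* (M ≃ₗ[F] M) :=
      (glue hU).comp ((transV (res R U) w' n' Γ).subtype.prodMap
        (O (res R (perp R U))).subtype)
    have hf : f.range = transV R w m' Γ := by
      ext g
      constructor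
      · rintro ⟨⟨⟨p, hp, hpw, γ, hγ, hpm⟩, r⟩, rfl⟩
        refine ⟨(glue_mem_O hU).2 ⟨hp, r.2⟩, ?_, γ, hγ, ?_⟩
        · have h6 := glue_left hU (p, (r : _ ≃ₗ[F] _)) w'
          change glue hU (p, (r : _ ≃ₗ[F] _)) w = w
          rw [h6, hpw]
        · have h6 := glue_left hU (p, (r : _ ≃ₗ[F] _)) n'
          change glue hU (p, (r : _ ≃ₗ[F] _)) m' = m' + γ • w
          rw [h6, hpm]
          rfl
      · rintro ⟨hg, hgw, γ, hγ, hgm⟩
        obtain ⟨p, hp1, hp2, hp⟩ := exists_glue hU hg (fun v hv => by
          obtain ⟨a, b, rfl⟩ := (hmemU v).1 hv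
          rw [map_add, map_smul, map_smul, hgw, hgm]
          exact add_mem (Submodule.smul_mem _ _ hwU) (Submodule.smul_mem _ _
            (add_mem hmU (Submodule.smul_mem _ _ hwU))))
        have h6 : ∀ a : U, ((p.1 a : U) : M) = g a := fun a => by
          rw [← hp]
          exact (glue_left hU p a).symm
        refine ⟨(⟨p.1, hp1, Subtype.ext ((h6 w').trans hgw), γ, hγ,
          Subtype.ext ((h6 n').trans hgm)⟩, ⟨p.2, hp2⟩), hp⟩
    rw [← hf]
    have : Finite (transV (res R U) w' n' Γ) := inferInstance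
    exact (hone.prod hgood).of_surjective f.rangeRestrict f.rangeRestrict_surjective

end Aux

theorem T5_step (n : ℕ) (ih : ∀ m < n, T0.{u} m ∧ T2.{u} m ∧ T5.{u} m) : T5.{u} n := by
  intro F V _ _ _ _ _ _ Q hQ hd s w Γ hs0 hs hw hsw
  classical
  have := finite_equiv F V
  obtain ⟨ψ, hψ⟩ := exists_psi F
  -- the partner of `s`
  obtain ⟨y, h, hwy⟩ : ∃ y, Hyp Q s y ∧ polar Q y w = 0 := by
    obtain ⟨y₀, h1, h2⟩ := exists_sep (Q := Q) (x := s) (z := w) hQ (by
      intro c hc
      by_cases hc0 : c = 0
      · rw [hc0, zero_smul] at hc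
        exact hs0 hc
      · have h3 : Q s = c * c * Q w := by rw [hc, QuadraticMap.map_smul, smul_eq_mul]
        rw [hs] at h3
        exact (mul_ne_zero (mul_ne_zero hc0 hc0) hw) h3.symm)
    refine ⟨y₀ + (-Q y₀) • s, ⟨hs, ?_, ?_⟩, ?_⟩
    · rw [Q_add, QuadraticMap.map_smul, hs, polar_smul_right, polar_comm Q y₀ s, h2]
      simp
    · rw [polar_add_right, polar_smul_right, polar_self_of_sing hs, h2]
      simp
    · rw [polar_add_left, polar_smul_left, hsw, polar_comm Q y₀ w, h1]
      simp
  have hM : Nondeg (res Q (hperp Q s y)) := nondeg_hperp hQ h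
  have hdim := finrank_hperp h
  have := finite_equiv F (hperp Q s y)
  have hdM : finrank F (hperp Q s y) = 2 * (n - 1) := by omega
  have hn : n - 1 < n := by omega
  obtain ⟨-, hT2, hT5⟩ := ih (n - 1) hn
  let w' : hperp Q s y := ⟨w, hsw, hwy⟩
  have hw' : res Q (hperp Q s y) w' ≠ 0 := hw
  have hw'0 : w' ≠ 0 := by
    intro h0
    apply hw
    have h1 : w = 0 := congrArg Subtype.val h0
    rw [h1]
    exact QuadraticMap.map_zero Q
  let S : AddSubgroup (hperp Q s y) :=
    { carrier := {m | polar Q (w : V) (m : V) ∈ Γ}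
      add_mem' := by
        intro a b ha hb
        change polar Q w ((a : V) + (b : V)) ∈ Γ
        rw [polar_add_right]
        exact add_mem ha hb
      zero_mem' := by
        change polar Q w (0 : V) ∈ Γ
        rw [polar_zero_right]
        exact zero_mem _
      neg_mem' := by
        intro a ha
        change polar Q w (-(a : V)) ∈ Γ
        rw [polar_neg_right]
        exact neg_mem ha }
  have hSmem : ∀ m, m ∈ S ↔ polar Q w (m : V) ∈ Γ := fun m => Iff.rfl
  let Y₀ : Subgroup (O (res Q (hperp Q s y)) × Fˣ) :=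
    { carrier := {p | p.2 = 1 ∧ (p.1 : hperp Q s y ≃ₗ[F] hperp Q s y) w' = w'}
      mul_mem' := by
        rintro p q ⟨hp1, hp2⟩ ⟨hq1, hq2⟩
        refine ⟨by rw [Prod.snd_mul, hp1, hq1, one_mul], ?_⟩
        change (p.1 : hperp Q s y ≃ₗ[F] hperp Q s y)
          ((q.1 : hperp Q s y ≃ₗ[F] hperp Q s y) w') = w'
        rw [hq2, hp2]
      one_mem' := ⟨rfl, rfl⟩
      inv_mem' := by
        rintro p ⟨hp1, hp2⟩
        refine ⟨by rw [Prod.snd_inv, hp1, inv_one], ?_⟩
        change (p.1 : hperp Q s y ≃ₗ[F] hperp Q s y).symm w' = w'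
        rw [LinearEquiv.symm_apply_eq, hp2] }
  have hYmem : ∀ p, p ∈ Y₀ ↔ p.2 = 1 ∧ (p.1 : hperp Q s y ≃ₗ[F] hperp Q s y) w' = w' :=
    fun p => Iff.rfl
  have hSinv : ∀ p ∈ Y₀, ∀ m, (p.1 : hperp Q s y ≃ₗ[F] hperp Q s y) m ∈ S ↔ m ∈ S := by
    rintro p ⟨hp1, hp2⟩ m
    rw [hSmem, hSmem]
    have h1 : polar (res Q (hperp Q s y)) ((p.1 : _ ≃ₗ[F] _) w') ((p.1 : _ ≃ₗ[F] _) m)
        = polar (res Q (hperp Q s y)) w' m := polar_map p.1.2 w' m
    rw [hp2] at h1
    change polar (res Q (hperp Q s y)) w' ((p.1 : _ ≃ₗ[F] _) m) ∈ Γ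
      ↔ polar (res Q (hperp Q s y)) w' m ∈ Γ
    rw [h1]
  let Γ' : AddSubgroup F :=
    { carrier := {t | ∀ γ ∈ Γ, ψ (t * γ) = 1}
      add_mem' := by
        intro a b ha hb γ hγ
        rw [add_mul, AddChar.map_add_eq_mul, ha γ hγ, hb γ hγ, one_mul]
      zero_mem' := by
        intro γ _
        rw [zero_mul, AddChar.map_zero_eq_one]
      neg_mem' := by
        intro a ha γ hγ
        rw [neg_mul, ← mul_neg]
        exact ha _ (neg_mem hγ) }
  refine good_sg hQ h (transV Q s w Γ) S Y₀ ?_ ?_ hψ ?_
  · intro g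
    constructor
    · rintro ⟨hg, hgs, γ, hγ, hgw⟩
      obtain ⟨m, k, hk, h5⟩ := exists_sg_lev h hg (β := 1) (by rw [one_smul, hgs])
      have h6 : g w = (k w' : V) + (-polar Q (m : V) (k w' : V)) • s := by
        rw [h5, LinearEquiv.mul_apply]
        have h7 : lev h (k, 1) w = (k w' : V) := lev_m h (k, 1) w'
        rw [h7, sg_m, neg_smul, sub_eq_add_neg]
      have h8 : hypEquiv h (k w', -polar Q (m : V) (k w' : V), 0)
          = hypEquiv h (w', γ, 0) := by
        rw [hypEquiv_apply, hypEquiv_apply]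
        simp only [zero_smul, add_zero]
        rw [← h6, hgw]
      have h9 := (hypEquiv h).injective h8
      have h10 : k w' = w' := congrArg Prod.fst h9
      have h11 : -polar Q (m : V) (k w' : V) = γ := congrArg (fun t => t.2.1) h9
      refine ⟨m, ?_, (⟨k, hk⟩, 1), ⟨rfl, h10⟩, h5⟩
      rw [hSmem, polar_comm]
      rw [h10] at h11
      have h12 : polar Q (m : V) w = -γ := by
        rw [← h11, neg_neg]
      rw [h12]
      exact neg_mem hγ
    · rintro ⟨m, hm, p, ⟨hp1, hp2⟩, rfl⟩
      refine ⟨mul_mem (sg_mem_O h m) ((lev_mem_O h).2 p.1.2), ?_, -polar Q (m : V) w, ?_, ?_⟩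
      · rw [LinearEquiv.mul_apply, lev_x]
        rw [hp1, one_smul, sg_x]
      · rw [polar_comm]
        exact neg_mem hm
      · rw [LinearEquiv.mul_apply]
        have h7 : lev h ((p.1 : hperp Q s y ≃ₗ[F] hperp Q s y), p.2) w
          = ((p.1 : hperp Q s y ≃ₗ[F] hperp Q s y) w' : V) := lev_m h _ w'
        rw [h7, hp2, sg_m, neg_smul, sub_eq_add_neg]
  · intro p hp m hm
    have h6 := (hSinv p hp m).2 hm
    rw [((hYmem p).1 hp).1, one_smul]
    exact h6
  · intro m'
    let T : Subgroup (O (res Q (hperp Q s y)) × Fˣ) :=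
      { carrier := {p | p.2 = 1 ∧ (p.1 : hperp Q s y ≃ₗ[F] hperp Q s y)
          ∈ transV (res Q (hperp Q s y)) w' m' Γ'}
        mul_mem' := by
          rintro p q ⟨hp1, hp2⟩ ⟨hq1, hq2⟩
          exact ⟨by rw [Prod.snd_mul, hp1, hq1, one_mul], mul_mem hp2 hq2⟩
        one_mem' := ⟨rfl, one_mem _⟩
        inv_mem' := by
          rintro p ⟨hp1, hp2⟩
          exact ⟨by rw [Prod.snd_inv, hp1, inv_one], inv_mem hp2⟩ }
    refine ⟨T, ?_, ?_⟩
    · intro p
      constructor
      · rintro ⟨hp1, hp, hpw, t, ht, hpm⟩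
        refine ⟨⟨hp1, hpw⟩, fun m hm => ?_⟩
        rw [hp1, one_smul]
        have e1 : polar (res Q (hperp Q s y)) ((p.1 : _ ≃ₗ[F] _) m') ((p.1 : _ ≃ₗ[F] _) m)
          = polar (res Q (hperp Q s y)) m' m := polar_map p.1.2 m' m
        have e2 : polar (res Q (hperp Q s y)) ((p.1 : _ ≃ₗ[F] _) w') ((p.1 : _ ≃ₗ[F] _) m)
          = polar (res Q (hperp Q s y)) w' m := polar_map p.1.2 w' m
        rw [hpw] at e2
        rw [hpm, polar_add_left, polar_smul_left, e2, smul_eq_mul] at e1
        have e3 : ψ (polar (res Q (hperp Q s y)) m' m)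
            = ψ (polar (res Q (hperp Q s y)) m' ((p.1 : _ ≃ₗ[F] _) m)) := by
          have ht' : ψ (t * polar (res Q (hperp Q s y)) w' m) = 1 := ht _ hm
          rw [← e1, AddChar.map_add_eq_mul, ht', mul_one]
        exact e3.symm
      · rintro ⟨⟨hp1, hpw⟩, h6⟩
        refine ⟨hp1, p.1.2, hpw, ?_⟩
        set g : hperp Q s y ≃ₗ[F] hperp Q s y := (p.1 : hperp Q s y ≃ₗ[F] hperp Q s y) with hgdef
        have hgO : g ∈ O (res Q (hperp Q s y)) := p.1.2
        -- `d = g m' - m'` pairs trivially with `S`
        have h7 : ∀ m ∈ S, ψ (polar (res Q (hperp Q s y)) (g m' - m') m) = 1 := by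
          intro m hm
          obtain ⟨m₀, rfl⟩ := g.surjective m
          have hm₀ : m₀ ∈ S := (hSinv p ⟨hp1, hpw⟩ m₀).1 hm
          have h8 := h6 m₀ hm₀
          rw [hp1, one_smul] at h8
          have h8' : ψ (polar (res Q (hperp Q s y)) m' (g m₀))
            = ψ (polar (res Q (hperp Q s y)) m' m₀) := h8
          have h9 : polar (res Q (hperp Q s y)) (g m' - m') (g m₀)
              + polar (res Q (hperp Q s y)) m' (g m₀)
              = polar (res Q (hperp Q s y)) m' m₀ := by
            rw [← polar_add_left, sub_add_cancel]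
            exact polar_map hgO m' m₀
          have h10 : ψ (polar (res Q (hperp Q s y)) (g m' - m') (g m₀))
              * ψ (polar (res Q (hperp Q s y)) m' m₀)
              = ψ (polar (res Q (hperp Q s y)) m' m₀) := by
            rw [← h8', ← AddChar.map_add_eq_mul, h9, h8']
          have h11 : ψ (polar (res Q (hperp Q s y)) m' m₀) ≠ 0 := by
            intro h0
            have h12 := AddChar.map_add_eq_mul ψ (polar (res Q (hperp Q s y)) m' m₀)
              (-(polar (res Q (hperp Q s y)) m' m₀))
            rw [add_neg_cancel, AddChar.map_zero_eq_one, h0, zero_mul] at h12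
            exact one_ne_zero h12
          exact mul_right_cancel₀ h11 (by rw [h10, one_mul])
        obtain ⟨t, ht⟩ := eq_smul_of_perp hM hw'0 (d := g m' - m') (fun m hm => by
          refine eq_zero_of_psi hψ fun c => ?_
          have h8 : c • m ∈ S := by
            rw [hSmem]
            have h9 : polar Q w ((c • m : hperp Q s y) : V) = 0 := by
              change polar Q w (c • (m : V)) = 0
              have h10 : polar Q w (m : V) = 0 := hm
              rw [polar_smul_right, h10, smul_zero]
            rw [h9]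
            exact zero_mem _
          have h9 := h7 _ h8
          rw [polar_smul_right, smul_eq_mul] at h9
          exact h9)
        refine ⟨t, ?_, ?_⟩
        · intro γ hγ
          obtain ⟨m₁, hm₁⟩ := hM.exists_polar_eq hw'0 γ
          have h8 : m₁ ∈ S := by
            rw [hSmem]
            have h9 : polar Q w (m₁ : V) = γ := hm₁
            rw [h9]
            exact hγ
          have h9 := h7 _ h8
          rw [ht, polar_smul_left, hm₁, smul_eq_mul] at h9
          exact h9
        · rw [← ht]
          abel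
    · have hgood := good_trans (fun m hm => (ih m (by omega)).1) hT2 hT5 hM hdM hw' m' Γ'
      let f : transV (res Q (hperp Q s y)) w' m' Γ' →* T :=
        { toFun := fun g => ⟨(⟨g.1, g.2.1⟩, 1), rfl, g.2⟩
          map_one' := rfl
          map_mul' := fun a b => Subtype.ext (Prod.ext rfl (one_mul (1 : Fˣ)).symm) }
      refine hgood.of_surjective f ?_
      rintro ⟨⟨g, β⟩, hβ, hg⟩
      have hβ' : β = 1 := hβ
      subst hβ'
      exact ⟨⟨g.1, hg⟩, rfl⟩

end Cfsg.Agent.H955.FS
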