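import Cfsg.Agent.H955.FSAmb
import Cfsg.Agent.H955.FSHyp
import Cfsg.Agent.H955.FSDual

/-!
# Stabilisers of singular vectors and of singular lines
-/

set_option autoImplicit false

universe u

namespace Cfsg.Agent.H955.FS

open Module QuadraticMap Cfsg.Agent.LieClassical.OrthCore Cfsg.Agent.LieClassical.OrthTrans
open Cfsg.Agent.H955

/-- a finite module has finitely many automorphisms -/
theorem finite_equiv (F V : Type u) [Field F] [Finite F] [AddCommGroup V] [Module F V]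
    [FiniteDimensional F V] : Finite (V ≃ₗ[F] V) := by
  have : Finite V := Module.finite_of_finite F
  exact Finite.of_injective (fun g : V ≃ₗ[F] V => (g : V → V)) DFunLike.coe_injective

theorem char_two_self {F V : Type u} [Field F] [CharP F 2] [AddCommGroup V] [Module F V] (v : V) :
    v + v = 0 := by
  have h : (2 : F) = 0 := CharTwo.two_eq_zero
  rw [← two_smul F v, h, zero_smul]

theorem neg_eq_self' {F V : Type u} [Field F] [CharP F 2] [AddCommGroup V] [Module F V] (v : V) :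
    -v = v := (eq_neg_of_add_eq_zero_left (char_two_self (F := F) v)).symm

section

variable {F V : Type u} [Field F] [AddCommGroup V] [Module F V] {Q : QuadraticForm F V}

/-- groups of Siegel transformations -/
def sgSub {x y : V} (h : Hyp Q x y) (S : AddSubgroup (hperp Q x y)) : Subgroup (V ≃ₗ[F] V) where
  carrier := {g | ∃ m ∈ S, g = sg h m}
  mul_mem' := by
    rintro _ _ ⟨m, hm, rfl⟩ ⟨m', hm', rfl⟩
    exact ⟨m + m', add_mem hm hm', (sg_add h m m').symm⟩
  one_mem' := ⟨0, zero_mem _, (sg_zero h).symm⟩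
  inv_mem' := by
    rintro _ ⟨m, hm, rfl⟩
    refine ⟨-m, neg_mem hm, ?_⟩
    rw [inv_eq_iff_mul_eq_one, ← sg_add, add_neg_cancel, sg_zero]

theorem mem_sgSub {x y : V} {h : Hyp Q x y} {S : AddSubgroup (hperp Q x y)} {g : V ≃ₗ[F] V} :
    g ∈ sgSub h S ↔ ∃ m ∈ S, g = sg h m := Iff.rfl

theorem sg_mul_self [CharP F 2] {x y : V} (h : Hyp Q x y) (m : hperp Q x y) :
    sg h m * sg h m = 1 := by
  rw [← sg_add, char_two_self (F := F), sg_zero]

/-- the characters of groups of Siegel transformations -/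
theorem exists_lam [Finite F] [CharP F 2] [FiniteDimensional F V] {x y : V} (h : Hyp Q x y)
    (hQ : Nondeg Q)
    {ψ : AddChar F ℂ} (hψ : ∃ a, ψ a ≠ 1) (S : AddSubgroup (hperp Q x y))
    (lam : (V ≃ₗ[F] V) → ℂ)
    (h1 : ∀ a ∈ sgSub h S, ∀ b ∈ sgSub h S, lam (a * b) = lam a * lam b)
    (h2 : ∀ a ∈ sgSub h S, lam a = 1 ∨ lam a = -1) :
    ∃ m' : hperp Q x y, ∀ m ∈ S, lam (sg h m) = ψ (polar Q (m' : V) (m : V)) := by
  obtain ⟨l, hl⟩ := exists_extend (char_two_self (F := F)) S (fun m => lam (sg h m))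
    (fun a ha b hb => by
      rw [sg_add]
      exact h1 _ ⟨a, ha, rfl⟩ _ ⟨b, hb, rfl⟩)
    (fun a ha => h2 _ ⟨a, ha, rfl⟩)
  obtain ⟨m', hm'⟩ := exists_dual (nondeg_hperp hQ h) hψ l
  exact ⟨m', fun m hm => by rw [← hl m hm, hm']; rfl⟩

end

section Eig

variable {F M : Type u} [Field F] [AddCommGroup M] [Module F M]

/-- isometries with a given eigenvector, together with the eigenvalue -/
def eigS (Q : QuadraticForm F M) (m' : M) : Subgroup (O Q × Fˣ) where
  carrier := {p | (p.1 : M ≃ₗ[F] M) m' = p.2 • m'}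
  mul_mem' := by
    intro p q hp hq
    change (p.1 : M ≃ₗ[F] M) ((q.1 : M ≃ₗ[F] M) m') = (p.2 * q.2) • m'
    have hq' : (q.1 : M ≃ₗ[F] M) m' = q.2 • m' := hq
    have hp' : (p.1 : M ≃ₗ[F] M) m' = p.2 • m' := hp
    have h1 : (p.1 : M ≃ₗ[F] M) (q.2 • m') = q.2 • (p.1 : M ≃ₗ[F] M) m' :=
      map_smul (p.1 : M ≃ₗ[F] M) (q.2 : F) m'
    rw [hq', h1, hp', smul_smul, mul_comm]
  one_mem' := (one_smul Fˣ m').symm
  inv_mem' := by
    intro p hp
    have hp' : (p.1 : M ≃ₗ[F] M) m' = p.2 • m' := hp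
    change (p.1 : M ≃ₗ[F] M).symm m' = p.2⁻¹ • m'
    rw [LinearEquiv.symm_apply_eq]
    have h1 : (p.1 : M ≃ₗ[F] M) (p.2⁻¹ • m') = p.2⁻¹ • (p.1 : M ≃ₗ[F] M) m' :=
      map_smul (p.1 : M ≃ₗ[F] M) ((p.2⁻¹ : Fˣ) : F) m'
    rw [h1, hp', smul_smul, inv_mul_cancel, one_smul]

theorem mem_eigS {Q : QuadraticForm F M} {m' : M} {p : O Q × Fˣ} :
    p ∈ eigS Q m' ↔ (p.1 : M ≃ₗ[F] M) m' = p.2 • m' := Iff.rfl

theorem units_odd [Finite F] [CharP F 2] : Odd (Nat.card Fˣ) := by
  classical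
  let _ := Fintype.ofFinite F
  rw [Nat.card_eq_fintype_card, Fintype.card_units]
  have h2 : Even (Fintype.card F) := by
    obtain ⟨n, hp, h⟩ := FiniteField.card F 2
    rw [h]
    exact (Nat.even_pow.2 ⟨even_two, n.ne_zero⟩)
  have h3 : 0 < Fintype.card F := Fintype.card_pos
  exact Nat.Even.sub_odd h3 h2 odd_one

theorem good_units [Finite F] [CharP F 2] : FSGood True Fˣ :=
  (fsGood_of_compl (⊤ : Subgroup Fˣ) (by rw [Subgroup.card_top]; exact units_odd)
    (fun x hx => absurd (Subgroup.mem_top x) hx)).mono (fun _ => trivial)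

theorem unit_eq_one_of_sq [CharP F 2] {β : Fˣ} (h : (β : F) * β = 1) : β = 1 := by
  have h1 : ((β : F) - 1) * ((β : F) - 1) = 0 := by
    have h2 : (2 : F) = 0 := CharTwo.two_eq_zero
    calc ((β : F) - 1) * ((β : F) - 1) = (β : F) * β - 2 * β + 1 := by ring
      _ = 1 - 2 * β + 1 := by rw [h]
      _ = 2 * (1 - β) := by ring
      _ = 0 := by rw [h2, zero_mul]
  exact Units.ext (sub_eq_zero.1 (mul_self_eq_zero.1 h1))

theorem good_eigS {n : ℕ} (h0 : T0.{u} n) (h2 : T2.{u} n) (h3 : T3.{u} n) [Finite F] [CharP F 2]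
    [FiniteDimensional F M] {Q : QuadraticForm F M} (hQ : Nondeg Q) (hd : finrank F M = 2 * n)
    (m' : M) : FSGood True (eigS Q m') := by
  have := finite_equiv F M
  by_cases hm0 : m' = 0
  · have htop : eigS Q m' = ⊤ := by
      rw [Subgroup.eq_top_iff']
      intro p
      rw [mem_eigS, hm0, map_zero, smul_zero]
    rw [htop]
    have h4 : FSGood True (O Q × Fˣ) :=
      FSGood.prod ((h0 F M Q hQ hd).mono (fun h => h.elim)) good_units
    exact h4.of_equiv Subgroup.topEquiv.symm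
  by_cases hm1 : Q m' = 0
  · let f : eigS Q m' →* lineV Q m' :=
      { toFun := fun p => ⟨p.1.1, p.1.1.2, p.1.2, p.2⟩
        map_one' := rfl
        map_mul' := fun _ _ => rfl }
    have hf : Function.Bijective f := by
      constructor
      · intro p q hpq
        have h4' : (f p).1 = (f q).1 := by rw [hpq]
        have h4 : p.1.1 = q.1.1 := Subtype.ext h4'
        have h5 : p.1.2 = q.1.2 := by
          have h6 : (p.1.2 : F) • m' = (q.1.2 : F) • m' := by
            have e1 : (p.1.1 : M ≃ₗ[F] M) m' = p.1.2 • m' := p.2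
            have e2 : (q.1.1 : M ≃ₗ[F] M) m' = q.1.2 • m' := q.2
            rw [h4] at e1
            exact e1.symm.trans e2
          exact Units.ext (smul_left_injective F hm0 h6)
        exact Subtype.ext (Prod.ext h4 h5)
      · rintro ⟨g, hg, β, hβ⟩
        exact ⟨⟨(⟨g, hg⟩, β), hβ⟩, rfl⟩
    exact (h3 F M Q hQ hd m' hm0 hm1).of_equiv (MulEquiv.ofBijective f hf).symm
  · have hone : ∀ p ∈ eigS Q m', p.2 = 1 := by
      intro p hp
      have e1 : (p.1 : M ≃ₗ[F] M) m' = (p.2 : F) • m' := hp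
      have e2 := p.1.2 m'
      rw [e1, QuadraticMap.map_smul, smul_eq_mul] at e2
      exact unit_eq_one_of_sq (mul_right_cancel₀ hm1 (by rw [e2, one_mul]))
    let f : eigS Q m' →* fixV Q m' :=
      { toFun := fun p => ⟨p.1.1, p.1.1.2, by
          have e1 : (p.1.1 : M ≃ₗ[F] M) m' = p.1.2 • m' := p.2
          rw [hone p.1 p.2, one_smul] at e1
          exact e1⟩
        map_one' := rfl
        map_mul' := fun _ _ => rfl }
    have hf : Function.Bijective f := by
      constructor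
      · intro p q hpq
        have h4' : (f p).1 = (f q).1 := by rw [hpq]
        have h4 : p.1.1 = q.1.1 := Subtype.ext h4'
        exact Subtype.ext (Prod.ext h4 ((hone p.1 p.2).trans (hone q.1 q.2).symm))
      · rintro ⟨g, hg, hβ⟩
        exact ⟨⟨(⟨g, hg⟩, 1), by
          change g m' = (1 : Fˣ) • m'
          rw [one_smul, hβ]⟩, rfl⟩
    exact ((h2 F M Q hQ hd m' hm1).mono (fun h => h.elim)).of_equiv
      (MulEquiv.ofBijective f hf).symm

end Eig

/-! ### singular lines -/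

theorem T3_step (n : ℕ) (h0 : T0.{u} n) (h2 : T2.{u} n) (h3 : T3.{u} n) : T3.{u} (n + 1) := by
  intro F V _ _ _ _ _ _ Q hQ hd x hx0 hx
  have := finite_equiv F V
  obtain ⟨y, h⟩ := exists_hyp hQ hx hx0
  have hM : Nondeg (res Q (hperp Q x y)) := nondeg_hperp hQ h
  have hdM : finrank F (hperp Q x y) = 2 * n := by
    have := finrank_hperp h
    omega
  have := finite_equiv F (hperp Q x y)
  obtain ⟨ψ, hψ⟩ := exists_psi F
  let φ : O (res Q (hperp Q x y)) × Fˣ →* (V ≃ₗ[F] V) :=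
    (lev h).comp ((O (res Q (hperp Q x y))).subtype.prodMap (MonoidHom.id Fˣ))
  have hφ : ∀ p, φ p = lev h (p.1, p.2) := fun p => rfl
  have hφO : ∀ p, φ p ∈ O Q := fun p => (lev_mem_O h).2 p.1.2
  have hact : ∀ p m, φ p * sg h m * (φ p)⁻¹ = sg h (p.2 • (p.1 : _ ≃ₗ[F] _) m) := fun p m =>
    lev_sg h (p := (p.1, p.2)) p.1.2 m
  refine good_semidirect (lineV Q x) (sgSub h ⊤) ?_ ?_ ?_ φ ?_ ?_ ?_ ?_
  · rintro _ ⟨m, -, rfl⟩
    exact ⟨sg_mem_O h m, 1, by rw [sg_x, one_smul]⟩
  · rintro g ⟨hg, β, hβ⟩ _ ⟨m, -, rfl⟩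
    obtain ⟨m₀, k, hk, rfl⟩ := exists_sg_lev h hg hβ
    have h5 := lev_sg h (p := (k, β)) hk m
    refine ⟨β • k m, AddSubgroup.mem_top _, ?_⟩
    have h6 : sg h m₀ * lev h (k, β) * sg h m * (sg h m₀ * lev h (k, β))⁻¹
        = sg h m₀ * (lev h (k, β) * sg h m * (lev h (k, β))⁻¹) * (sg h m₀)⁻¹ := by group
    rw [h6, h5, ← sg_add, mul_inv_eq_iff_eq_mul, ← sg_add, add_comm]
  · rintro _ ⟨m, -, rfl⟩
    exact sg_mul_self h m
  · intro p
    exact ⟨hφO p, p.2, lev_x h _⟩
  · rintro p ⟨m, -, hm⟩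
    have h5 : φ p y = y + ((m : V) - Q (m : V) • x) := by rw [hm, sg_y]; abel
    have h6 : φ p x = x := by rw [hm, sg_x]
    have h7 : p.2 = 1 := by
      have h8 : (p.2 : F) • x = (1 : F) • x := by
        rw [one_smul]
        exact (lev_x h _).symm.trans h6
      exact Units.ext (smul_left_injective F h.left_ne h8)
    have h9 : φ p y = y := by
      have : φ p y = p.2⁻¹ • y := lev_y h _
      rw [this, h7, inv_one, one_smul]
    have h10 : sg h m = sg h 0 := by
      have h11 : sg h m y = y := by rw [← hm, h9]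
      rw [sg_y] at h11
      have h12 : hypEquiv h (m, -Q (m : V), 1) = hypEquiv h (0, 0, 1) := by
        rw [hypEquiv_apply, hypEquiv_apply]
        simp only [neg_smul, one_smul, ← sub_eq_add_neg, zero_smul, add_zero,
          Submodule.coe_zero, zero_add]
        exact h11
      have h13 : m = 0 := congrArg Prod.fst ((hypEquiv h).injective h12)
      rw [h13]
    rw [sg_zero] at h10
    have h14 : lev h (p.1, p.2) = 1 := by rw [← hφ, hm, h10]
    have h15 := (injective_iff_map_eq_one (lev h)).1 (lev_injective h) _ h14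
    exact Prod.ext (Subtype.ext (congrArg Prod.fst h15)) h7
  · rintro g ⟨hg, β, hβ⟩
    obtain ⟨m₀, k, hk, h5⟩ := exists_sg_lev h hg hβ
    exact ⟨sg h m₀, ⟨m₀, AddSubgroup.mem_top _, rfl⟩, (⟨k, hk⟩, β), h5⟩
  · intro lam hl1 hl2
    obtain ⟨m', hm'⟩ := exists_lam h hQ hψ ⊤ lam hl1 hl2
    refine ⟨eigS (res Q (hperp Q x y)) m', fun p => ?_, good_eigS h0 h2 h3 hM hdM m'⟩
    rw [mem_eigS]
    have hpol : ∀ m : hperp Q x y, polar Q ((p.2 • m' : hperp Q x y) : V)
        (((p.1 : _ ≃ₗ[F] _) m : hperp Q x y) : V)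
        = polar Q (m' : V) ((p.2 • (p.1 : _ ≃ₗ[F] _) m : hperp Q x y) : V) := by
      intro m
      have e1 : ((p.2 • m' : hperp Q x y) : V) = (p.2 : F) • (m' : V) := rfl
      have e2 : ((p.2 • (p.1 : _ ≃ₗ[F] _) m : hperp Q x y) : V)
        = (p.2 : F) • (((p.1 : _ ≃ₗ[F] _) m : hperp Q x y) : V) := rfl
      rw [e1, e2, polar_smul_left, polar_smul_right]
    constructor
    · rintro hp _ ⟨m, -, rfl⟩
      rw [hact, hm' _ (AddSubgroup.mem_top _), hm' _ (AddSubgroup.mem_top _), ← hpol, ← hp]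
      congr 1
      exact polar_map (Q := res Q (hperp Q x y)) p.1.2 m' m
    · intro hp
      have h6 : ∀ m : hperp Q x y, ψ (polar (res Q (hperp Q x y)) m'
          (((p.2 : F) • ((p.1 : hperp Q x y ≃ₗ[F] hperp Q x y) :
            hperp Q x y →ₗ[F] hperp Q x y)) m)) = ψ (polar (res Q (hperp Q x y)) m' m) := by
        intro m
        have h7 := hp (sg h m) ⟨m, AddSubgroup.mem_top _, rfl⟩
        rw [hact, hm' _ (AddSubgroup.mem_top _), hm' _ (AddSubgroup.mem_top _)] at h7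
        exact h7
      have h7 := polar_eq_of_psi (res Q (hperp Q x y)) hψ _ h6
      -- `f (p m' - β m', p m) = 0`
      rw [← sub_eq_zero]
      refine hM _ fun z => ?_
      obtain ⟨m, rfl⟩ := (p.1 : hperp Q x y ≃ₗ[F] hperp Q x y).surjective z
      rw [sub_eq_add_neg, polar_add_left, polar_neg_left]
      have h8 : polar (res Q (hperp Q x y)) ((p.1 : _ ≃ₗ[F] _) m') ((p.1 : _ ≃ₗ[F] _) m)
          = polar (res Q (hperp Q x y)) m' m := polar_map p.1.2 m' m
      have h9 : polar (res Q (hperp Q x y)) (p.2 • m') ((p.1 : _ ≃ₗ[F] _) m)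
          = polar (res Q (hperp Q x y)) m' m := (hpol m).trans (h7 m)
      rw [h8, h9]
      exact add_neg_cancel _

end Cfsg.Agent.H955.FS
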