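import Cfsg.Agent.H955.FSVec

/-!
# Stabilisers of vectors: the general Siegel lemma, and singular vectors
-/

set_option autoImplicit false

universe u

namespace Cfsg.Agent.H955.FS

open Module QuadraticMap Cfsg.Agent.LieClassical.OrthCore Cfsg.Agent.LieClassical.OrthTrans
open Cfsg.Agent.H955

/-- Clifford theory for a group of Siegel transformations extended by a part of the Levi
factor. -/
theorem good_sg {F V : Type u} [Field F] [Finite F] [CharP F 2] [AddCommGroup V] [Module F V]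
    [FiniteDimensional F V] {Q : QuadraticForm F V} (hQ : Nondeg Q) {x y : V} (h : Hyp Q x y)
    (X : Subgroup (V ≃ₗ[F] V)) (S : AddSubgroup (hperp Q x y))
    (Y₀ : Subgroup (O (res Q (hperp Q x y)) × Fˣ))
    (hX : ∀ g, g ∈ X ↔ ∃ m ∈ S, ∃ p ∈ Y₀, g = sg h m * lev h (p.1, p.2))
    (hS : ∀ p ∈ Y₀, ∀ m ∈ S, p.2 • (p.1 : hperp Q x y ≃ₗ[F] hperp Q x y) m ∈ S)
    {ψ : AddChar F ℂ} (hψ : ∃ a, ψ a ≠ 1) {w : Prop}
    (H : ∀ m' : hperp Q x y, ∃ T : Subgroup (O (res Q (hperp Q x y)) × Fˣ),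
      (∀ p, p ∈ T ↔ p ∈ Y₀ ∧ ∀ m ∈ S, ψ (polar Q (m' : V)
        ((p.2 • (p.1 : hperp Q x y ≃ₗ[F] hperp Q x y) m : hperp Q x y) : V))
        = ψ (polar Q (m' : V) (m : V))) ∧ FSGood w T) :
    FSGood w X := by
  have := finite_equiv F V
  have := finite_equiv F (hperp Q x y)
  let φ : Y₀ →* (V ≃ₗ[F] V) :=
    ((lev h).comp ((O (res Q (hperp Q x y))).subtype.prodMap (MonoidHom.id Fˣ))).comp Y₀.subtype
  have hφ : ∀ p : Y₀, φ p = lev h (p.1.1, p.1.2) := fun p => rfl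
  have hφO : ∀ p, φ p ∈ O Q := fun p => (lev_mem_O h).2 p.1.1.2
  have hact : ∀ (p : Y₀) m, φ p * sg h m * (φ p)⁻¹
      = sg h (p.1.2 • (p.1.1 : hperp Q x y ≃ₗ[F] hperp Q x y) m) := fun p m =>
    lev_sg h (p := (p.1.1, p.1.2)) p.1.1.2 m
  refine good_semidirect X (sgSub h S) ?_ ?_ ?_ φ ?_ ?_ ?_ ?_
  · rintro _ ⟨m, hm, rfl⟩
    exact (hX _).2 ⟨m, hm, 1, one_mem _, by
      have : lev h ((1 : O (res Q (hperp Q x y)) × Fˣ).1, (1 : O (res Q (hperp Q x y)) × Fˣ).2)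
        = 1 := map_one (lev h)
      rw [this, mul_one]⟩
  · rintro g hg _ ⟨m, hm, rfl⟩
    obtain ⟨m₀, hm₀, p, hp, rfl⟩ := (hX g).1 hg
    have h5 := hact ⟨p, hp⟩ m
    rw [hφ] at h5
    refine ⟨p.2 • (p.1 : hperp Q x y ≃ₗ[F] hperp Q x y) m, hS p hp m hm, ?_⟩
    have h6 : sg h m₀ * lev h (p.1, p.2) * sg h m * (sg h m₀ * lev h (p.1, p.2))⁻¹
        = sg h m₀ * (lev h (p.1, p.2) * sg h m * (lev h (p.1, p.2))⁻¹) * (sg h m₀)⁻¹ := by group
    change lev h (p.1, p.2) * sg h m * (lev h (p.1, p.2))⁻¹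
      = sg h (p.2 • (p.1 : hperp Q x y ≃ₗ[F] hperp Q x y) m) at h5
    rw [h6, h5, ← sg_add, mul_inv_eq_iff_eq_mul, ← sg_add, add_comm]
  · rintro _ ⟨m, -, rfl⟩
    exact sg_mul_self h m
  · intro p
    exact (hX _).2 ⟨0, zero_mem _, p.1, p.2, by rw [sg_zero, one_mul, hφ]⟩
  · rintro p ⟨m, -, hm⟩
    have h6 : φ p x = x := by rw [hm, sg_x]
    have h7 : p.1.2 = 1 := by
      have h8 : (p.1.2 : F) • x = (1 : F) • x := by
        rw [one_smul]
        exact (lev_x h _).symm.trans h6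
      exact Units.ext (smul_left_injective F h.left_ne h8)
    have h9 : φ p y = y := by
      have : φ p y = p.1.2⁻¹ • y := lev_y h _
      rw [this, h7, inv_one, one_smul]
    have h10 : sg h m = 1 := by
      have h11 : sg h m y = y := by rw [← hm, h9]
      rw [sg_y] at h11
      have h12 : hypEquiv h (m, -Q (m : V), 1) = hypEquiv h (0, 0, 1) := by
        rw [hypEquiv_apply, hypEquiv_apply]
        simp only [neg_smul, one_smul, ← sub_eq_add_neg, zero_smul, add_zero,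
          Submodule.coe_zero, zero_add]
        exact h11
      have h13 : m = 0 := congrArg Prod.fst ((hypEquiv h).injective h12)
      rw [h13, sg_zero]
    have h14 : lev h (p.1.1, p.1.2) = 1 := by rw [← hφ, hm, h10]
    have h15 := (injective_iff_map_eq_one (lev h)).1 (lev_injective h) _ h14
    exact Subtype.ext (Prod.ext (Subtype.ext (congrArg Prod.fst h15)) h7)
  · intro g hg
    obtain ⟨m, hm, p, hp, h5⟩ := (hX g).1 hg
    exact ⟨sg h m, ⟨m, hm, rfl⟩, ⟨p, hp⟩, h5⟩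
  · intro lam hl1 hl2
    obtain ⟨m', hm'⟩ := exists_lam h hQ hψ S lam hl1 hl2
    obtain ⟨T, hT, hTg⟩ := H m'
    have hTY : T ≤ Y₀ := fun p hp => ((hT p).1 hp).1
    refine ⟨T.subgroupOf Y₀, fun p => ?_, hTg.of_equiv (Subgroup.subgroupOfEquivOfLe hTY).symm⟩
    rw [Subgroup.mem_subgroupOf, hT]
    constructor
    · rintro ⟨-, h6⟩ _ ⟨m, hm, rfl⟩
      rw [hact, hm' _ (hS _ p.2 m hm), hm' _ hm]
      exact h6 m hm
    · intro h6
      refine ⟨p.2, fun m hm => ?_⟩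
      have h7 := h6 (sg h m) ⟨m, hm, rfl⟩
      rw [hact, hm' _ (hS _ p.2 m hm), hm' _ hm] at h7
      exact h7

/-! ### singular vectors -/

theorem T1_step (n : ℕ) (h0 : T0.{u} n) (h1 : T1.{u} n) (h2 : T2.{u} n) : T1.{u} (n + 1) := by
  intro F V _ _ _ _ _ _ Q hQ hd x hx0 hx
  have := finite_equiv F V
  obtain ⟨y, h⟩ := exists_hyp hQ hx hx0
  have hM : Nondeg (res Q (hperp Q x y)) := nondeg_hperp hQ h
  have hdM : finrank F (hperp Q x y) = 2 * n := by
    have := finrank_hperp h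
    omega
  have := finite_equiv F (hperp Q x y)
  obtain ⟨ψ, hψ⟩ := exists_psi F
  refine good_sg hQ h (fixV Q x) ⊤ ((⊤ : Subgroup (O (res Q (hperp Q x y)))).prod ⊥) ?_ ?_ hψ ?_
  · intro g
    constructor
    · rintro ⟨hg, hgx⟩
      obtain ⟨m, k, hk, h5⟩ := exists_sg_lev h hg (β := 1) (by rw [one_smul, hgx])
      exact ⟨m, AddSubgroup.mem_top _, (⟨k, hk⟩, 1), ⟨Subgroup.mem_top _, rfl⟩, h5⟩
    · rintro ⟨m, -, p, ⟨-, hp⟩, rfl⟩
      have hp' : p.2 = 1 := hp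
      refine ⟨mul_mem (sg_mem_O h m) ((lev_mem_O h).2 p.1.2), ?_⟩
      rw [LinearEquiv.mul_apply, lev_x, hp', one_smul, sg_x]
  · intro p _ m _
    exact AddSubgroup.mem_top _
  · intro m'
    have hmul : ∀ {p q : O (res Q (hperp Q x y)) × Fˣ},
        p ∈ {p : O (res Q (hperp Q x y)) × Fˣ |
          p.2 = 1 ∧ (p.1 : hperp Q x y ≃ₗ[F] hperp Q x y) m' = m'} →
        q ∈ {p : O (res Q (hperp Q x y)) × Fˣ |
          p.2 = 1 ∧ (p.1 : hperp Q x y ≃ₗ[F] hperp Q x y) m' = m'} →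
        p * q ∈ {p : O (res Q (hperp Q x y)) × Fˣ |
          p.2 = 1 ∧ (p.1 : hperp Q x y ≃ₗ[F] hperp Q x y) m' = m'} := by
      rintro p q ⟨hp1, hp2⟩ ⟨hq1, hq2⟩
      refine ⟨by rw [Prod.snd_mul, hp1, hq1, one_mul], ?_⟩
      change (p.1 : hperp Q x y ≃ₗ[F] hperp Q x y) ((q.1 : hperp Q x y ≃ₗ[F] hperp Q x y) m') = m'
      rw [hq2, hp2]
    have hinv : ∀ {p : O (res Q (hperp Q x y)) × Fˣ},
        p ∈ {p : O (res Q (hperp Q x y)) × Fˣ |
          p.2 = 1 ∧ (p.1 : hperp Q x y ≃ₗ[F] hperp Q x y) m' = m'} →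
        p⁻¹ ∈ {p : O (res Q (hperp Q x y)) × Fˣ |
          p.2 = 1 ∧ (p.1 : hperp Q x y ≃ₗ[F] hperp Q x y) m' = m'} := by
      rintro p ⟨hp1, hp2⟩
      refine ⟨by rw [Prod.snd_inv, hp1, inv_one], ?_⟩
      change (p.1 : hperp Q x y ≃ₗ[F] hperp Q x y).symm m' = m'
      rw [LinearEquiv.symm_apply_eq, hp2]
    refine ⟨{ carrier := {p | p.2 = 1 ∧ (p.1 : hperp Q x y ≃ₗ[F] hperp Q x y) m' = m'}
              mul_mem' := hmul, one_mem' := ⟨rfl, rfl⟩, inv_mem' := hinv }, ?_, ?_⟩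
    · intro p
      constructor
      · rintro ⟨hp1, hp2⟩
        refine ⟨⟨Subgroup.mem_top _, hp1⟩, fun m _ => ?_⟩
        have h6 : polar (res Q (hperp Q x y)) ((p.1 : _ ≃ₗ[F] _) m') ((p.1 : _ ≃ₗ[F] _) m)
          = polar (res Q (hperp Q x y)) m' m := polar_map p.1.2 m' m
        rw [hp2] at h6
        rw [hp1, one_smul]
        exact congrArg ψ h6
      · rintro ⟨⟨-, hp1⟩, h5⟩
        have hp1' : p.2 = 1 := hp1
        refine ⟨hp1', ?_⟩
        have h6 : ∀ m : hperp Q x y, ψ (polar (res Q (hperp Q x y)) m'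
            (((p.1 : hperp Q x y ≃ₗ[F] hperp Q x y) :
              hperp Q x y →ₗ[F] hperp Q x y) m)) = ψ (polar (res Q (hperp Q x y)) m' m) := by
          intro m
          have h7 := h5 m (AddSubgroup.mem_top _)
          rw [hp1', one_smul] at h7
          exact h7
        have h7 := polar_eq_of_psi (res Q (hperp Q x y)) hψ _ h6
        rw [← sub_eq_zero]
        refine hM _ fun z => ?_
        obtain ⟨m, rfl⟩ := (p.1 : hperp Q x y ≃ₗ[F] hperp Q x y).surjective z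
        rw [sub_eq_add_neg, polar_add_left, polar_neg_left]
        have h8 : polar (res Q (hperp Q x y)) ((p.1 : _ ≃ₗ[F] _) m') ((p.1 : _ ≃ₗ[F] _) m)
            = polar (res Q (hperp Q x y)) m' m := polar_map p.1.2 m' m
        have h9 : polar (res Q (hperp Q x y)) m' ((p.1 : _ ≃ₗ[F] _) m)
            = polar (res Q (hperp Q x y)) m' m := h7 m
        rw [h8, h9]
        exact add_neg_cancel _
    · -- the stabiliser
      have hgood : FSGood False (fixV (res Q (hperp Q x y)) m') := by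
        by_cases hm0 : m' = 0
        · have h5 : fixV (res Q (hperp Q x y)) m' = O (res Q (hperp Q x y)) := by
            ext g
            exact ⟨fun hg => hg.1, fun hg => ⟨hg, by rw [hm0, map_zero]⟩⟩
          rw [h5]
          exact h0 F _ _ hM hdM
        · by_cases hm1 : res Q (hperp Q x y) m' = 0
          · exact h1 F _ _ hM hdM m' hm0 hm1
          · exact h2 F _ _ hM hdM m' hm1
      have := finite_equiv F V
      let T : Subgroup (O (res Q (hperp Q x y)) × Fˣ) :=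
        { carrier := {p | p.2 = 1 ∧ (p.1 : hperp Q x y ≃ₗ[F] hperp Q x y) m' = m'}
          mul_mem' := hmul, one_mem' := ⟨rfl, rfl⟩, inv_mem' := hinv }
      let f : fixV (res Q (hperp Q x y)) m' →* T :=
        { toFun := fun g => ⟨(⟨g.1, g.2.1⟩, 1), rfl, g.2.2⟩
          map_one' := rfl
          map_mul' := fun a b => Subtype.ext (Prod.ext rfl (one_mul (1 : Fˣ)).symm) }
      refine hgood.of_surjective f ?_
      rintro ⟨⟨g, β⟩, hβ, hg⟩
      have hβ' : β = 1 := hβ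
      subst hβ'
      exact ⟨⟨g.1, g.2, hg⟩, rfl⟩

end Cfsg.Agent.H955.FS
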