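import Cfsg.Agent.H955.FSZero

/-!
# The induction step for the full orthogonal groups: the covering subgroups
-/

set_option autoImplicit false

universe u

namespace Cfsg.Agent.H955.FS

open Module QuadraticMap Cfsg.Agent.LieClassical.OrthCore Cfsg.Agent.LieClassical.OrthTrans
open Cfsg.Agent.H955

section

variable {F V : Type u} [Field F] [AddCommGroup V] [Module F V] {Q : QuadraticForm F V}

/-- `c + c⁻¹` -/
def xc (c : V ≃ₗ[F] V) : Module.End F V := (c : V →ₗ[F] V) + ((c⁻¹ : V ≃ₗ[F] V) : V →ₗ[F] V)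

theorem xc_apply (c : V ≃ₗ[F] V) (v : V) : xc c v = c v + c⁻¹ v := rfl

theorem xc_self {c : V ≃ₗ[F] V} (hc : c ∈ O Q) (v w : V) :
    polar Q (xc c v) w = polar Q v (xc c w) := by
  have h1 : polar Q (c v) w = polar Q v (c⁻¹ w) := by
    have := polar_map (inv_mem hc) (c v) w
    have e : c⁻¹ (c v) = v := c.symm_apply_apply v
    rw [e] at this
    exact this.symm
  have h2 : polar Q (c⁻¹ v) w = polar Q v (c w) := by
    have := polar_map hc (c⁻¹ v) w
    have e : c (c⁻¹ v) = v := c.apply_symm_apply v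
    rw [e] at this
    exact this.symm
  rw [xc_apply, xc_apply, polar_add_left, polar_add_right, h1, h2, add_comm]

theorem xc_alt [CharP F 2] {c : V ≃ₗ[F] V} (hc : c ∈ O Q) (v : V) : polar Q (xc c v) v = 0 := by
  have h2 : polar Q (c⁻¹ v) v = polar Q (c v) v := by
    have := polar_map hc (c⁻¹ v) v
    have e : c (c⁻¹ v) = v := c.apply_symm_apply v
    rw [e] at this
    rw [← this, polar_comm]
  rw [xc_apply, polar_add_left, h2]
  exact CharTwo.add_self_eq_zero _

theorem xc_comm {c g : V ≃ₗ[F] V} (h : g * c * g⁻¹ = c ∨ g * c * g⁻¹ = c⁻¹) (v : V) :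
    g (xc c v) = xc c (g v) := by
  rw [xc_apply, xc_apply, map_add]
  rcases h with h | h
  · have h1 : g * c = c * g := by rw [← mul_inv_eq_iff_eq_mul]; exact h
    have h2 : g * c⁻¹ = c⁻¹ * g := by
      have : Commute g c := h1
      exact this.inv_right
    have e1 : g (c v) = c (g v) := congrArg (fun t : V ≃ₗ[F] V => t v) h1
    have e2 : g (c⁻¹ v) = c⁻¹ (g v) := congrArg (fun t : V ≃ₗ[F] V => t v) h2
    rw [e1, e2]
  · have h1 : g * c = c⁻¹ * g := by rw [← mul_inv_eq_iff_eq_mul]; exact h
    have h2 : g * c⁻¹ = c * g := by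
      rw [mul_inv_eq_iff_eq_mul, mul_assoc, h1, mul_inv_cancel_left]
    have e1 : g (c v) = c⁻¹ (g v) := congrArg (fun t : V ≃ₗ[F] V => t v) h1
    have e2 : g (c⁻¹ v) = c (g v) := congrArg (fun t : V ≃ₗ[F] V => t v) h2
    rw [e1, e2, add_comm]

/-- membership in `planeK` -/
theorem mem_planeK_of {N : Type u} [AddCommGroup N] [Module F N] [FiniteDimensional F N]
    {κ : QuadraticForm F N} {ι : N →ₗ[F] V} (hι : Function.Injective ι) {g : V ≃ₗ[F] V}
    (hg : g ∈ O Q) (D : N →ₗ[F] N) (hD : ∀ p, g (ι p) = ι (D p)) (hκ : ∀ p, κ (D p) = κ p) :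
    g ∈ planeK Q κ ι := by
  have hinj : Function.Injective D := by
    intro p q hpq
    apply hι
    apply g.injective
    rw [hD, hD, hpq]
  exact ⟨hg, LinearEquiv.ofInjectiveEndo D hinj, fun p => hκ p, fun p => hD p⟩

theorem eq_one_of_sq_odd {G : Type*} [Group G] {c : G} (hodd : Odd (orderOf c))
    (h : c * c = 1) : c = 1 := by
  have h1 : orderOf c ∣ 2 := orderOf_dvd_of_pow_eq_one (by rw [pow_two]; exact h)
  rcases (Nat.dvd_prime Nat.prime_two).1 h1 with h2 | h2
  · exact orderOf_eq_one_iff.1 h2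
  · rw [h2] at hodd
    exact absurd hodd (by decide)

end

/-- the covering subgroup for `K = ⟨c⟩ P` -/
theorem zero_cover {n : ℕ} (hn : 2 ≤ n) (ih : ∀ m < n, T0.{u} m) (h1 : T1.{u} n) (h2 : T2.{u} n)
    (h3 : T3.{u} n) (h4 : T4.{u} n)
    (hred : ∀ (F V : Type u) [Field F] [Finite F] [CharP F 2] [AddCommGroup V] [Module F V]
      [FiniteDimensional F V] {Q : QuadraticForm F V} (_ : Nondeg Q) {c : V ≃ₗ[F] V}
      (_ : c ∈ O Q) (_ : Odd (orderOf c)) (_ : 0 < finrank F V)
      (_ : ¬ Irreducible (minpoly F (xc c))),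
      ∃ U : Submodule F V, Nondeg (res Q U) ∧ U ≠ ⊥ ∧ U ≠ ⊤ ∧ ∀ g ∈ O Q,
        (∀ v, g (xc c v) = xc c (g v)) → ∀ w ∈ U, g w ∈ U)
    {F V : Type u} [Field F] [Finite F] [CharP F 2] [AddCommGroup V] [Module F V]
    [FiniteDimensional F V] {Q : QuadraticForm F V} (hQ : Nondeg Q) (hd : finrank F V = 2 * n)
    {c : V ≃ₗ[F] V} (hc : c ∈ O Q) (hodd : Odd (orderOf c)) {P : Subgroup (V ≃ₗ[F] V)}
    (hPO : P ≤ O Q) (hP : IsPGroup 2 P)
    (hcP : ∀ g ∈ P, g * c * g⁻¹ = c ∨ g * c * g⁻¹ = c⁻¹) :
    ∃ Y : Subgroup (V ≃ₗ[F] V), Y ≤ O Q ∧ c ∈ Y ∧ P ≤ Y ∧ FSGood True Y ∧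
      (FSGood False Y ∨ ∃ τ : F, τ ≠ 0 ∧ (∀ v, c v + c⁻¹ v = τ • v) ∧
        ∃ lam : F, lam * lam + τ * lam + 1 = 0) := by
  classical
  have := finite_equiv F V
  have two : (2 : F) = 0 := CharTwo.two_eq_zero
  have hcc : c * c * c⁻¹ = c ∨ c * c * c⁻¹ = c⁻¹ := Or.inl (mul_inv_cancel_right c c)
  suffices H : (∃ Y : Subgroup (V ≃ₗ[F] V), Y ≤ O Q ∧ c ∈ Y ∧ P ≤ Y ∧ FSGood False Y) ∨
      (∃ Y : Subgroup (V ≃ₗ[F] V), Y ≤ O Q ∧ c ∈ Y ∧ P ≤ Y ∧ FSGood True Y ∧
      ∃ τ : F, τ ≠ 0 ∧ (∀ v, c v + c⁻¹ v = τ • v) ∧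
        ∃ lam : F, lam * lam + τ * lam + 1 = 0) by
    rcases H with ⟨Y, hY1, hY2, hY3, hY4⟩ | ⟨Y, hY1, hY2, hY3, hY4, hY5⟩
    · exact ⟨Y, hY1, hY2, hY3, hY4.mono (fun h => h.elim), Or.inl hY4⟩
    · exact ⟨Y, hY1, hY2, hY3, hY4, Or.inr hY5⟩
  by_cases hirr : Irreducible (minpoly F (xc c))
  swap
  · -- decomposable
    left
    obtain ⟨U, hU, hU0, hU1, hUg⟩ := hred F V hQ hc hodd (by omega) hirr
    obtain ⟨Y, hYO, hYmem, hYg⟩ := good_stab hQ hd ih hU hU0 hU1
    exact ⟨Y, hYO, hYmem c hc (hUg c hc (xc_comm hcc)),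
      fun g hg => hYmem g (hPO hg) (hUg g (hPO hg) (xc_comm (hcP g hg))), hYg⟩
  by_cases hdeg : 2 ≤ (minpoly F (xc c)).natDegree
  · -- a proper extension field
    left
    obtain ⟨E, iE1, iE2, iE3, iE4, iE5, QE, f, hQE, hdim, hev, hf, hrange⟩ :=
      exists_extension Q hQ (xc c) (xc_self hc) (xc_alt hc) hirr
    obtain ⟨m, hm⟩ := hev.exists_two_nsmul
    rw [smul_eq_mul] at hm
    have hmn : m < n := by
      rw [hm, hd] at hdim
      have h5 : m * (minpoly F (xc c)).natDegree = n := by
        have : 2 * (m * (minpoly F (xc c)).natDegree) = 2 * n := by rw [← hdim]; ring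
        omega
      have hmpos : 0 < m := by
        rw [Nat.pos_iff_ne_zero]
        intro h0
        rw [h0, zero_mul] at h5
        omega
      calc m < m * 2 := by omega
        _ ≤ m * (minpoly F (xc c)).natDegree := Nat.mul_le_mul_left m hdeg
        _ = n := h5
    have hgood : FSGood False (O QE) := ih m hmn E V QE hQE hm
    have : Finite (O QE) := by
      have := finite_equiv E V
      infer_instance
    refine ⟨f.range, fun g hg => ((hrange g).1 hg).1, (hrange c).2 ⟨hc, xc_comm hcc⟩,
      fun g hg => (hrange g).2 ⟨hPO hg, xc_comm (hcP g hg)⟩,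
      hgood.of_surjective f.rangeRestrict f.rangeRestrict_surjective⟩
  -- `c + c⁻¹` is a scalar
  have hdeg1 : (minpoly F (xc c)).natDegree = 1 := by
    have := hirr.natDegree_pos
    omega
  obtain ⟨τ, hτ⟩ : ∃ τ : F, ∀ v, c v + c⁻¹ v = τ • v := by
    have hint : IsIntegral F (xc c) := Algebra.IsIntegral.isIntegral _
    have hmonic := minpoly.monic hint
    have h5 := hmonic.eq_X_add_C hdeg1
    have h6 := minpoly.aeval F (xc c)
    rw [h5] at h6
    simp only [map_add, Polynomial.aeval_X, Polynomial.aeval_C] at h6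
    refine ⟨-(minpoly F (xc c)).coeff 0, fun v => ?_⟩
    have h7 := LinearMap.congr_fun h6 v
    rw [LinearMap.add_apply, LinearMap.zero_apply, Module.algebraMap_end_apply, xc_apply] at h7
    rw [neg_smul]
    exact eq_neg_of_add_eq_zero_left h7
  obtain ⟨w, hw0, hwP⟩ := exists_fixed (by omega : 0 < finrank F V) P hP
  by_cases hcw : c w = w
  · -- a common fixed vector
    left
    refine ⟨fixV Q w, fun g hg => hg.1, ⟨hc, hcw⟩, fun g hg => ⟨hPO hg, hwP g hg⟩, ?_⟩
    by_cases hQw : Q w = 0
    · exact h1 F V Q hQ hd w hw0 hQw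
    · exact h2 F V Q hQ hd w hQw
  have hτ0 : τ ≠ 0 := by
    intro h0
    apply hcw
    have h5 : ∀ v, c v = c⁻¹ v := by
      intro v
      have h6 := hτ v
      rw [h0, zero_smul] at h6
      rw [eq_neg_of_add_eq_zero_left h6, neg_eq_self' (F := F)]
    have h6 : c * c = 1 := by
      ext v
      change c (c v) = v
      rw [h5 (c v)]
      exact c.symm_apply_apply v
    rw [eq_one_of_sq_odd hodd h6]
    rfl
  -- the plane `⟨w, c w⟩`
  have hcinv : ∀ v, c⁻¹ v = τ • v + c v := by
    intro v
    rw [← hτ v, add_comm (c v), add_assoc, char_two_self (F := F), add_zero]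
  have hc2 : ∀ v, c (c v) = τ • c v + v := by
    intro v
    have h5 := hcinv (c v)
    have h6 : c⁻¹ (c v) = v := c.symm_apply_apply v
    rw [h6] at h5
    calc c (c v) = τ • c v + (τ • c v + c (c v)) := by
          rw [← add_assoc, char_two_self (F := F), zero_add]
      _ = τ • c v + v := by rw [← h5]
  have hpol : polar Q w (c w) = τ * Q w := by
    have h5 : Q (c w + c⁻¹ w) = τ * τ * Q w := by
      rw [hτ, QuadraticMap.map_smul, smul_eq_mul]
    rw [Q_add, hc w, (inv_mem hc : c⁻¹ ∈ O Q) w, hcinv, polar_add_right, polar_smul_right,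
      polar_self', hc w, two, zero_mul, add_zero, smul_eq_mul, polar_comm Q (c w) w] at h5
    have h6 : τ * polar Q w (c w) = τ * (τ * Q w) := by
      linear_combination h5 - (Q w) * two
    exact mul_left_cancel₀ hτ0 h6
  by_cases hQw : Q w = 0
  · by_cases hline : ∃ lam : F, c w = lam • w
    · -- a common eigenvector
      right
      obtain ⟨lam, hlam⟩ := hline
      have hlam0 : lam ≠ 0 := by
        intro h0
        rw [h0, zero_smul] at hlam
        exact hw0 (c.map_eq_zero_iff.1 hlam)
      refine ⟨lineV Q w, fun g hg => hg.1, ⟨hc, Units.mk0 lam hlam0, hlam⟩,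
        fun g hg => ⟨hPO hg, 1, by rw [one_smul, hwP g hg]⟩, h3 F V Q hQ hd w hw0 hQw,
        τ, hτ0, hτ, lam, ?_⟩
      have h5 := hc2 w
      rw [hlam, map_smul, hlam, smul_smul, smul_smul] at h5
      have h6 : (lam * lam + τ * lam + 1) • w = 0 := by
        rw [add_smul, add_smul, one_smul, h5]
        have h7 : (τ * lam) • w + w + (τ * lam) • w + w
            = ((τ * lam) • w + (τ * lam) • w) + (w + w) := by abel
        rw [h7, char_two_self (F := F), char_two_self (F := F), add_zero]
      exact (smul_eq_zero.1 h6).resolve_right hw0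
    · -- a totally singular plane
      let ι : F × F →ₗ[F] V :=
        (LinearMap.toSpanSingleton F V w).comp (LinearMap.fst F F F)
          + (LinearMap.toSpanSingleton F V (c w)).comp (LinearMap.snd F F F)
      have hι : ∀ p : F × F, ι p = p.1 • w + p.2 • c w := fun p => rfl
      have hinj : Function.Injective ι := by
        rw [injective_iff_map_eq_zero]
        rintro ⟨a, b⟩ hab
        rw [hι] at hab
        by_cases hb : b = 0
        · subst hb
          rw [zero_smul, add_zero] at hab
          exact Prod.ext ((smul_eq_zero.1 hab).resolve_right hw0) rfl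
        · exfalso
          apply hline
          refine ⟨-(b⁻¹ * a), ?_⟩
          have h5 : b • c w = -(a • w) := eq_neg_of_add_eq_zero_right hab
          calc c w = b⁻¹ • (b • c w) := by rw [smul_smul, inv_mul_cancel₀ hb, one_smul]
            _ = -(b⁻¹ * a) • w := by rw [h5, smul_neg, smul_smul, neg_smul]
      have hsing : ∀ p, Q (ι p) = 0 := by
        intro p
        rw [hι, Q_add, QuadraticMap.map_smul, QuadraticMap.map_smul, hc w, hQw,
          polar_smul_left, polar_smul_right, hpol, hQw]
        simp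
      have hgood := h4 F V Q hQ hd (F × F) (kap F τ) (nondeg_kap hτ0)
        (by rw [Module.finrank_prod, Module.finrank_self]) ι hinj hsing
      -- the three kinds of elements
      let Dc : F × F →ₗ[F] F × F :=
        { toFun := fun p => (p.2, p.1 + τ * p.2)
          map_add' := fun p q => Prod.ext rfl (by simp only [Prod.fst_add, Prod.snd_add]; ring)
          map_smul' := fun a p => Prod.ext rfl (by
            simp only [Prod.smul_fst, Prod.smul_snd, smul_eq_mul, RingHom.id_apply]; ring) }
      let Di : F × F →ₗ[F] F × F :=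
        { toFun := fun p => (p.1 + τ * p.2, p.2)
          map_add' := fun p q => Prod.ext (by simp only [Prod.fst_add, Prod.snd_add]; ring) rfl
          map_smul' := fun a p => Prod.ext (by
            simp only [Prod.smul_fst, Prod.smul_snd, smul_eq_mul, RingHom.id_apply]; ring) rfl }
      have hcmem : c ∈ planeK Q (kap F τ) ι := by
        refine mem_planeK_of hinj hc Dc (fun p => ?_) (fun p => ?_)
        · change c (ι p) = ι (p.2, p.1 + τ * p.2)
          rw [hι, hι, map_add, map_smul, map_smul, hc2]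
          change p.1 • c w + p.2 • (τ • c w + w) = p.2 • w + (p.1 + τ * p.2) • c w
          module
        · change kap F τ (p.2, p.1 + τ * p.2) = kap F τ p
          rw [kap_apply, kap_apply]
          simp only
          linear_combination (τ * τ * p.2 * p.2 + τ * p.1 * p.2) * two
      have hPmem : P ≤ planeK Q (kap F τ) ι := by
        intro g hg
        rcases hcP g hg with h5 | h5
        · refine mem_planeK_of hinj (hPO hg) LinearMap.id (fun p => ?_) (fun p => rfl)
          have h6 : g (c w) = c w := by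
            have h7 : g * c = c * g := by rw [← mul_inv_eq_iff_eq_mul]; exact h5
            have h8 : g (c w) = c (g w) := congrArg (fun t : V ≃ₗ[F] V => t w) h7
            rw [h8, hwP g hg]
          rw [LinearMap.id_apply, hι, map_add, map_smul, map_smul, h6, hwP g hg]
        · refine mem_planeK_of hinj (hPO hg) Di (fun p => ?_) (fun p => ?_)
          · have h6 : g (c w) = c⁻¹ w := by
              have h7 : g * c = c⁻¹ * g := by rw [← mul_inv_eq_iff_eq_mul]; exact h5
              have h8 : g (c w) = c⁻¹ (g w) := congrArg (fun t : V ≃ₗ[F] V => t w) h7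
              rw [h8, hwP g hg]
            change g (ι p) = ι (p.1 + τ * p.2, p.2)
            rw [hι, hι, map_add, map_smul, map_smul, h6, hwP g hg, hcinv]
            change p.1 • w + p.2 • (τ • w + c w) = (p.1 + τ * p.2) • w + p.2 • c w
            module
          · change kap F τ (p.1 + τ * p.2, p.2) = kap F τ p
            rw [kap_apply, kap_apply]
            simp only
            linear_combination (τ * τ * p.2 * p.2 + τ * p.1 * p.2) * two
      by_cases hiso : ∃ p : F × F, p ≠ 0 ∧ kap F τ p = 0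
      · right
        refine ⟨planeK Q (kap F τ) ι, fun g hg => hg.1, hcmem, hPmem,
          hgood.mono (fun _ => trivial), τ, hτ0, hτ, ?_⟩
        obtain ⟨p, hp0, hp⟩ := hiso
        rw [kap_apply] at hp
        have hp2 : p.2 ≠ 0 := by
          intro h0
          rw [h0] at hp
          simp only [mul_zero, add_zero] at hp
          exact hp0 (Prod.ext (mul_self_eq_zero.1 hp) h0)
        refine ⟨p.1 / p.2, ?_⟩
        field_simp
        linear_combination hp
      · left
        exact ⟨planeK Q (kap F τ) ι, fun g hg => hg.1, hcmem, hPmem, hgood.mono hiso⟩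
  · -- a nondegenerate plane
    left
    let U : Submodule F V := Submodule.span F {w, c w}
    have hmemU : ∀ v, v ∈ U ↔ ∃ a b : F, a • w + b • c w = v := fun v =>
      Submodule.mem_span_pair
    have hwU : w ∈ U := Submodule.subset_span (by simp)
    have hcwU : c w ∈ U := Submodule.subset_span (by simp)
    have hU : Nondeg (res Q U) := by
      rw [nondeg_res_iff]
      intro x hx hxy
      obtain ⟨a, b, rfl⟩ := (hmemU x).1 hx
      have hww : polar Q w w = 0 := by rw [polar_self', two, zero_mul]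
      have hcc' : polar Q (c w) (c w) = 0 := by rw [polar_self', two, zero_mul]
      have e1 := hxy w hwU
      have e2 := hxy (c w) hcwU
      rw [polar_add_left, polar_smul_left, polar_smul_left, hww, polar_comm Q (c w) w, hpol] at e1
      rw [polar_add_left, polar_smul_left, polar_smul_left, hcc', hpol] at e2
      simp only [smul_eq_mul, mul_zero, zero_add, add_zero] at e1 e2
      have hb : b = 0 := by
        rcases mul_eq_zero.1 e1 with h | h
        · exact h
        · exact absurd h (mul_ne_zero hτ0 hQw)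
      have ha : a = 0 := by
        rcases mul_eq_zero.1 e2 with h | h
        · exact h
        · exact absurd h (mul_ne_zero hτ0 hQw)
      rw [ha, hb, zero_smul, zero_smul, add_zero]
    have hU0 : U ≠ ⊥ := by
      intro h0
      rw [h0] at hwU
      exact hw0 ((Submodule.mem_bot F).1 hwU)
    have hU1 : U ≠ ⊤ := by
      intro h0
      have h5 : finrank F U ≤ 2 := by
        have h6 := finrank_span_finset_le_card (R := F) (M := V) ({w, c w} : Finset V)
        have h7 : (({w, c w} : Finset V)).card ≤ 2 := Finset.card_le_two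
        have h8 : U = Submodule.span F (({w, c w} : Finset V) : Set V) := by
          simp [U]
        rw [h8]
        exact h6.trans h7
      rw [h0, finrank_top, hd] at h5
      omega
    obtain ⟨Y, hYO, hYmem, hYg⟩ := good_stab hQ hd ih hU hU0 hU1
    refine ⟨Y, hYO, hYmem c hc ?_, fun g hg => hYmem g (hPO hg) ?_, hYg⟩
    · intro v hv
      obtain ⟨a, b, rfl⟩ := (hmemU v).1 hv
      rw [map_add, map_smul, map_smul, hc2]
      exact add_mem (Submodule.smul_mem _ _ hcwU) (Submodule.smul_mem _ _
        (add_mem (Submodule.smul_mem _ _ hcwU) hwU))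
    · intro v hv
      obtain ⟨a, b, rfl⟩ := (hmemU v).1 hv
      rw [map_add, map_smul, map_smul, hwP g hg]
      refine add_mem (Submodule.smul_mem _ _ hwU) (Submodule.smul_mem _ _ ?_)
      rcases hcP g hg with h5 | h5
      · have h7 : g * c = c * g := by rw [← mul_inv_eq_iff_eq_mul]; exact h5
        have h8 : g (c w) = c (g w) := congrArg (fun t : V ≃ₗ[F] V => t w) h7
        rw [h8, hwP g hg]
        exact hcwU
      · have h7 : g * c = c⁻¹ * g := by rw [← mul_inv_eq_iff_eq_mul]; exact h5
        have h8 : g (c w) = c⁻¹ (g w) := congrArg (fun t : V ≃ₗ[F] V => t w) h7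
        rw [h8, hwP g hg, hcinv]
        exact add_mem (Submodule.smul_mem _ _ hwU) hcwU

end Cfsg.Agent.H955.FS
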