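import Cfsg.Agent.H955.FSZero2
import Cfsg.Agent.H955.FSVec2
import Cfsg.Agent.H627.FSZero

/-!
# The induction step for the full orthogonal groups
-/

set_option autoImplicit false

universe u

namespace Cfsg.Agent.H955.FS

open Module QuadraticMap Cfsg.Agent.LieClassical.OrthCore Cfsg.Agent.LieClassical.OrthTrans
open Cfsg.Agent.H955

/-- groups of exponent two -/
theorem fsGood_of_sq {G : Type u} [Group G] [Finite G] (h : ∀ x : G, x * x = 1) :
    FSGood False G := by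
  have h1 : FSGood True G := (fsGood_of_compl (⊥ : Subgroup G)
    (by rw [Subgroup.card_bot]; exact odd_one) (fun x _ => h x)).mono (fun _ => trivial)
  refine h1.of_isConj_inv fun g => ?_
  rw [inv_eq_of_mul_eq_one_right (h g)]

theorem T0_zero : T0.{u} 0 := by
  intro F V _ _ _ _ _ _ Q _ hd
  have := finite_equiv F V
  have hV : Subsingleton V := Module.finrank_zero_iff.1 (by omega)
  refine fsGood_of_sq fun x => Subtype.ext ?_
  ext v
  exact Subsingleton.elim _ _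

theorem hred {F V : Type u} [Field F] [Finite F] [CharP F 2] [AddCommGroup V] [Module F V]
    [FiniteDimensional F V] {Q : QuadraticForm F V} (hQ : Nondeg Q) {c : V ≃ₗ[F] V}
    (hc : c ∈ O Q) (hodd : Odd (orderOf c)) (hpos : 0 < finrank F V)
    (hirr : ¬ Irreducible (minpoly F (xc c))) :
    ∃ U : Submodule F V, Nondeg (res Q U) ∧ U ≠ ⊥ ∧ U ≠ ⊤ ∧ ∀ g ∈ O Q,
      (∀ v, g (xc c v) = xc c (g v)) → ∀ w ∈ U, g w ∈ U := by
  have : Nontrivial V := Module.finrank_pos_iff.1 hpos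
  obtain ⟨U, U', hcomp, hU, hU', horth, hinv⟩ :=
    Cfsg.Agent.H627.FSZero.exists_split hodd (xc c) (fun v => rfl) hc hirr
  refine ⟨U, ?_, hU, ?_, fun g _ hg => (hinv g hg).1⟩
  · rw [nondeg_res_iff]
    intro x hx h
    refine hQ x fun y => ?_
    have hy : y ∈ U ⊔ U' := by rw [hcomp.sup_eq_top]; exact Submodule.mem_top
    obtain ⟨a, ha, b, hb, rfl⟩ := Submodule.mem_sup.1 hy
    rw [polar_add_right, h a ha, horth x hx b hb, add_zero]
  · intro h
    apply hU'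
    have h1 := hcomp.inf_eq_bot
    rw [h, top_inf_eq] at h1
    exact h1

theorem T0_step {n : ℕ} (hn : 2 ≤ n) (ih : ∀ m < n, T0.{u} m) (h1 : T1.{u} n) (h2 : T2.{u} n)
    (h3 : T3.{u} n) (h4 : T4.{u} n) : T0.{u} n := by
  intro F V _ _ _ _ _ _ Q hQ hd
  have := finite_equiv F V
  have key := fun {c : V ≃ₗ[F] V} (hc : c ∈ O Q) (hodd : Odd (orderOf c))
    {P : Subgroup (V ≃ₗ[F] V)} (hPO : P ≤ O Q) (hP : IsPGroup 2 P)
    (hcP : ∀ g ∈ P, g * c * g⁻¹ = c ∨ g * c * g⁻¹ = c⁻¹) =>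
    zero_cover hn ih h1 h2 h3 h4 (fun F V _ _ _ _ _ _ Q hQ c hc hodd hpos hirr =>
      hred hQ hc hodd hpos hirr) hQ hd hc hodd hPO hP hcP
  refine fsGood_of_inv (fsGood_of_cover_amb (O Q) fun c hc hodd P hPO hP hcP => ?_) ?_
  · obtain ⟨Y, hY1, hY2, hY3, hY4, -⟩ := key hc hodd hPO hP hcP
    exact ⟨Y, hY1, hY2, hY3, hY4⟩
  · intro g hg
    obtain ⟨c, p, hcp, hcomm, hodd, k, hk⟩ :=
      Cfsg.Agent.H592.FSPar.exists_decomp (⟨g, hg⟩ : O Q)
    have hg' : g = (c : V ≃ₗ[F] V) * (p : V ≃ₗ[F] V) := congrArg Subtype.val hcp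
    have hcomm' : (c : V ≃ₗ[F] V) * p = p * c := congrArg Subtype.val hcomm.eq
    have hk' : (p : V ≃ₗ[F] V) ^ 2 ^ k = 1 := congrArg Subtype.val hk
    have hP : IsPGroup 2 (Subgroup.zpowers (p : V ≃ₗ[F] V)) := by
      rintro ⟨x, j, rfl⟩
      refine ⟨k, Subtype.ext ?_⟩
      change ((p : V ≃ₗ[F] V) ^ j) ^ 2 ^ k = 1
      rw [← zpow_natCast, ← zpow_mul, mul_comm, zpow_mul, zpow_natCast, hk', one_zpow]
    obtain ⟨Y, hY1, hY2, hY3, hY4, hY5⟩ := key c.2 (by rwa [Subgroup.orderOf_coe])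
      ((Subgroup.zpowers_le).2 p.2) hP (by
        rintro _ ⟨j, rfl⟩
        left
        have h5 : Commute ((p : V ≃ₗ[F] V) ^ j) (c : V ≃ₗ[F] V) :=
          Commute.zpow_left (show Commute (p : V ≃ₗ[F] V) c from hcomm'.symm) j
        rw [h5.eq, mul_inv_cancel_right])
    have hpY : (p : V ≃ₗ[F] V) ∈ Y := hY3 (Subgroup.mem_zpowers _)
    have : Finite Y := inferInstance
    rcases hY5 with hY5 | ⟨τ, hτ, hx, lam, hlam⟩
    · obtain ⟨x, hx, hxg⟩ := hY5.exists_inv (g := g) (by rw [hg']; exact mul_mem hY2 hpY)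
      exact ⟨x, hY1 hx, hxg⟩
    · refine Cfsg.Agent.H627.FSZero.exists_inv_of_eigen hQ hg c.2 ?_ hτ hx hlam
      rw [hg', mul_assoc, ← hcomm']

theorem T1_zero : T1.{u} 0 := by
  intro F V _ _ _ _ _ _ Q _ hd v hv
  have hV : Subsingleton V := Module.finrank_zero_iff.1 (by omega)
  exact absurd (Subsingleton.elim v 0) hv

theorem T3_zero : T3.{u} 0 := by
  intro F V _ _ _ _ _ _ Q _ hd v hv
  have hV : Subsingleton V := Module.finrank_zero_iff.1 (by omega)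
  exact absurd (Subsingleton.elim v 0) hv

/-- the induction, given the three remaining steps -/
theorem all_of (hT2 : ∀ n, T5.{u} n → (∀ m < n, T0.{u} m) → T2.{u} n)
    (hT4 : ∀ n, (∀ m < n, T0.{u} m ∧ T1.{u} m ∧ T2.{u} m ∧ T3.{u} m ∧ T4.{u} m ∧ T5.{u} m) →
      T4.{u} n)
    (hT5 : ∀ n, (∀ m < n, T0.{u} m ∧ T2.{u} m ∧ T5.{u} m) → T5.{u} n) (n : ℕ) :
    T0.{u} n ∧ T1.{u} n ∧ T2.{u} n ∧ T3.{u} n ∧ T4.{u} n ∧ T5.{u} n := by
  induction n using Nat.strong_induction_on with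
  | _ n ih =>
  have h5 := hT5 n fun m hm => ⟨(ih m hm).1, (ih m hm).2.2.1, (ih m hm).2.2.2.2.2⟩
  have h4 := hT4 n ih
  have h2 := hT2 n h5 fun m hm => (ih m hm).1
  have h1 : T1.{u} n := by
    rcases n with - | m
    · exact T1_zero
    · have h := ih m (Nat.lt_succ_self m)
      exact T1_step m h.1 h.2.1 h.2.2.1
  have h3 : T3.{u} n := by
    rcases n with - | m
    · exact T3_zero
    · have h := ih m (Nat.lt_succ_self m)
      exact T3_step m h.1 h.2.2.1 h.2.2.2.1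
  refine ⟨?_, h1, h2, h3, h4, h5⟩
  by_cases hn : 2 ≤ n
  · exact T0_step hn (fun m hm => (ih m hm).1) h1 h2 h3 h4
  · have : n = 0 ∨ n = 1 := by omega
    rcases this with rfl | rfl
    · exact T0_zero
    · exact Cfsg.Agent.H627.FSZero.T0_one

end Cfsg.Agent.H955.FS
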