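import Mathlib
import Cfsg.Agent.H955.KForm
import Cfsg.Agent.H954.FieldSub
import Cfsg.Prelude.Def_GeometricClasses

/-!
# The normalizer of a field subalgebra: semilinear maps
-/

set_option autoImplicit false

namespace Cfsg.Agent.H955

open Module Cfsg.Agent.LieClassical.OrthFinite
open scoped Matrix

universe u v w

section Mat

variable {ι : Type} [Fintype ι] [DecidableEq ι] {F : Type u} [Field F] {L : Type w} [Field L]
  [Algebra F L]

/-- an element of the normalizer acts on the field. -/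
theorem exists_sigma [Nonempty ι] {φ : L →ₐ[F] Matrix ι ι F}
    {g : Matrix.GeneralLinearGroup ι F} (hg : g ∈ Cfsg.Geo.subalgebraNormalizer φ.range) :
    ∃ σ : L →ₐ[F] L, ∀ a, (g : Matrix ι ι F) * φ a = φ (σ a) * (g : Matrix ι ι F) := by
  have hgg : ((g⁻¹ : Matrix.GeneralLinearGroup ι F) : Matrix ι ι F) * (g : Matrix ι ι F) = 1 := by
    rw [← Units.val_mul, inv_mul_cancel]; rfl
  have hgg' : (g : Matrix ι ι F) * ((g⁻¹ : Matrix.GeneralLinearGroup ι F) : Matrix ι ι F) = 1 := by
    rw [← Units.val_mul, mul_inv_cancel]; rfl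
  have hinj : Function.Injective φ := φ.toRingHom.injective
  have h0 : ∀ a : L, ∃ b : L, φ b = (g : Matrix ι ι F) * φ a *
      ((g⁻¹ : Matrix.GeneralLinearGroup ι F) : Matrix ι ι F) := fun a =>
    (hg (φ a)).1 ⟨a, rfl⟩
  choose s hs using h0
  refine ⟨{ toFun := s
            map_one' := hinj (by rw [hs, map_one, mul_one, hgg'])
            map_mul' := fun a b => hinj (by
              rw [hs, map_mul, map_mul, hs, hs]
              calc (g : Matrix ι ι F) * (φ a * φ b) *
                    ((g⁻¹ : Matrix.GeneralLinearGroup ι F) : Matrix ι ι F) =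
                  (g : Matrix ι ι F) * φ a * 1 * φ b *
                    ((g⁻¹ : Matrix.GeneralLinearGroup ι F) : Matrix ι ι F) := by
                    rw [mul_one]; noncomm_ring
                _ = _ := by rw [← hgg]; noncomm_ring)
            map_zero' := hinj (by rw [hs, map_zero, mul_zero, zero_mul])
            map_add' := fun a b => hinj (by
              rw [hs, map_add, map_add, hs, hs, mul_add, add_mul])
            commutes' := fun c => hinj (by
              rw [hs, AlgHom.commutes, Algebra.algebraMap_eq_smul_one, mul_smul_comm, mul_one,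
                smul_mul_assoc, hgg']) }, fun a => ?_⟩
  change _ = φ (s a) * _
  rw [hs, mul_assoc, mul_assoc, hgg, mul_one]

theorem mem_normalizer_of_comm {φ : L →ₐ[F] Matrix ι ι F}
    {g : Matrix.GeneralLinearGroup ι F}
    (h : ∀ a, (g : Matrix ι ι F) * φ a = φ a * (g : Matrix ι ι F)) :
    g ∈ Cfsg.Geo.subalgebraNormalizer φ.range := by
  have hgg : ((g⁻¹ : Matrix.GeneralLinearGroup ι F) : Matrix ι ι F) * (g : Matrix ι ι F) = 1 := by
    rw [← Units.val_mul, inv_mul_cancel]; rfl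
  have hgg' : (g : Matrix ι ι F) * ((g⁻¹ : Matrix.GeneralLinearGroup ι F) : Matrix ι ι F) = 1 := by
    rw [← Units.val_mul, mul_inv_cancel]; rfl
  intro k
  constructor
  · rintro ⟨a, rfl⟩
    refine ⟨a, ?_⟩
    change φ a = (g : Matrix ι ι F) * φ a * _
    rw [h, mul_assoc, hgg', mul_one]
  · rintro ⟨a, ha⟩
    change φ a = _ at ha
    refine ⟨a, ?_⟩
    change φ a = k
    have h1 : φ a * (g : Matrix ι ι F) = (g : Matrix ι ι F) * k := by
      rw [ha, mul_assoc, hgg, mul_one]
    rw [← h] at h1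
    calc φ a = ((g⁻¹ : Matrix.GeneralLinearGroup ι F) : Matrix ι ι F) *
          ((g : Matrix ι ι F) * φ a) := by rw [← mul_assoc, hgg, one_mul]
      _ = k := by rw [h1, ← mul_assoc, hgg, one_mul]

end Mat

section Semi

variable {F : Type u} [Field F] {L : Type w} [Field L] [Algebra F L]
  {V : Type v} [AddCommGroup V] [Module F V] [Module L V] [IsScalarTower F L V]

/-- a properly semilinear map has a small fixed space. -/
theorem two_mul_finrank_fixS_le [FiniteDimensional F V] {σ : L →ₐ[F] L} {T : V ≃ₗ[F] V}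
    (h : ∀ (a : L) (v : V), T (a • v) = σ a • T v) {a : L} (ha : σ a ≠ a) :
    2 * finrank F (fixS T) ≤ finrank F V := by
  have ha0 : a ≠ 0 := by
    rintro rfl
    exact ha (map_zero σ)
  let m : V ≃ₗ[F] V := (LinearEquiv.smulOfUnit (R := L) (M := V) (Units.mk0 a ha0)).restrictScalars F
  have hm : ∀ v, m v = a • v := fun v => rfl
  have h1 : Disjoint (fixS T) ((fixS T).map (m : V →ₗ[F] V)) := by
    rw [Submodule.disjoint_def]
    rintro x hx ⟨v, hv, rfl⟩
    change m v ∈ fixS T at hx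
    change m v = 0
    rw [mem_fixS, hm, h, mem_fixS.1 hv] at hx
    have h3 : (σ a - a) • v = 0 := by rw [sub_smul, hx, sub_self]
    rw [hm, (smul_eq_zero.1 h3).resolve_left (sub_ne_zero.2 ha), smul_zero]
  have h3 := Submodule.finrank_sup_add_finrank_inf_eq (fixS T) ((fixS T).map (m : V →ₗ[F] V))
  rw [h1.eq_bot, finrank_bot, LinearEquiv.finrank_map_eq] at h3
  have h4 := Submodule.finrank_le (fixS T ⊔ (fixS T).map (m : V →ₗ[F] V))
  omega

omit [IsScalarTower F L V] in
theorem pow_semi {σ : L →ₐ[F] L} {T : V ≃ₗ[F] V}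
    (h : ∀ (a : L) (v : V), T (a • v) = σ a • T v) (n : ℕ) (a : L) (v : V) :
    (T ^ n) (a • v) = (σ ^ n) a • (T ^ n) v := by
  induction n generalizing a v with
  | zero => rfl
  | succ n ih => rw [pow_succ, pow_succ, LinearEquiv.mul_apply, h, ih]; rfl

omit [IsScalarTower F L V] in
theorem sigma_pow_eq_one [Nontrivial V] {σ : L →ₐ[F] L} {T : V ≃ₗ[F] V}
    (h : ∀ (a : L) (v : V), T (a • v) = σ a • T v) {n : ℕ} (hT : T ^ n = 1) : σ ^ n = 1 := by
  obtain ⟨v, hv⟩ := exists_ne (0 : V)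
  ext a
  have h1 := pow_semi h n a v
  rw [hT] at h1
  change a • v = (σ ^ n) a • v at h1
  have h2 : (a - (σ ^ n) a) • v = 0 := by rw [sub_smul, h1, sub_self]
  exact (sub_eq_zero.1 ((smul_eq_zero.1 h2).resolve_right hv)).symm

/-- a semilinear map of prime order `r` is linear or `r = k`. -/
theorem eq_of_sigma [Finite F] [FiniteDimensional F L] {k : ℕ} (hk : k.Prime)
    (hkL : finrank F L = k) {σ : L →ₐ[F] L} {r : ℕ} (hr : r.Prime) (hσ : σ ^ r = 1) {a : L}
    (ha : σ a ≠ a) : r = k := by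
  have : Finite L := Module.finite_of_finite F
  have : Fintype F := Fintype.ofFinite F
  let e := Algebra.IsAlgebraic.algEquivEquivAlgHom F L
  let s : L ≃ₐ[F] L := e.symm σ
  have hs : e s = σ := e.apply_symm_apply σ
  have h1 : s ^ r = 1 := by
    apply e.injective
    rw [map_pow, hs, hσ, map_one]
  have h2 : s ≠ 1 := by
    intro h
    apply ha
    rw [← hs, h, map_one]
    rfl
  have : Fact r.Prime := ⟨hr⟩
  have h3 : orderOf s = r := orderOf_eq_prime h1 h2
  have h4 : Nat.card (L ≃ₐ[F] L) = k := by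
    rw [IsGalois.card_aut_eq_finrank, hkL]
  have h5 : r ∣ k := by
    rw [← h3, ← h4]
    exact orderOf_dvd_natCard s
  exact (Nat.prime_dvd_prime_iff_eq hr hk).1 h5

omit [Algebra F L] [IsScalarTower F L V] in
/-- the commutator space of a linear map is `L`-stable. -/
theorem comS_stable {T : V ≃ₗ[F] V} (h : ∀ (a : L) (v : V), T (a • v) = a • T v) :
    ∀ (a : L), ∀ w ∈ comS T, a • w ∈ comS T := by
  intro a w hw
  obtain ⟨v, rfl⟩ := mem_comS.1 hw
  exact mem_comS.2 ⟨a • v, by rw [h, smul_sub]⟩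

end Semi

section Arith

theorem prod_split (f : ℕ → ℕ) {k : ℕ} (hk : 0 < k) (e : ℕ) :
    ∏ i ∈ Finset.range (k * e), f (i + 1) = (∏ i ∈ Finset.range e, f (k * (i + 1))) *
      ∏ i ∈ (Finset.range (k * e)).filter (fun i => ¬ k ∣ i + 1), f (i + 1) := by
  rw [← Finset.prod_filter_mul_prod_filter_not (Finset.range (k * e)) (fun i => k ∣ i + 1)]
  congr 1
  symm
  refine Finset.prod_bij (fun i _ => k * (i + 1) - 1) ?_ ?_ ?_ ?_
  · intro i hi
    rw [Finset.mem_range] at hi
    have h1 : k * (i + 1) ≤ k * e := Nat.mul_le_mul_left k hi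
    have h2 : 0 < k * (i + 1) := Nat.mul_pos hk (by omega)
    rw [Finset.mem_filter, Finset.mem_range]
    refine ⟨by omega, ?_⟩
    rw [Nat.sub_add_cancel (by omega)]
    exact Dvd.intro _ rfl
  · intro i _ j _ hij
    have h1 : 0 < k * (i + 1) := Nat.mul_pos hk (by omega)
    have h2 : 0 < k * (j + 1) := Nat.mul_pos hk (by omega)
    have h3 : k * (i + 1) = k * (j + 1) := by omega
    have := Nat.eq_of_mul_eq_mul_left hk h3
    omega
  · intro j hj
    rw [Finset.mem_filter, Finset.mem_range] at hj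
    obtain ⟨h1, c, hc⟩ := hj
    have hc0 : 0 < c := by
      rcases Nat.eq_zero_or_pos c with rfl | h
      · simp at hc
      · exact h
    refine ⟨c - 1, ?_, ?_⟩
    · rw [Finset.mem_range]
      have : k * c ≤ k * e := by omega
      have := Nat.le_of_mul_le_mul_left this hk
      omega
    · rw [Nat.sub_add_cancel hc0, ← hc]
      omega
  · intro i _
    have h1 : 0 < k * (i + 1) := Nat.mul_pos hk (by omega)
    rw [Nat.sub_add_cancel (by omega)]

/-- the index, from the orders of `Sp_{2ke}(q)` and `Sp_{2e}(q^k)`. -/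
theorem exists_of_dvd_sp {q k e r a : ℕ} (hq : 1 < q) (hk : 0 < k) [hrp : Fact r.Prime]
    (hr : ¬ r ∣ q) (hra : r ∣ a) (ha : a * ((q ^ k) ^ (e ^ 2) * ∏ i ∈ Finset.range e,
      ((q ^ k) ^ (2 * (i + 1)) - 1)) ∣
        q ^ ((k * e) ^ 2) * ∏ i ∈ Finset.range (k * e), (q ^ (2 * (i + 1)) - 1)) :
    ∃ j, 1 ≤ j ∧ j ≤ k * e ∧ ¬ k ∣ j ∧ r ∣ q ^ (2 * j) - 1 := by
  have h1 := prod_split (fun j => q ^ (2 * j) - 1) hk e
  have h2 : ∏ i ∈ Finset.range e, ((q ^ k) ^ (2 * (i + 1)) - 1) =
      ∏ i ∈ Finset.range e, (q ^ (2 * (k * (i + 1))) - 1) := by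
    refine Finset.prod_congr rfl fun i _ => ?_
    rw [← pow_mul]
    congr 2
    ring
  have hle : k * e ^ 2 ≤ (k * e) ^ 2 := by
    rw [mul_pow]
    exact Nat.mul_le_mul_right _ (Nat.le_self_pow (by norm_num) k)
  obtain ⟨s, hs⟩ := Nat.exists_eq_add_of_le hle
  have hpos : 0 < q ^ (k * e ^ 2) * ∏ i ∈ Finset.range e, (q ^ (2 * (k * (i + 1))) - 1) := by
    apply Nat.mul_pos (pow_pos (by omega) _)
    apply Finset.prod_pos
    intro i _
    have h3 : 1 < q ^ (2 * (k * (i + 1))) := Nat.one_lt_pow (by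
      have : 0 < k * (i + 1) := Nat.mul_pos hk (by omega)
      omega) hq
    omega
  have h4 : a ∣ q ^ s * ∏ i ∈ (Finset.range (k * e)).filter (fun i => ¬ k ∣ i + 1),
      (q ^ (2 * (i + 1)) - 1) := by
    rw [h1, hs, pow_add, h2, ← pow_mul] at ha
    refine Nat.dvd_of_mul_dvd_mul_right hpos (ha.trans (dvd_of_eq ?_))
    ring
  have h5 := hra.trans h4
  rcases (Nat.Prime.dvd_mul hrp.out).1 h5 with h6 | h6
  · exact absurd (hrp.out.dvd_of_dvd_pow h6) hr
  · obtain ⟨i, hi, h7⟩ := (Prime.dvd_finsetProd_iff hrp.out.prime _).1 h6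
    rw [Finset.mem_filter, Finset.mem_range] at hi
    exact ⟨i + 1, by omega, by omega, hi.2, h7⟩

/-- for `r` odd, `c` divides `r - 1`. -/
theorem cc_dvd_sub_one {q r : ℕ} [hrp : Fact r.Prime] (h2 : 2 < r) (hr : ¬ r ∣ q) :
    cc q r ∣ r - 1 := by
  have hodd : Odd r := hrp.out.odd_of_ne_two (by omega)
  obtain ⟨m, hm⟩ := hodd
  rw [cc_dvd_iff ⟨m, by omega⟩]
  exact orderOf_dvd_sub_one hr

end Arith

end Cfsg.Agent.H955
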