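import Mathlib
import Cfsg.Agent.H955.QM3

/-!
# The index of the normalizer of a quadratic extension in `Ω`
-/

set_option autoImplicit false

namespace Cfsg.Agent.H955

open Module QuadraticMap Cfsg.Agent.LieClassical.OrthCore Cfsg.Agent.LieClassical.OrthTrans
open Cfsg.Agent.LieClassical.OrthFinite

universe u v w

section Grp

variable {G : Type*} [Group G]

theorem relIndex_dvd_index_normal [Finite G] (C E : Subgroup G) [E.Normal] :
    C.relIndex E ∣ C.index := by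
  obtain ⟨k, hk⟩ := Subgroup.relIndex_dvd_index_of_normal E C
  have h1 := Subgroup.relIndex_mul_index (inf_le_left : C ⊓ E ≤ C)
  have h2 := Subgroup.relIndex_mul_index (inf_le_right : C ⊓ E ≤ E)
  rw [Subgroup.inf_relIndex_left] at h1
  rw [Subgroup.inf_relIndex_right] at h2
  have h3 : 0 < E.relIndex C := Nat.pos_of_ne_zero Subgroup.index_ne_zero_of_finite
  refine ⟨k, ?_⟩
  apply Nat.eq_of_mul_eq_mul_left h3
  rw [h1, ← h2, hk]
  ring

theorem relIndex_mul_card_dvd [Finite G] {C E O N : Subgroup G} (hC : C ≤ O) (hE : E ≤ O)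
    (hn : ∀ g ∈ O, ∀ e ∈ E, g * e * g⁻¹ ∈ E) (hN : C ≤ N) :
    N.relIndex E * Nat.card C ∣ Nat.card O := by
  have : (E.subgroupOf O).Normal := ⟨fun e he g => hn g.1 g.2 e.1 he⟩
  have h1 := relIndex_dvd_index_normal (C.subgroupOf O) (E.subgroupOf O)
  rw [Subgroup.relIndex_subgroupOf hE] at h1
  have h2 := (Subgroup.relIndex_dvd_of_le_left E hN).trans h1
  have h3 := Subgroup.card_mul_index (C.subgroupOf O)
  have h4 : Nat.card (C.subgroupOf O) = Nat.card C :=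
    Nat.card_congr (Subgroup.subgroupOfEquivOfLe hC).toEquiv
  rw [← h3, h4, mul_comm]
  exact Nat.mul_dvd_mul_left _ h2

end Grp

section Arith

theorem prod_two (q e : ℕ) : ∏ i ∈ Finset.range (2 * e), (q ^ (2 * (i + 1)) - 1) =
    (∏ i ∈ Finset.range e, ((q ^ 2) ^ (2 * (i + 1)) - 1)) *
      ∏ i ∈ (Finset.range (2 * e)).filter (fun i => ¬ 2 ∣ i + 1), (q ^ (2 * (i + 1)) - 1) := by
  rw [prod_split (fun j => q ^ (2 * j) - 1) two_pos]
  congr 1
  refine Finset.prod_congr rfl fun i _ => ?_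
  rw [← pow_mul]

theorem exists_of_dvd_filter {q e r : ℕ} [hr : Fact r.Prime]
    (h : r ∣ ∏ i ∈ (Finset.range (2 * e)).filter (fun i => ¬ 2 ∣ i + 1), (q ^ (2 * (i + 1)) - 1)) :
    ∃ j, Odd j ∧ j < 2 * e ∧ r ∣ q ^ (2 * j) - 1 := by
  obtain ⟨i, hi, hri⟩ := (hr.out.prime).exists_mem_finset_dvd h
  rw [Finset.mem_filter, Finset.mem_range] at hi
  refine ⟨i + 1, ?_, ?_, hri⟩
  · rw [← Nat.not_even_iff_odd, even_iff_two_dvd]
    exact hi.2
  · omega

theorem prod_pos_two {q : ℕ} (hq : 1 < q) (e : ℕ) :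
    0 < ∏ i ∈ Finset.range e, ((q ^ 2) ^ (2 * (i + 1)) - 1) := by
  refine Finset.prod_pos fun i _ => Nat.sub_pos_of_lt ?_
  exact Nat.one_lt_pow (by omega) (Nat.one_lt_pow (by omega) hq)

/-- even case -/
theorem arith_even {q e r a s A B : ℕ} (hq : 1 < q) [hr : Fact r.Prime] (hrq : ¬ r ∣ q)
    (hra : r ∣ a) (hs : 0 < s)
    (h : a * (2 * (q ^ 2) ^ A * s * ∏ i ∈ Finset.range e, ((q ^ 2) ^ (2 * (i + 1)) - 1)) ∣
      2 * q ^ B * s * ∏ i ∈ Finset.range (2 * e + 1), (q ^ (2 * (i + 1)) - 1)) :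
    ∃ j, Odd j ∧ j < 2 * (e + 1) ∧ r ∣ q ^ (2 * j) - 1 := by
  rw [Finset.prod_range_succ, prod_two] at h
  have hP := prod_pos_two hq e
  set P := ∏ i ∈ Finset.range e, ((q ^ 2) ^ (2 * (i + 1)) - 1)
  set R := ∏ i ∈ (Finset.range (2 * e)).filter (fun i => ¬ 2 ∣ i + 1), (q ^ (2 * (i + 1)) - 1)
    with hR
  have h3 : (2 * s * P) * a ∣ (2 * s * P) * (q ^ B * (R * (q ^ (2 * (2 * e + 1)) - 1))) := by
    refine Dvd.dvd.trans ?_ (h.trans (dvd_of_eq (by ring)))
    exact ⟨(q ^ 2) ^ A, by ring⟩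
  have h4 := hra.trans (Nat.dvd_of_mul_dvd_mul_left (by positivity) h3)
  rcases hr.out.dvd_mul.1 h4 with h5 | h5
  · exact absurd (hr.out.dvd_of_dvd_pow h5) hrq
  · rcases hr.out.dvd_mul.1 h5 with h6 | h6
    · obtain ⟨j, h7, h8, h9⟩ := exists_of_dvd_filter h6
      exact ⟨j, h7, by omega, h9⟩
    · exact ⟨2 * e + 1, ⟨e, rfl⟩, by omega, h6⟩

/-- odd case -/
theorem arith_odd {q e r a s A B : ℕ} (hq : 1 < q) [hr : Fact r.Prime] (hrq : ¬ r ∣ q)
    (hra : r ∣ a)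
    (h : a * (2 * (q ^ 2) ^ A * ∏ i ∈ Finset.range e, ((q ^ 2) ^ (2 * (i + 1)) - 1)) ∣
      2 * q ^ B * s * ∏ i ∈ Finset.range (2 * e), (q ^ (2 * (i + 1)) - 1)) :
    (∃ j, Odd j ∧ j < 2 * e ∧ r ∣ q ^ (2 * j) - 1) ∨ r ∣ s := by
  rw [prod_two] at h
  have hP := prod_pos_two hq e
  set P := ∏ i ∈ Finset.range e, ((q ^ 2) ^ (2 * (i + 1)) - 1)
  set R := ∏ i ∈ (Finset.range (2 * e)).filter (fun i => ¬ 2 ∣ i + 1), (q ^ (2 * (i + 1)) - 1)
    with hR
  have h3 : (2 * P) * a ∣ (2 * P) * (q ^ B * (R * s)) := by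
    refine Dvd.dvd.trans ?_ (h.trans (dvd_of_eq (by ring)))
    exact ⟨(q ^ 2) ^ A, by ring⟩
  have h4 := hra.trans (Nat.dvd_of_mul_dvd_mul_left (by positivity) h3)
  rcases hr.out.dvd_mul.1 h4 with h5 | h5
  · exact absurd (hr.out.dvd_of_dvd_pow h5) hrq
  · rcases hr.out.dvd_mul.1 h5 with h6 | h6
    · exact Or.inl (exists_of_dvd_filter h6)
    · exact Or.inr h6

end Arith

section Cen

variable {F : Type u} [Field F] {V : Type v} [AddCommGroup V] [Module F V] {Q : QuadraticForm F V}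
  {M : V →ₗ[F] V} {μ : F}

/-- isometries commuting with `M` -/
def cenM (Q : QuadraticForm F V) (M : V →ₗ[F] V) : Subgroup (V ≃ₗ[F] V) where
  carrier := {g | g ∈ O Q ∧ ∀ v, g (M v) = M (g v)}
  mul_mem' {a b} ha hb := ⟨mul_mem ha.1 hb.1, fun v => by
    rw [LinearEquiv.mul_apply, LinearEquiv.mul_apply, hb.2, ha.2]⟩
  one_mem' := ⟨one_mem _, fun _ => rfl⟩
  inv_mem' {a} ha := ⟨inv_mem ha.1, fun v => by
    have h2 : ∀ w, a (a⁻¹ w) = w := fun w => LinearEquiv.apply_symm_apply a w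
    apply a.injective
    rw [h2, ha.2, h2]⟩

theorem cenM_le : cenM Q M ≤ O Q := fun _ h => h.1

theorem finite_aut [Finite F] [FiniteDimensional F V] : Finite (V ≃ₗ[F] V) := by
  have : Finite V := Module.finite_of_finite F
  exact Finite.of_injective (fun g : V ≃ₗ[F] V => (g : V → V)) DFunLike.coe_injective

theorem card_dvd_cenM {L : Type w} [Field L] [Algebra F L] [Module L V] [IsScalarTower F L V]
    {t : L →ₗ[F] F} {Qg : QuadraticForm L V} (hQ : ∀ v, Q v = t (Qg v))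
    (hl : ∃ l : L, ∀ v, M v = l • v) : Nat.card (O Qg) ∣ Nat.card (cenM Q M) := by
  obtain ⟨l, hl⟩ := hl
  let f : O Qg →* cenM Q M :=
    { toFun := fun g => ⟨g.1.restrictScalars F, fun v => by
          change Q (g.1 v) = Q v
          rw [hQ, hQ, mem_O.1 g.2], fun v => by
          change g.1 (M v) = M (g.1 v)
          rw [hl, hl, map_smul]⟩
      map_one' := rfl
      map_mul' := fun _ _ => rfl }
  apply Subgroup.card_dvd_of_injective f
  intro g h hgh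
  apply Subtype.ext
  ext v
  have h3 := congrArg (fun x : cenM Q M => x.1 v) hgh
  exact h3

/-- **the index** -/
theorem QM.exists_j [Finite F] [FiniteDimensional F V] (h : QM Q M μ) (h2 : (2 : F) ≠ 0)
    (hns : ¬ IsSquare μ) {d : ℕ} (hd : 2 ≤ d) (hfr : finrank F V = 2 * d)
    {N : Subgroup (V ≃ₗ[F] V)} (hN : cenM Q M ≤ N) {r : ℕ} [Fact r.Prime]
    (hr : ¬ r ∣ Nat.card F) (hra : r ∣ N.relIndex (E Q)) :
    (∃ j, Odd j ∧ j < d ∧ r ∣ Nat.card F ^ (2 * j) - 1) ∨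
      (Odd d ∧ (IsPlus Q → r ∣ Nat.card F ^ d - 1) ∧ (¬ IsPlus Q → r ∣ Nat.card F ^ d + 1)) := by
  obtain ⟨L, _, _, _, _, t, Qg, hL, ht0, hQ, hpol, hQg, h2L, hl, -⟩ := h.exists_L h2 hns
  have hfL : FiniteDimensional F L := Module.finite_of_finrank_pos (by omega)
  have hfLV : FiniteDimensional L V := finiteDimensional_L (F := F)
  have hLf : Finite L := Module.finite_of_finite F
  have hfin : Finite (V ≃ₗ[F] V) := finite_aut
  have hLc : Nat.card L = Nat.card F ^ 2 := by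
    rw [Module.natCard_eq_pow_finrank (K := F) (V := L), hL]
  have hdL : finrank L V = d := by
    have h3 := Module.finrank_mul_finrank F L V
    rw [hL, hfr] at h3
    omega
  have h3 : N.relIndex (E Q) * Nat.card (O Qg) ∣ Nat.card (O Q) :=
    (Nat.mul_dvd_mul_left _ (card_dvd_cenM hQ hl)).trans
      (relIndex_mul_card_dvd cenM_le E_le_O (fun g hg e he => conj_mem_E hg he) hN)
  have hq1 : 1 < Nat.card F := Finite.one_lt_card
  obtain ⟨a, ha⟩ : ∃ a, a = N.relIndex (E Q) := ⟨_, rfl⟩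
  rw [← ha] at h3 hra
  rcases Nat.even_or_odd' d with ⟨e, he | he⟩
  · -- `d` even
    left
    obtain ⟨k, rfl⟩ := Nat.exists_eq_succ_of_ne_zero (show e ≠ 0 by omega)
    have hty := isPlus_trace_iff hL ht0 hQ h.nd hQg (e := k + 1) (by rw [hdL, he])
    have hk1 : d - 1 = 2 * k + 1 := by omega
    by_cases hP : IsPlus Q
    · rw [card_O_of_isPlus h.nd (m := d) (by omega) hfr hP,
        card_O_of_isPlus hQg (m := k + 1) (by omega) (by rw [hdL, he]) (hty.1 hP), hLc, hk1] at h3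
      have h4 : (Nat.card F ^ 2) ^ (k + 1) = Nat.card F ^ d := by rw [← pow_mul, he]
      rw [h4] at h3
      obtain ⟨j, hj1, hj2, hj3⟩ := arith_even hq1 hr hra (Nat.sub_pos_of_lt
        (Nat.one_lt_pow (by omega) hq1)) h3
      exact ⟨j, hj1, by omega, hj3⟩
    · rw [card_O_of_not_isPlus h.nd (m := d) hfr hP,
        card_O_of_not_isPlus hQg (m := k + 1) (by rw [hdL, he]) (fun hc => hP (hty.2 hc)), hLc,
        hk1] at h3
      have h4 : (Nat.card F ^ 2) ^ (k + 1) = Nat.card F ^ d := by rw [← pow_mul, he]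
      rw [h4] at h3
      obtain ⟨j, hj1, hj2, hj3⟩ := arith_even hq1 hr hra (Nat.succ_pos _) h3
      exact ⟨j, hj1, by omega, hj3⟩
  · -- `d` odd
    have hk1 : d - 1 = 2 * e := by omega
    have hOg := card_O_odd h2L hQg (m := e) (by rw [hdL, he])
    rw [hLc] at hOg
    rw [hOg] at h3
    by_cases hP : IsPlus Q
    · rw [card_O_of_isPlus h.nd (m := d) (by omega) hfr hP, hk1] at h3
      rcases arith_odd hq1 hr hra h3 with ⟨j, hj1, hj2, hj3⟩ | h5
      · exact Or.inl ⟨j, hj1, by omega, hj3⟩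
      · exact Or.inr ⟨⟨e, he⟩, fun _ => h5, fun hc => absurd hP hc⟩
    · rw [card_O_of_not_isPlus h.nd (m := d) hfr hP, hk1] at h3
      rcases arith_odd hq1 hr hra h3 with ⟨j, hj1, hj2, hj3⟩ | h5
      · exact Or.inl ⟨j, hj1, by omega, hj3⟩
      · exact Or.inr ⟨⟨e, he⟩, fun hc => absurd hc hP, fun _ => h5⟩

end Cen

end Cfsg.Agent.H955
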