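import Mathlib
import Cfsg.Agent.H955.QM4

/-!
# Elements of odd prime order and self-adjoint quadratic extensions
-/

set_option autoImplicit false

namespace Cfsg.Agent.H955

open Module QuadraticMap Cfsg.Agent.LieClassical.OrthCore Cfsg.Agent.LieClassical.OrthTrans
open Cfsg.Agent.LieClassical.OrthFinite

universe u v w

variable {F : Type u} [Field F] {V : Type v} [AddCommGroup V] [Module F V] {Q : QuadraticForm F V}

theorem nondeg_res_top (hQ : Nondeg Q) : Nondeg (res Q (⊤ : Submodule F V)) :=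
  nondeg_res_iff.2 fun x _ hx => hQ x fun y => hx y trivial

theorem isPlus_res_top : IsPlus (res Q (⊤ : Submodule F V)) ↔ IsPlus Q :=
  isPlus_iff_of_equiv (Submodule.topEquiv) fun _ => rfl

/-- scalars in the isometry group have square one -/
theorem scalar_sq_O (hQ : Nondeg Q) (hd : 0 < finrank F V) {T : V ≃ₗ[F] V} (hT : T ∈ O Q) {z : F}
    (hz : ∀ v, T v = z • v) : z * z = 1 := by
  obtain ⟨v, hv⟩ := exists_nonsingular hQ hd
  have h3 := mem_O.1 hT v
  rw [hz, QuadraticMap.map_smul, smul_eq_mul] at h3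
  exact mul_right_cancel₀ hv (by rw [h3, one_mul])

/-- the commutator space of a scalar -/
theorem comS_of_scalar {T : V ≃ₗ[F] V} {z : F} (h : ∀ v, T v = z • v) : comS T = ⊥ ∨ comS T = ⊤ := by
  by_cases hz : z = 1
  · left
    rw [Submodule.eq_bot_iff]
    intro x hx
    obtain ⟨v, rfl⟩ := mem_comS.1 hx
    rw [h, hz, one_smul, sub_self]
  · right
    rw [eq_top_iff]
    intro v _
    refine mem_comS.2 ⟨(z - 1)⁻¹ • v, ?_⟩
    rw [h, smul_smul, ← sub_smul, ← sub_one_mul, mul_inv_cancel₀ (sub_ne_zero.2 hz), one_smul]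

/-- **no odd prime** -/
theorem QM.false_of_odd [Finite F] [FiniteDimensional F V] {M : V →ₗ[F] V} {μ : F} (h : QM Q M μ)
    (h2 : (2 : F) ≠ 0) (hns : ¬ IsSquare μ) (hG : Good Q) {d : ℕ} (hd : 4 ≤ d)
    (hfr : finrank F V = 2 * d) {N : Subgroup (V ≃ₗ[F] V)} (hN : cenM Q M ≤ N) {r : ℕ}
    [hrp : Fact r.Prime] (hr2 : r ≠ 2) (hra : r ∣ N.relIndex (E Q))
    (hall : ∀ T ∈ E Q, T ^ r = 1 → (∀ z : F, ∃ v, T v ≠ z • v) →
      ∃ g ∈ E Q, ∀ v, (g⁻¹ * T * g) (M v) = M ((g⁻¹ * T * g) v)) : False := by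
  have hro : Odd r := hrp.out.odd_of_ne_two hr2
  have hr3 : 2 < r := lt_of_le_of_ne hrp.out.two_le (Ne.symm hr2)
  by_cases hrq : r ∣ Nat.card F
  · have hrF : (r : F) = 0 := by
      obtain ⟨p, hp⟩ := CharP.exists F
      have := Fintype.ofFinite F
      have hpp : Fact p.Prime := ⟨CharP.char_is_prime F p⟩
      obtain ⟨n, -, hn⟩ := FiniteField.card F p
      rw [Nat.card_eq_fintype_card, hn] at hrq
      rw [(Nat.prime_dvd_prime_iff_eq hrp.out hpp.out).1 (hrp.out.dvd_of_dvd_pow hrq)]
      exact CharP.cast_eq_zero F p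
    obtain ⟨T, hT, hTr, hTs, hTd⟩ := exists_siegel_two hG hrF
    obtain ⟨g, hg, hgM⟩ := hall T hT hTr (by
      intro z
      by_contra hcon
      push Not at hcon
      rcases comS_of_scalar hcon with h3 | h3
      · rw [h3, finrank_bot] at hTd
        omega
      · rw [h3, finrank_top] at hTd
        omega)
    refine h.not_comm_of_tsing h2 hns (T := g⁻¹ * T * g)
      (E_le_O (mul_mem (mul_mem (inv_mem hg) hT) hg)) ?_ (by rw [finrank_comS_conj, hTd]) hgM
    intro w hw
    rw [comS_conj] at hw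
    obtain ⟨u, hu, rfl⟩ := hw
    have h3 := mem_O.1 (inv_mem (E_le_O hg)) u
    change Q (g⁻¹ u) = 0
    rw [h3]
    exact hTs u hu
  · have hrF := natCast_ne_zero_of_not_dvd hrq
    have hcpos := cc_pos (q := Nat.card F) hrq
    have hq1 : 1 < Nat.card F := Finite.one_lt_card
    -- it is enough to find the space
    have key : ∀ (m : ℕ) (W : Submodule F V), cc (Nat.card F) r = 2 * m → Odd m →
        Nondeg (H955.res Q W) → finrank F W = 2 * m →
        (IsPlus (H955.res Q W) ↔ Odd (orderOf (Nat.card F : ZMod r))) → False := by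
      intro m W hm hmo hW hWd hWP
      obtain ⟨T, hT, hTr, hTc, -⟩ := exists_comS_eq hr3 hrq hW (s := 1)
        (by rw [mul_one, hm, hWd]) (by rw [hWP]; simp)
      obtain ⟨g, hg, hgM⟩ := hall T (mem_E_of_odd hG hT hro hTr) hTr (by
        intro z
        by_contra hcon
        push Not at hcon
        have h3 := comS_eq_bot_of_scalar hcon (scalar_sq_O h.nd (by omega) hT hcon) hro hTr
        rw [hTc] at h3
        rw [h3, finrank_bot] at hWd
        omega)
      have h4 := h.four_dvd h2 hns (T := g⁻¹ * T * g)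
        (mul_mem (mul_mem (inv_mem (E_le_O hg)) hT) (E_le_O hg)) hro hrF (conj_pow_eq_one hTr) hgM
      rw [finrank_comS_conj, hTc, hWd] at h4
      obtain ⟨k, hk⟩ := hmo
      omega
    have hcc : ∀ j, Odd j → r ∣ Nat.card F ^ (2 * j) - 1 →
        ∃ m, cc (Nat.card F) r = 2 * m ∧ Odd m ∧ m ≤ j := by
      intro j hj hrj
      have hcj : cc (Nat.card F) r ∣ 2 * j := by
        rw [cc_dvd_iff (even_two_mul j), ← dvd_pow_sub_one_iff (by omega)]
        exact hrj
      obtain ⟨m, hm⟩ := even_cc (Nat.card F) r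
      have hm' : cc (Nat.card F) r = 2 * m := by omega
      rw [hm'] at hcj
      have hmj := Nat.dvd_of_mul_dvd_mul_left two_pos hcj
      exact ⟨m, hm', hj.of_dvd_nat hmj, Nat.le_of_dvd hj.pos hmj⟩
    have hsmall : ∀ m, cc (Nat.card F) r = 2 * m → Odd m → m < d → False := by
      intro m hm hmo hmd
      obtain ⟨W, hW, hWd, hWP⟩ := exists_subspace h.nd ⟨d, by omega⟩ m hmo.pos (by omega)
        (Odd (orderOf (Nat.card F : ZMod r)))
      exact key m W hm hmo hW hWd hWP
    rcases h.exists_j h2 hns (by omega) hfr hN hrq hra with ⟨j, hjo, hjd, hrj⟩ | ⟨hdo, hp, hm⟩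
    · obtain ⟨m, hm, hmo, hmj⟩ := hcc j hjo hrj
      exact hsmall m hm hmo (by omega)
    · have hr2d : r ∣ Nat.card F ^ (2 * d) - 1 := by
        have h3 : Nat.card F ^ (2 * d) - 1 = (Nat.card F ^ d + 1) * (Nat.card F ^ d - 1) := by
          rw [mul_comm 2, pow_mul, ← Nat.sq_sub_sq, one_pow]
        rw [h3]
        by_cases hP : IsPlus Q
        · exact Dvd.dvd.mul_left (hp hP) _
        · exact Dvd.dvd.mul_right (hm hP) _
      obtain ⟨m, hmc, hmo, hmj⟩ := hcc d hdo hr2d
      rcases Nat.lt_or_ge m d with hlt | hge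
      · exact hsmall m hmc hmo hlt
      · have hmd : m = d := le_antisymm hmj hge
        subst hmd
        refine key m ⊤ hmc hmo (nondeg_res_top h.nd) (by rw [finrank_top, hfr]) ?_
        rw [isPlus_res_top]
        by_cases hP : IsPlus Q
        · rw [iff_true_left hP]
          have h3 := (dvd_pow_sub_one_iff (by omega)).1 (hp hP)
          exact hdo.of_dvd_nat h3
        · rw [iff_false_left hP]
          intro hio
          have h3 := (dvd_pow_sub_one_iff (by omega)).1 hr2d
          have h4 : orderOf (Nat.card F : ZMod r) ∣ m :=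
            (Nat.Coprime.dvd_mul_left (Nat.coprime_two_right.2 hio)).1 h3
          have h5 := (dvd_pow_sub_one_iff (show 0 < Nat.card F by omega)).2 h4
          have h6 := (Nat.dvd_add_right h5).1 (by
            have h7 := hm hP
            have h8 : Nat.card F ^ m + 1 = (Nat.card F ^ m - 1) + 2 := by
              have : 1 ≤ Nat.card F ^ m := Nat.one_le_pow _ _ (by omega)
              omega
            rwa [h8] at h7)
          have := Nat.le_of_dvd two_pos h6
          omega

end Cfsg.Agent.H955
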